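import Cfsg.Agent.Lib.Recog.SubThree.QDGroups
import Cfsg.Agent.Lib.Invol.QDTransfer
import Cfsg.Agent.Lib.GW.Final
import Cfsg.Agent.Lib.Classical.ProjLine
import Cfsg.Agent.S3224

/-!
# Simple groups with a self-centralizing four group normalized by elements of order three
-/

set_option autoImplicit false
set_option linter.unusedSectionVars false

namespace CfsgLib.Recog.SubThree

open Subgroup CfsgLib.Invol

universe u

theorem sixteen_residue {q : ℕ} (hq : Odd q) (h : 32 ∣ (q - 1) * (q + 1)) :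
    q % 16 = 1 ∨ q % 16 = 15 := by
  obtain ⟨j, rfl⟩ := hq
  rw [Nat.add_sub_cancel, show 2 * j * (2 * j + 1 + 1) = 4 * (j * (j + 1)) by ring] at h
  have h8 : 8 ∣ j * (j + 1) := Nat.dvd_of_mul_dvd_mul_left (by norm_num : 0 < 4) (show 4 * 8 ∣ _ from h)
  have h2 : j % 8 = 0 ∨ j % 8 = 7 := by
    have key : ∀ r < 8, (r * (r + 1)) % 8 = 0 → r = 0 ∨ r = 7 := by decide
    refine key _ (Nat.mod_lt _ (by norm_num)) ?_
    obtain ⟨c, hc⟩ := h8
    rw [Nat.mul_mod, Nat.mod_mod, ← Nat.mul_mod, Nat.mul_mod, Nat.add_mod, Nat.mod_mod, ← Nat.add_mod,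
      ← Nat.mul_mod, hc, Nat.mul_mod_right]
  omega

variable {G : Type u} [Group G] [Finite G]

/-- The case of dihedral Sylow subgroups. -/
theorem dihedral_simple [IsSimpleGroup G] (hG : ¬ IsMulCommutative G) (hd : CfsgLib.GW.DihTwo G)
    (h16 : 16 ∣ Nat.card G) :
    ∃ (F : Type) (_ : Field F) (_ : Fintype F), Odd (Fintype.card F) ∧
      (Fintype.card F % 16 = 1 ∨ Fintype.card F % 16 = 15) ∧
      Nonempty (G ≃* Matrix.ProjectiveSpecialLinearGroup (Fin 2) F) := by
  haveI : Group.IsPerfect G := by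
    rw [Group.isPerfect_def]
    refine (Normal.eq_bot_or_eq_top inferInstance).resolve_left fun e => hG ⟨⟨fun a b => ?_⟩⟩
    have : a * b * a⁻¹ * b⁻¹ ∈ commutator G := by
      rw [_root_.commutator_def, ← commutatorElement_def]
      exact commutator_mem_commutator (mem_top a) (mem_top b)
    rw [e, mem_bot, mul_inv_eq_one, mul_inv_eq_iff_eq_mul] at this
    exact this
  have hO : Cfsg.oddCore G = ⊥ := by
    refine (Normal.eq_bot_or_eq_top inferInstance).resolve_right fun e => ?_
    have h1 := CfsgLib.GW.odd_oddCore G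
    rw [e, card_top] at h1
    exact h1.not_two_dvd_nat ((by norm_num : 2 ∣ 16).trans h16)
  have hgw := CfsgLib.GW.gw_perfect G hd
  have e0 : G ≃* G ⧸ Cfsg.oddCore G :=
    QuotientGroup.quotientBot.symm.trans (QuotientGroup.quotientMulEquivOfEq hO.symm)
  rcases hgw with ⟨F, i, j, hodd, -, ⟨e⟩⟩ | ⟨⟨e⟩⟩
  · refine ⟨F, i, j, hodd, sixteen_residue hodd ?_, ⟨e0.trans e⟩⟩
    have hp := CfsgLib.Classical.card_psl2 (F := F)
    rw [← Nat.card_congr (e0.trans e).toEquiv] at hp
    obtain ⟨k, hk⟩ := id hodd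
    rw [show Nat.gcd 2 (Fintype.card F - 1) = 2 from Nat.gcd_eq_left ⟨k, by omega⟩] at hp
    have h32 : 2 ^ 5 ∣ Fintype.card F * ((Fintype.card F - 1) * (Fintype.card F + 1)) := by
      rw [← hp]; exact Nat.mul_dvd_mul_left 2 (show 2 ^ 4 ∣ _ from h16)
    exact (Nat.Coprime.pow_left 5 (Nat.coprime_two_left.2 hodd)).dvd_of_dvd_mul_left h32
  · exfalso
    rw [Nat.card_congr (e0.trans e).toEquiv, nat_card_alternatingGroup, Nat.card_fin] at h16
    norm_num [Nat.factorial] at h16

/-- Simple groups with a self-centralizing four group with normalizer of order 24. -/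
theorem max_class [IsSimpleGroup G] (hG : ¬ IsMulCommutative G) (V : Subgroup G) [IsKleinFour V]
    (hC : centralizer (V : Set G) = V) (hN : Nat.card (normalizer (V : Set G)) = 24)
    (h16 : 16 ∣ Nat.card G) :
    (∃ (F : Type) (_ : Field F) (_ : Fintype F), Odd (Fintype.card F) ∧
      (Fintype.card F % 16 = 1 ∨ Fintype.card F % 16 = 15) ∧
      Nonempty (G ≃* Matrix.ProjectiveSpecialLinearGroup (Fin 2) F)) ∨
    Nonempty (G ≃* Matrix.ProjectiveSpecialLinearGroup (Fin 3) (ZMod 3)) ∨ Cfsg.Spor.IsoM11 G := by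
  classical
  haveI : Fact (Nat.Prime 2) := ⟨Nat.prime_two⟩
  set N := normalizer (V : Set G) with hNdef
  have hV4 : Nat.card V = 4 := IsKleinFour.card_four
  have hVc : ∀ v ∈ V, ∀ w ∈ V, Commute v w := fun v hv w hw =>
    mem_centralizer_iff.1 (hC.symm ▸ hw : w ∈ centralizer (V : Set G)) v hv
  have hVN : V ≤ N := le_normalizer
  obtain ⟨T⟩ : Nonempty (Sylow 2 N) := inferInstance
  set T' := (T : Subgroup N).map N.subtype with hT'
  have hT8 : Nat.card T' = 8 := by
    rw [hT', ← Nat.card_congr ((T : Subgroup N).equivMapOfInjective _ N.subtype_injective).toEquiv,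
      Sylow.card_eq_multiplicity, hN, show (24 : ℕ) = 2 ^ 3 * 3 by norm_num,
      Nat.factorization_mul (by norm_num) (by norm_num), Finsupp.add_apply,
      Nat.Prime.factorization_pow Nat.prime_two, Finsupp.single_eq_same,
      Nat.factorization_eq_zero_of_not_dvd (by norm_num : ¬ 2 ∣ 3)]
    norm_num
  have hVT : V ≤ T' := by
    have hp : IsPGroup 2 (V.subgroupOf N) := IsPGroup.of_card (n := 2) (by
      rw [Nat.card_congr (subgroupOfEquivOfLe hVN).toEquiv, hV4]; norm_num)
    haveI : (V.subgroupOf N).Normal := (normal_subgroupOf_iff_le_normalizer hVN).2 le_rfl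
    obtain ⟨P, hP⟩ := hp.exists_le_sylow
    obtain ⟨g, hg⟩ := MulAction.exists_smul_eq N P T
    intro v hv
    refine ⟨⟨v, hVN hv⟩, ?_, rfl⟩
    rw [← hg]
    have hmem : (g⁻¹ * ⟨v, hVN hv⟩ * g : N) ∈ (P : Subgroup N) := hP (by
      have := (inferInstance : (V.subgroupOf N).Normal).conj_mem ⟨v, hVN hv⟩ (mem_subgroupOf.2 hv) g⁻¹
      rwa [inv_inv] at this)
    exact ⟨_, hmem, by simp [mul_assoc]⟩
  have hT'p : IsPGroup 2 T' := IsPGroup.of_card (n := 3) (by rw [hT8]; norm_num)
  have hT'N : T' ≤ N := map_subtype_le _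
  obtain ⟨S, hS⟩ := hT'p.exists_le_sylow
  have hSN : (S : Subgroup G) ⊓ N = T' := by
    refine (eq_of_le_of_card_ge (le_inf hS hT'N) ?_).symm
    obtain ⟨m, hm⟩ := IsPGroup.iff_card.1 (S.2.to_le (inf_le_left : (S : Subgroup G) ⊓ N ≤ S))
    have hd : 2 ^ m ∣ 2 ^ 3 * 3 := by
      rw [← hm, show 2 ^ 3 * 3 = Nat.card N by rw [hN]; norm_num]
      exact card_dvd_of_le inf_le_right
    rw [hT8, hm]
    exact Nat.le_of_dvd (by norm_num)
      ((Nat.Coprime.pow_left m (by norm_num : Nat.Coprime 2 3)).dvd_of_dvd_mul_right hd)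
  obtain ⟨x, hxV, hnc⟩ : ∃ x ∈ V, ∃ t ∈ T', ¬ Commute t x := by
    by_contra! hall
    have := card_le_of_le (show T' ≤ V from fun t ht => hC ▸ mem_centralizer_iff.2 fun v hv =>
      (hall v hv t ht).symm.eq)
    omega
  obtain ⟨t, htT, htx⟩ := hnc
  have hx1 : x ≠ 1 := fun e => htx (e ▸ Commute.one_right t)
  have hx : orderOf x = 2 := by
    refine orderOf_eq_prime ?_ hx1
    have := Monoid.pow_exponent_eq_one (⟨x, hxV⟩ : V)
    rw [IsKleinFour.exponent_two] at this
    exact congrArg Subtype.val this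
  have hxS : x ∈ (S : Subgroup G) := hS (hVT hxV)
  -- the centralizer of `x` in `S`
  have hA : (S : Subgroup G) ⊓ centralizer ({x} : Set G) = V := by
    set A := (S : Subgroup G) ⊓ centralizer ({x} : Set G) with hAdef
    have hVA : V ≤ A := le_inf (hVT.trans hS) fun v hv =>
      mem_centralizer_singleton_iff.2 (hVc v hv x hxV).eq
    by_contra hne
    have hlt : V.subgroupOf A < ⊤ := lt_top_iff_ne_top.2 fun e =>
      hne (le_antisymm (subgroupOf_eq_top.1 e) hVA)
    haveI : Group.IsNilpotent A := (S.2.to_le inf_le_left).isNilpotent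
    obtain ⟨d, hdn, hd⟩ := SetLike.exists_of_lt (Group.normalizerCondition_of_isNilpotent _ hlt)
    have hdN : (d : G) ∈ N := mem_normalizer_iff.2 fun v => by
      constructor
      · intro hv
        exact mem_subgroupOf.1 ((mem_normalizer_iff.1 hdn ⟨v, hVA hv⟩).1 (mem_subgroupOf.2 hv))
      · intro hv
        have := (mem_normalizer_iff.1 (inv_mem hdn) ⟨_, hVA hv⟩).1 (mem_subgroupOf.2 hv)
        have h' := mem_subgroupOf.1 this
        simpa [mul_assoc] using h'
    have hdV : (d : G) ∉ V := fun e => hd (mem_subgroupOf.2 e)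
    have hdT : (d : G) ∈ T' := hSN ▸ ⟨d.2.1, hdN⟩
    -- then `T'` centralizes `x`
    set K := T' ⊓ centralizer ({x} : Set G) with hK
    have hKV : V < K := lt_of_le_of_ne (le_inf hVT (hVA.trans inf_le_right)) fun e =>
      hdV (e.symm.le ⟨hdT, d.2.2⟩)
    have hKT : K = T' := by
      refine eq_of_le_of_card_ge inf_le_left ?_
      obtain ⟨m, hm⟩ := card_dvd_of_le hKV.le
      have hne4 : Nat.card V ≠ Nat.card K := fun e => hKV.ne (eq_of_le_of_card_ge hKV.le e.ge)
      have hpos : 0 < Nat.card K := Nat.card_pos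
      rw [hV4] at hm hne4
      rw [hT8]
      rcases m with _ | _ | m <;> omega
    exact htx (mem_centralizer_singleton_iff.1 ((hKT.symm.le htT).2))
  have hCS : Nat.card (centralizer ({(⟨x, hxS⟩ : (S : Subgroup G))} : Set (S : Subgroup G))) = 4 := by
    rw [show centralizer ({(⟨x, hxS⟩ : (S : Subgroup G))} : Set (S : Subgroup G)) =
      ((S : Subgroup G) ⊓ centralizer ({x} : Set G)).subgroupOf S from ?_]
    · rw [Nat.card_congr (subgroupOfEquivOfLe inf_le_left).toEquiv, hA, hV4]
    · ext y
      rw [mem_centralizer_singleton_iff, mem_subgroupOf, mem_inf, mem_centralizer_singleton_iff,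
        Subtype.ext_iff]
      simp [y.2]
  have hS16 : 16 ≤ Nat.card (S : Subgroup G) := by
    obtain ⟨A, hA16⟩ := Sylow.exists_subgroup_card_pow_prime 2 (n := 4) (show 2 ^ 4 ∣ Nat.card G from h16)
    obtain ⟨P, hP⟩ := (IsPGroup.of_card hA16).exists_le_sylow
    have := card_le_of_le hP
    rw [hA16, Nat.card_congr (Sylow.equiv P S).toEquiv] at this
    simpa using this
  have hx' : orderOf (⟨x, hxS⟩ : (S : Subgroup G)) = 2 := by rw [orderOf_mk, hx]
  rcases Cfsg.Agent.S3224.result S.2 ⟨x, hxS⟩ hx' hCS with ⟨n, ⟨f⟩⟩ | hqd | h4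
  · refine Or.inl (dihedral_simple hG (CfsgLib.GW.dihTwo_of_sylow S ?_ f) h16)
    rw [Nat.card_congr f.toEquiv, DihedralGroup.nat_card] at hS16
    omega
  · right
    obtain ⟨k, ra, rb, -, -, Q⟩ := CfsgLib.Invol.exists_qdFrame hqd
    set h : ℤ := 2 ^ (k - 2)
    have hno2 : ∀ K : Subgroup G, K.index ≠ 2 := by
      intro K hK
      rcases (normal_of_index_eq_two hK).eq_bot_or_eq_top with e | e
      · rw [e, index_bot] at hK
        obtain ⟨c, hc⟩ := h16
        omega
      · rw [e, index_top] at hK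
        norm_num at hK
    have h2 : FusedTwo ra rb h := by
      by_contra hn
      obtain ⟨K, hK, -⟩ := Q.exists_index_two_two hn
      exact hno2 K hK
    have h4' : FusedFour ra rb h := by
      by_contra hn
      obtain ⟨K, hK, -⟩ := Q.exists_index_two_four hn
      exact hno2 K hK
    set z := rotG ra (2 * h) with hz
    have hzo : orderOf z = 2 := Q.orderOf_centerG
    have hconj : ∀ u : G, orderOf u = 2 → IsConj z u := fun u hu =>
      ((Q.invol_conj_cases hu).elim id fun hc => hc.trans (Q.fusedTwo_iff.1 h2)).symm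
    have hzc : ∀ s ∈ (S : Subgroup G), Commute s z := fun s hs => Q.commute_center hs
    have hzV : z ∈ V := hA ▸ ⟨rotG_mem ra _, mem_centralizer_singleton_iff.2 (hzc x hxS).symm.eq⟩
    have hxz : x ≠ z := fun e => htx (e ▸ hzc t (hS htT))
    obtain ⟨i, hi, hxi⟩ := (Q.invol_casesG hxS hx).resolve_left hxz
    set q := rotG ra h with hq
    have hqq : q * q = z := CfsgLib.Invol.QDFrame.sq_quarter
    have hqi : rotG ra (-h) = q * z := by
      rw [hq, hz, ← rotG_add, Q.rotG_eq_iff]
      exact ⟨1, by ring⟩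
    have hVset : ∀ g ∈ V, g = 1 ∨ g = z ∨ g = x ∨ g = x * z := by
      intro g hg
      have h1 : (x * z) ≠ 1 := fun e => hxz (by
        rw [eq_inv_of_mul_eq_one_left e, inv_eq_of_mul_eq_one_right (invol_mul_self hzo)])
      have hcard : ({1, z, x, x * z} : Finset G).card = 4 := by
        have hz1 : z ≠ 1 := invol_ne_one hzo
        have e1 : z ≠ x * z := fun e => hx1 (mul_eq_right.1 e.symm)
        have e2 : x ≠ x * z := fun e => hz1 (mul_eq_left.1 e.symm)
        rw [Finset.card_insert_of_notMem, Finset.card_insert_of_notMem, Finset.card_pair e2]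
        · simp only [Finset.mem_insert, Finset.mem_singleton, not_or]
          exact ⟨hxz.symm, e1⟩
        · simp only [Finset.mem_insert, Finset.mem_singleton, not_or]
          exact ⟨hz1.symm, hx1.symm, h1.symm⟩
      have hsub : (({1, z, x, x * z} : Finset G) : Set G) ⊆ V := by
        intro w hw
        simp only [Finset.coe_insert, Finset.coe_singleton, Set.mem_insert_iff, Set.mem_singleton_iff] at hw
        rcases hw with rfl | rfl | rfl | rfl
        exacts [V.one_mem, hzV, hxV, V.mul_mem hxV hzV]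
      have heq := Set.eq_of_subset_of_ncard_le hsub (by
        rw [Set.ncard_coe_finset, hcard, ← Nat.card_coe_set_eq]
        exact hV4.le)
      have : g ∈ (({1, z, x, x * z} : Finset G) : Set G) := heq ▸ hg
      simpa using this
    have hxq : x * q * x⁻¹ = q * z := by
      rcases Q.conj_quarterG hxS with e | e
      · exfalso
        have hqV : q ∈ V := hA ▸ ⟨rotG_mem ra _,
          mem_centralizer_singleton_iff.2 (mul_inv_eq_iff_eq_mul.1 e).symm⟩
        have := Monoid.pow_exponent_eq_one (⟨q, hqV⟩ : V)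
        rw [IsKleinFour.exponent_two] at this
        have h' : q ^ 2 = 1 := congrArg Subtype.val this
        rw [pow_two, hqq] at h'
        exact invol_ne_one hzo h'
      · rw [e, hqi]
    obtain ⟨g, hg⟩ := isConj_iff.1 (Q.fusedFour_iff.1 h4').symm
    set o := refG ra rb 1 with ho
    have hoo : o * o = z := Q.sq_refG_odd (by norm_num)
    have hgz : Commute g z := mul_inv_eq_iff_eq_mul.1 (by
      calc g * z * g⁻¹ = g * q * g⁻¹ * (g * q * g⁻¹) := by rw [← hqq]; group
        _ = z := by rw [hg, hoo])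
    have hmem : ∀ s ∈ (S : Subgroup G), s ∈ centralizer ({z} : Set G) := fun s hs =>
      mem_centralizer_singleton_iff.2 (hzc s hs).eq
    let zC : centralizer ({z} : Set G) := ⟨z, mem_centralizer_singleton_iff.2 rfl⟩
    let xC : centralizer ({z} : Set G) := ⟨x, hmem x hxS⟩
    let qC : centralizer ({z} : Set G) := ⟨q, hmem q (rotG_mem ra _)⟩
    let oC : centralizer ({z} : Set G) := ⟨o, hmem o (refG_mem ra rb _)⟩
    have hQ : QDCentre zC xC qC oC := by
      refine ⟨by rw [orderOf_mk, hzo], fun w => Subtype.ext (mem_centralizer_singleton_iff.1 w.2),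
        by rw [orderOf_mk, hx], fun e => hxz (congrArg Subtype.val e), fun w hw => ?_, fun u hu hne => ?_,
        Subtype.ext hqq, Subtype.ext hxq, ?_, ?_, ?_⟩
      · have hwx : Commute (w : G) x := congrArg Subtype.val hw.eq
        have hwz : Commute (w : G) z := mem_centralizer_singleton_iff.1 w.2
        have hwV : (w : G) ∈ V := by
          rw [← hC]
          refine mem_centralizer_iff.2 fun v hv => ?_
          rcases hVset v hv with rfl | rfl | rfl | rfl
          exacts [(Commute.one_left _).eq, hwz.symm.eq, hwx.symm.eq, (hwx.mul_right hwz).symm.eq]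
        rcases hVset _ hwV with e | e | e | e
        exacts [Or.inl (Subtype.ext e), Or.inr (Or.inl (Subtype.ext e)),
          Or.inr (Or.inr (Or.inl (Subtype.ext e))), Or.inr (Or.inr (Or.inr (Subtype.ext e)))]
      · obtain ⟨c, hc⟩ := exists_conj_le_sylow (Q := zpowers u)
          (IsPGroup.of_card (n := 1) (by rw [Nat.card_zpowers, hu, pow_one]))
          (S.subtype (fun s hs => hmem s hs))
        have hcu : ((c * u * c⁻¹ : centralizer ({z} : Set G)) : G) ∈ (S : Subgroup G) := hc u (mem_zpowers u)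
        have hord : orderOf ((c * u * c⁻¹ : centralizer ({z} : Set G)) : G) = 2 := by
          rw [orderOf_coe]; exact invol_conj hu c
        rcases Q.invol_casesG hcu hord with e | ⟨j, hj, e⟩
        · exfalso
          refine hne ?_
          have hzc' : c * u * c⁻¹ = zC := Subtype.ext e
          calc u = c⁻¹ * (c * u * c⁻¹) * c := by group
            _ = zC := by
              rw [hzc']
              exact Subtype.ext (by
                show (c : G)⁻¹ * z * (c : G) = z
                rw [mul_assoc, ← mem_centralizer_singleton_iff.1 c.2, inv_mul_cancel_left])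
        · obtain ⟨l, hl⟩ := Q.exists_conj_ref (i := i) (j := j) (dvd_sub hj hi)
          have hl' : rotG ra l * x * (rotG ra l)⁻¹ = ((c * u * c⁻¹ : centralizer ({z} : Set G)) : G) := by
            rw [e, hxi]
            exact congrArg Subtype.val hl
          refine (isConj_iff.2 ⟨⟨rotG ra l, hmem _ (rotG_mem ra _)⟩, Subtype.ext hl'⟩ :
            IsConj xC (c * u * c⁻¹)).trans (isConj_iff.2 ⟨c⁻¹, by group⟩)
      · exact isConj_iff.2 ⟨⟨g, mem_centralizer_singleton_iff.2 hgz.eq⟩, Subtype.ext hg⟩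
      · obtain ⟨j, hj⟩ := IsPGroup.iff_orderOf.1 S.2
          ⟨q⁻¹ * o, (S : Subgroup G).mul_mem ((S : Subgroup G).inv_mem (rotG_mem ra _)) (refG_mem ra rb _)⟩
        refine ⟨j, ?_⟩
        rw [← orderOf_coe] at hj ⊢
        exact hj
      · refine ⟨fun e => Q.rotG_ne_refG h 1 (congrArg Subtype.val e).symm, fun e => ?_⟩
        have e' : o = q * z := congrArg Subtype.val e
        rw [← hqi] at e'
        exact Q.rotG_ne_refG _ 1 e'.symm
    refine qd_groups hG (z := z) (zC := zC) rfl hQ hconj fun hd => S.not_dvd_index (hd.trans ?_)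
    exact index_dvd_of_le fun s hs => hmem s hs
  · omega

end CfsgLib.Recog.SubThree
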