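import Cfsg.Agent.Lib.GW.Final
import Cfsg.Agent.Lib.GW.Setting
import Cfsg.Agent.Lib.Invol.AltEightSubgroups
import Cfsg.Agent.Lib.Invol.ZStar
import Cfsg.Agent.Lib.FT.NoMinSimple

/-!
# An insoluble group with a soluble core-free maximal subgroup
-/

set_option autoImplicit false
set_option linter.unusedSectionVars false
set_option linter.style.haveILetI false

namespace CfsgLib.Recog.SubThree

open Subgroup CfsgLib.GW

universe u

variable {G : Type u} [Group G] [Finite G] {H : Subgroup G}

/-- `H` is soluble, maximal and core-free in the insoluble group `G`. -/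
structure Prim (H : Subgroup G) : Prop where
  coatom : IsCoatom H
  core : ∀ N : Subgroup G, N.Normal → N ≤ H → N = ⊥
  solH : Group.IsSolvable H
  nsol : ¬ Group.IsSolvable G

theorem Prim.sup_eq_top (h : Prim H) {N : Subgroup G} (hN : N.Normal) (hne : N ≠ ⊥) :
    N ⊔ H = ⊤ :=
  h.coatom.2 _ (lt_of_le_of_ne le_sup_right fun e => hne (h.core N hN (e ▸ le_sup_left)))

theorem Prim.index_eq (h : Prim H) {N : Subgroup G} (hN : N.Normal) (hne : N ≠ ⊥) :
    N.index = N.relIndex H := by
  haveI := hN
  rw [← relIndex_sup_right H N, sup_comm, h.sup_eq_top hN hne, relIndex_top_right]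

theorem Prim.card_eq (h : Prim H) {N : Subgroup G} (hN : N.Normal) (hne : N ≠ ⊥) :
    Nat.card G * Nat.card (N.subgroupOf H) = Nat.card N * Nat.card H := by
  rw [← N.card_mul_index, h.index_eq hN hne, relIndex, mul_assoc, mul_comm (N.subgroupOf H).index,
    card_mul_index]

theorem Prim.quotient_solvable (h : Prim H) {N : Subgroup G} [hN : N.Normal] (hne : N ≠ ⊥) :
    Group.IsSolvable (G ⧸ N) := by
  haveI := h.solH
  refine Group.isSolvable_of_surjective (f := (QuotientGroup.mk' N).comp H.subtype) fun q => ?_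
  obtain ⟨g, rfl⟩ := QuotientGroup.mk'_surjective N q
  have hg : g ∈ N ⊔ H := by rw [h.sup_eq_top hN hne]; exact mem_top g
  rw [mem_sup_of_normal_left] at hg
  obtain ⟨n, hn, y, hy, rfl⟩ := hg
  refine ⟨⟨y, hy⟩, ?_⟩
  simp [(QuotientGroup.eq_one_iff n).2 hn]

theorem Prim.nsol_normal (h : Prim H) {N : Subgroup G} (hN : N.Normal) (hne : N ≠ ⊥) :
    ¬ Group.IsSolvable N := fun hs => by
  haveI := hN
  haveI := hs
  haveI := h.quotient_solvable hne
  refine h.nsol (solvable_of_ker_le_range N.subtype (QuotientGroup.mk' N) ?_)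
  rw [QuotientGroup.ker_mk', range_subtype]

theorem Prim.eq_bot_of_comm (h : Prim H) {N : Subgroup G} (hN : N.Normal)
    (hc : ∀ a ∈ N, ∀ b ∈ N, a * b = b * a) : N = ⊥ := by
  by_contra hne
  refine h.nsol_normal hN hne ?_
  letI : CommGroup N := { (inferInstance : Group N) with
    mul_comm := fun a b => Subtype.ext (hc _ a.2 _ b.2) }
  infer_instance

theorem Prim.centralizer_eq_bot (h : Prim H) {N : Subgroup G} (hN : N.Normal) (hne : N ≠ ⊥) :
    centralizer (N : Set G) = ⊥ := by
  by_contra hC
  haveI := hN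
  haveI hCn : (centralizer (N : Set G)).Normal := inferInstance
  haveI := h.quotient_solvable hne
  have hint : centralizer (N : Set G) ⊓ N = ⊥ := h.eq_bot_of_comm inferInstance fun a ha b hb =>
    (mem_centralizer_iff.1 ha.1 b hb.2).symm
  refine h.nsol_normal hCn hC (solvable_of_solvable_injective
    (f := (QuotientGroup.mk' N).comp (centralizer (N : Set G)).subtype) ?_)
  refine (injective_iff_map_eq_one _).2 fun c hc => Subtype.ext ?_
  have : (c : G) ∈ centralizer (N : Set G) ⊓ N := ⟨c.2, (QuotientGroup.eq_one_iff _).1 hc⟩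
  rwa [hint, mem_bot] at this

theorem Prim.normalizer_eq (h : Prim H) {K : Subgroup G} (hKH : K ≤ H) (hK : K ≠ ⊥)
    (hn : H ≤ normalizer (K : Set G)) : normalizer (K : Set G) = H := by
  by_contra hne
  have := h.coatom.2 _ (lt_of_le_of_ne hn (Ne.symm hne))
  exact hK (h.core K (normalizer_eq_top_iff.1 this) hKH)

theorem Prim.centralizer_eq (h : Prim H) {z : G} (hz : z ∈ H) (hz1 : z ≠ 1)
    (hc : ∀ a ∈ H, a * z = z * a) : centralizer ({z} : Set G) = H := by
  by_contra hne
  have hle : H ≤ centralizer ({z} : Set G) := fun a ha => mem_centralizer_singleton_iff.2 (hc a ha)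
  have htop := h.coatom.2 _ (lt_of_le_of_ne hle (Ne.symm hne))
  have hzc : ∀ g : G, g * z = z * g := fun g => mem_centralizer_singleton_iff.1 (htop ▸ mem_top g)
  haveI : (zpowers z).Normal := ⟨fun n hn g => by
    obtain ⟨i, rfl⟩ := mem_zpowers_iff.1 hn
    rw [← ((show Commute z g from (hzc g).symm).zpow_left i).eq, mul_inv_cancel_right]
    exact zpow_mem (mem_zpowers z) i⟩
  exact hz1 (zpowers_eq_bot.1 (h.core _ inferInstance (zpowers_le.2 hz)))

theorem Prim.oddCore_eq_bot (h : Prim H) {K : Subgroup G} (hK : K.Normal) :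
    Cfsg.oddCore K = ⊥ := by
  haveI := hK
  haveI : (Cfsg.oddCore K).Characteristic := CfsgLib.Coprime.pPrimeCore_characteristic 2
  have hn : ((Cfsg.oddCore K).map K.subtype).Normal := inferInstance
  by_contra hne
  refine h.nsol_normal hn (fun e => hne ((map_eq_bot_iff_of_injective _ K.subtype_injective).1 e)) ?_
  refine CfsgLib.FT.isSolvable_of_odd _ ?_
  rw [← Nat.card_congr (equivMapOfInjective _ _ K.subtype_injective).toEquiv]
  exact CfsgLib.GW.odd_oddCore K

/-- A nontrivial normal subgroup has more than one involution in its Sylow 2-subgroups. -/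
theorem Prim.false_of_unique_invol (h : Prim H) {K : Subgroup G} (hK : K.Normal) (hne : K ≠ ⊥)
    (P : Sylow 2 K) (huniq : ∀ a ∈ (P : Subgroup K), ∀ b ∈ (P : Subgroup K),
      orderOf a = 2 → orderOf b = 2 → a = b) : False := by
  haveI := hK
  haveI : Fact (Nat.Prime 2) := ⟨Nat.prime_two⟩
  have h2 : 2 ∣ Nat.card K := by
    by_contra h2
    exact h.nsol_normal hK hne (CfsgLib.FT.isSolvable_of_odd _ (Nat.odd_iff.2 (Nat.two_dvd_ne_zero.1 h2)))
  obtain ⟨x, hx⟩ := exists_prime_orderOf_dvd_card' 2 h2
  obtain ⟨g, hg⟩ := CfsgLib.Invol.exists_conj_le_sylow (Q := zpowers x)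
    (IsPGroup.of_card (n := 1) (by rw [Nat.card_zpowers, hx, pow_one])) P
  set t := g * x * g⁻¹
  have ht : orderOf t = 2 := CfsgLib.Invol.invol_conj hx g
  have htP : t ∈ (P : Subgroup K) := hg x (mem_zpowers x)
  have hz := CfsgLib.Invol.zstar_of_weakly_closed P ht fun k hk =>
    huniq _ hk _ htP (CfsgLib.Invol.invol_conj ht k) ht
  have hO := h.oddCore_eq_bot hK
  have htc : t ∈ center K := by
    rw [mem_center_iff]
    intro k
    have h1 := hz k
    rw [show Cfsg.pPrimeCore 2 K = ⊥ from hO, mem_bot] at h1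
    have h2 : t * k = k * t := by
      have := mul_inv_eq_one.1 h1
      exact mul_inv_eq_iff_eq_mul.1 this
    exact h2.symm
  haveI : ((center K).map K.subtype).Normal := inferInstance
  have hb := h.eq_bot_of_comm (N := (center K).map K.subtype) inferInstance (by
    rintro _ ⟨a, ha, rfl⟩ _ ⟨b, -, rfl⟩
    exact congrArg Subtype.val (mem_center_iff.1 ha b).symm)
  rw [map_eq_bot_iff_of_injective _ K.subtype_injective] at hb
  rw [hb, mem_bot] at htc
  exact CfsgLib.Invol.invol_ne_one ht htc

/-- The socle when a nontrivial normal subgroup has dihedral Sylow 2-subgroups. -/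
theorem Prim.dih_socle (h : Prim H) {K : Subgroup G} (hK : K.Normal) (hne : K ≠ ⊥) (hd : DihTwo K) :
    ∃ M : Subgroup G, M.Normal ∧ M ≤ K ∧ M ≠ ⊥ ∧ IsSimpleGroup M ∧ IsPSLTwoOrA7 M ∧
      centralizer (M : Set G) = ⊥ := by
  classical
  haveI := hK
  rcases structure_core hd (h.oddCore_eq_bot hK) (gwBelow _) with h2 | h4 | ⟨M, hMn, hMs, -, -, hMc, hMt⟩
  · haveI : Fact (Nat.Prime 2) := ⟨Nat.prime_two⟩
    haveI := h2.isNilpotent
    exact absurd (inferInstance : Group.IsSolvable K) (h.nsol_normal hK hne)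
  · obtain ⟨V, hVn, hV, hVc, hcard⟩ := h4
    exfalso
    haveI := hVn
    refine h.nsol_normal hK hne ?_
    haveI : IsKleinFour V := hV
    haveI hVs : Group.IsSolvable V := by
      haveI : Fact (Nat.Prime 2) := ⟨Nat.prime_two⟩
      haveI := (IsPGroup.of_card (p := 2) (n := 2) hV.card_four).isNilpotent
      infer_instance
    haveI : Group.IsSolvable (K ⧸ V) := by
      refine CfsgLib.Invol.AltEightSubgroups.solvable_of_card_lt_sixty _ rfl ?_
      have h1 := V.card_mul_index
      rw [hV.card_four, index_eq_card] at h1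
      omega
    refine Group.isSolvable_of_ker_le_range V.subtype (QuotientGroup.mk' V) ?_
    rw [QuotientGroup.ker_mk', range_subtype]
  haveI := hMn
  haveI := hMs
  -- every nontrivial normal subgroup of `K` contains `M`
  have hmin : ∀ L : Subgroup K, L.Normal → L ≠ ⊥ → M ≤ L := by
    intro L hL hL0
    haveI := hL
    rcases (inferInstance : (L.subgroupOf M).Normal).eq_bot_or_eq_top with hb | ht
    · exfalso
      apply hL0
      rw [eq_bot_iff, ← hMc]
      intro l hl
      replace hl : l ∈ L := hl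
      refine mem_centralizer_iff.2 fun m hm => ?_
      replace hm : m ∈ M := hm
      have hmem : m * l * m⁻¹ * l⁻¹ ∈ M ⊓ L := ⟨by
        rw [mul_assoc m l, mul_assoc]
        exact mul_mem hm (by simpa [mul_assoc] using hMn.conj_mem _ (inv_mem hm) l),
        L.mul_mem (hL.conj_mem _ hl m) (L.inv_mem hl)⟩
      have hbot : M ⊓ L = ⊥ := by
        rw [subgroupOf_eq_bot] at hb
        exact (hb.symm).eq_bot
      rw [hbot, mem_bot, mul_inv_eq_one, mul_inv_eq_iff_eq_mul] at hmem
      exact hmem
    · exact subgroupOf_eq_top.1 ht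
  haveI hMchar : M.Characteristic := by
    refine characteristic_iff_map_eq.2 fun φ => ?_
    have hn : (M.map φ.toMonoidHom).Normal := hMn.map _ φ.surjective
    have h0 : M.map φ.toMonoidHom ≠ ⊥ := fun e => by
      rw [map_eq_bot_iff_of_injective _ φ.injective] at e
      haveI := hMs.toNontrivial
      exact (M.nontrivial_iff_ne_bot.1 inferInstance) e
    exact (eq_of_le_of_card_ge (hmin _ hn h0)
      (Nat.card_congr (M.equivMapOfInjective φ.toMonoidHom φ.injective).toEquiv).ge).symm
  let e := M.equivMapOfInjective K.subtype K.subtype_injective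
  have hM' : (M.map K.subtype).Normal := inferInstance
  have hne' : M.map K.subtype ≠ ⊥ := fun e' => by
    rw [map_eq_bot_iff_of_injective _ K.subtype_injective] at e'
    haveI := hMs.toNontrivial
    exact (M.nontrivial_iff_ne_bot.1 inferInstance) e'
  exact ⟨_, hM', map_subtype_le _, hne', e.isSimpleGroup_congr.1 hMs, hMt.congr e.symm,
    h.centralizer_eq_bot hM' hne'⟩

end CfsgLib.Recog.SubThree
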