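import Cfsg.Agent.Lib.Char.GLThreeCore.Kernel
import Cfsg.Agent.Lib.Char.GLThreeCent.Main
import Cfsg.Agent.Lib.Char.LThreeThree.Uniq
import Cfsg.Agent.Lib.Char.MEleven.Uniq

/-!
# The simple groups with an involution centralizer isomorphic to `GL(2, 3)`
-/

set_option autoImplicit false
set_option linter.unusedSectionVars false

namespace CfsgLib.Recog.SubThree

open Subgroup CfsgLib.Invol CfsgLib.Char.GLThreeCore
open CfsgLib.Char.GLThreeCent hiding code

universe u

/-- A trivial kernel leaves `PSL(3, 3)` and the Mathieu group of degree eleven. -/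
theorem core_groups {G : Type u} [Group G] [Finite G] [IsSimpleGroup G] (hG : ¬ IsMulCommutative G)
    {z : G} (h : Core z) (hk1 : Nat.card h.ψ.ker = 1) :
    Nonempty (G ≃* Matrix.ProjectiveSpecialLinearGroup (Fin 3) (ZMod 3)) ∨ Cfsg.Spor.IsoM11 G := by
  classical
  haveI : Fintype G := Fintype.ofFinite G
  haveI : Fact (Nat.Prime 3) := ⟨Nat.prime_three⟩
  have hzo : orderOf z = 2 := invol_iff.2 h.invol
  have hsurj := h.surj
  have eC : centralizer ({z} : Set G) ≃* GL (Fin 2) (ZMod 3) :=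
    MulEquiv.ofBijective h.ψ ⟨(MonoidHom.ker_eq_bot_iff h.ψ).1 (card_eq_one.1 hk1), hsurj⟩
  have hno2 : ∀ K : Subgroup G, K.index ≠ 2 := by
    intro K hK
    rcases (normal_of_index_eq_two hK).eq_bot_or_eq_top with e' | e'
    · rw [e', index_bot] at hK
      haveI : Fact (Nat.Prime 2) := ⟨Nat.prime_two⟩
      haveI := isCyclic_of_prime_card hK
      exact hG ⟨⟨fun a b => by
        obtain ⟨g, hg⟩ := IsCyclic.exists_generator (α := G)
        obtain ⟨i, rfl⟩ := mem_zpowers_iff.1 (hg a)
        obtain ⟨j, rfl⟩ := mem_zpowers_iff.1 (hg b)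
        exact (zpow_mul_comm g i j)⟩⟩
    · rw [e', index_top] at hK
      norm_num at hK
  obtain ⟨el, hel⟩ := CfsgLib.Char.GLThreeCent.exists_emb z hzo eC
  rcases hel.card_eq hno2 with h' | h'
  · exact Or.inl (CfsgLib.Char.LThreeThree.iso_psl z hzo eC h' hno2)
  · exact Or.inr (CfsgLib.Char.MEleven.iso_m11 z hzo eC h' hno2)

end CfsgLib.Recog.SubThree
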