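import Cfsg.Agent.Lib.Recog.SubThree.PSLFour
import Cfsg.Agent.Lib.GW.OuterTori
import Mathlib.FieldTheory.Finite.Basic

/-!
# A maximal normalizer of a four group; outer involutory automorphisms of `PSL(2, F)`
-/

set_option autoImplicit false
set_option linter.unusedSectionVars false
set_option linter.style.haveILetI false

namespace CfsgLib.Recog.SubThree

open Matrix Subgroup CfsgLib.AutPSL CfsgLib.GW

variable {F : Type*} [Field F] [Fintype F]

local notation "PS" => Matrix.ProjectiveSpecialLinearGroup (Fin 2) F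

theorem fixed_proper {σ : RingAut F} (hσ : σ ≠ 1) : ∃ x : PS, fieldHom σ x ≠ x := by
  by_contra! hall
  refine hσ (eq_one_of_ind_eq_one le_rfl (g := (1 : GL (Fin 2) F)) ?_).1
  exact MulEquiv.ext hall

theorem odd_card_fixK (h2 : (2 : F) ≠ 0) (σ : RingAut F) : Odd (Nat.card (fixK σ)) := by
  haveI : Fintype (fixK σ) := Fintype.ofFinite _
  rw [Nat.card_eq_fintype_card, Nat.odd_iff]
  refine FiniteField.odd_card_of_char_ne_two fun h => h2 ?_
  have h0 : (2 : fixK σ) = 0 := by
    rw [← Nat.cast_ofNat (R := fixK σ) (n := 2), ← h]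
    exact ringChar.Nat.cast_ringChar
  have := congrArg (fixK σ).subtype h0
  rwa [map_ofNat, map_zero] at this

theorem card_fixK_ge {σ : RingAut F} : 2 ≤ Nat.card (fixK σ) :=
  Finite.one_lt_card

/-- If the normalizer, of order 24, of a four group is maximal, the field has prime order. -/
theorem prime_of_maximal_four (h2 : (2 : F) ≠ 0)
    (h16 : Fintype.card F % 16 = 1 ∨ Fintype.card F % 16 = 15) {a b : PS} (ha : orderOf a = 2)
    (hb : orderOf b = 2) (hne : a ≠ b) (hc : Commute a b)
    (hcard : Nat.card (normalizer (closure ({a, b} : Set PS) : Set PS)) = 24)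
    (hmax : ∀ X : Subgroup PS, normalizer (closure ({a, b} : Set PS) : Set PS) ≤ X →
      X = normalizer (closure ({a, b} : Set PS) : Set PS) ∨ X = ⊤) :
    (Fintype.card F).Prime := by
  classical
  have key : ∀ σ : RingAut F, σ ≠ 1 → Nat.card (fixK σ) = 3 := by
    intro σ hσ
    obtain ⟨u, v, huv, hu, hv⟩ := exists_fixed_pair h2 σ
    obtain ⟨φ, hφa, hφb⟩ := exists_aut_four h2 ha hb hne hc u v huv
    have himg : (closure ({a, b} : Set PS)).map φ.toMonoidHom = closure ({sA, sB u v huv} : Set PS) := by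
      rw [MonoidHom.map_closure, Set.image_pair]
      simp only [MulEquiv.coe_toMonoidHom, hφa, hφb]
    set N0 := normalizer (closure ({sA, sB u v huv} : Set PS) : Set PS) with hN0
    have hmap : (normalizer (closure ({a, b} : Set PS) : Set PS)).map φ.toMonoidHom = N0 := by
      rw [hN0, ← himg]; exact Subgroup.map_equiv_normalizer_eq _ φ
    have hcard0 : Nat.card N0 = 24 := by
      rw [← hmap, Nat.card_congr (Subgroup.equivMapOfInjective _ _ φ.injective).toEquiv.symm, hcard]
    let R : Subgroup PS := MonoidHom.eqLocus (fieldHom σ).toMonoidHom (MonoidHom.id _)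
    have hle : N0 ≤ R := fun n hn => by
      refine normalizer_fixed h2 huv hu hv ?_ ?_
      · exact (Subgroup.mem_normalizer_iff.1 hn _).1 (subset_closure (by simp))
      · exact (Subgroup.mem_normalizer_iff.1 hn _).1 (subset_closure (by simp))
    have hR : R = N0 := by
      rcases hmax (R.comap φ.toMonoidHom) (fun n hn => hle (hmap ▸ ⟨n, hn, rfl⟩)) with h | h
      · rw [← hmap, ← h, Subgroup.map_comap_eq_self_of_surjective φ.surjective]
      · exfalso
        obtain ⟨x, hx⟩ := fixed_proper hσ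
        refine hx (?_ : x ∈ R)
        have : φ.symm x ∈ R.comap φ.toMonoidHom := h ▸ Subgroup.mem_top _
        simpa using this
    have hd : Nat.card (fixK σ) ∣ 24 := hcard0 ▸ hR ▸ card_fixK_dvd σ (K := R) fun x hx => hx
    have ho := odd_card_fixK h2 σ
    have hle24 := Nat.le_of_dvd (by norm_num) hd
    have hge := card_fixK_ge (σ := σ)
    generalize Nat.card (fixK σ) = r at hd ho hle24 hge
    obtain ⟨w, rfl⟩ := ho
    have hw : w ≤ 11 := by omega
    interval_cases w <;> omega
  obtain ⟨p, hp⟩ := CharP.exists F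
  haveI := hp
  obtain ⟨n, hpp, hq⟩ := FiniteField.card F p
  haveI : Fact p.Prime := ⟨hpp⟩
  by_contra hnp
  have hn2 : 2 ≤ (n : ℕ) := by
    by_contra h
    have : (n : ℕ) = 1 := by have := n.pos; omega
    rw [this, pow_one] at hq
    exact hnp (hq ▸ hpp)
  set σ : RingAut F := frobeniusEquiv F p with hσdef
  have hσap : ∀ x : F, σ x = x ^ p := fun x => by rw [hσdef, frobeniusEquiv_apply, frobenius_def]
  -- automorphisms whose fixed points satisfy `x ^ p ^ k = x`
  have hne1 : ∀ k, 1 ≤ k → k < (n : ℕ) → σ ^ k ≠ 1 := by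
    intro k hk hkn he
    obtain ⟨g, hg⟩ := IsCyclic.exists_ofOrder_eq_natCard (α := Fˣ)
    have hpow : ∀ j (x : F), (σ ^ j) x = x ^ p ^ j := by
      intro j
      induction j with
      | zero => intro x; simp
      | succ j ih =>
        intro x
        rw [pow_succ', RingAut.mul_apply, ih, hσap, ← pow_mul, ← pow_succ]
    have h1 : (g : F) ^ p ^ k = g := by rw [← hpow, he]; rfl
    have hu : g ^ (p ^ k - 1) = 1 := by
      have h2 : g ^ p ^ k = g := Units.ext (by simpa using h1)
      have hpos : 1 ≤ p ^ k := Nat.one_le_pow _ _ hpp.pos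
      rw [show p ^ k = (p ^ k - 1) + 1 by omega, pow_succ, mul_eq_right] at h2
      exact h2
    have hd := orderOf_dvd_of_pow_eq_one hu
    rw [hg, Nat.card_units, Nat.card_eq_fintype_card, hq] at hd
    have h3 : p ^ k < p ^ (n : ℕ) := Nat.pow_lt_pow_right hpp.one_lt hkn
    have h4 : 1 < p ^ k := Nat.one_lt_pow (by omega) hpp.one_lt
    have := Nat.le_of_dvd (by omega) hd
    omega
  have h1 := key σ (by simpa using hne1 1 le_rfl hn2)
  have hfix : ∀ m : ℕ, ((m : F)) ∈ fixK σ := fun m => mem_fixK.2 (map_natCast σ m)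
  have hp3 : p = 3 := by
    have hle : p ≤ Nat.card (fixK σ) := by
      refine le_trans (le_of_eq (Nat.card_fin p).symm)
        (Nat.card_le_card_of_injective (fun i : Fin p => (⟨(i.val : F), hfix i.val⟩ : fixK σ)) ?_)
      intro i j hij
      refine Fin.ext ?_
      have := congrArg Subtype.val hij
      exact CharP.natCast_injOn_Iio F p i.2 j.2 this
    have hp2 : p ≠ 2 := fun e => h2 (by subst e; exact CharTwo.two_eq_zero)
    have := hpp.two_le
    omega
  subst hp3
  -- the exponent is even, so there is an element of order eight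
  have heven : Even (n : ℕ) := by
    by_contra ho
    rw [Nat.not_even_iff_odd] at ho
    obtain ⟨e, he⟩ := ho
    rw [hq, he, pow_succ, pow_mul, Nat.mul_mod, Nat.pow_mod] at h16
    have h9 : ∀ e : ℕ, 9 ^ e % 16 = 1 ∨ 9 ^ e % 16 = 9 := by
      intro e
      induction e with
      | zero => simp
      | succ e ih => rw [pow_succ, Nat.mul_mod]; rcases ih with h | h <;> simp [h]
    rcases h9 e with h | h <;> norm_num [h] at h16
  have hn4 : 3 ≤ (n : ℕ) := by
    by_contra h
    have : (n : ℕ) = 2 := by omega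
    rw [hq, this] at h16
    omega
  have h3' := key (σ ^ 2) (hne1 2 (by norm_num) (by omega))
  obtain ⟨g, hg⟩ := IsCyclic.exists_ofOrder_eq_natCard (α := Fˣ)
  have h8 : 8 ∣ Nat.card Fˣ := by
    rw [Nat.card_units, Nat.card_eq_fintype_card, hq]
    obtain ⟨e, he⟩ := heven
    rw [he, ← two_mul, pow_mul]
    have : 9 ^ e % 8 = 1 := by rw [Nat.pow_mod]; norm_num
    have : 0 < 9 ^ e := by positivity
    norm_num
    omega
  set w := g ^ (Nat.card Fˣ / 8) with hw
  have hwo : orderOf w = 8 := by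
    rw [hw, orderOf_pow' _ (by
      have := Nat.le_of_dvd Nat.card_pos h8
      omega), hg,
      Nat.gcd_eq_right (Nat.div_dvd_of_dvd h8), Nat.div_div_self h8 Nat.card_pos.ne']
  have hw9 : (w : F) ^ 9 = w := by
    have : w ^ 9 = w := by rw [pow_succ, ← hwo, pow_orderOf_eq_one, one_mul]
    rw [← Units.val_pow_eq_pow_val, this]
  have hmem : ∀ j : ℕ, ((w ^ j : Fˣ) : F) ∈ fixK (σ ^ 2) := by
    intro j
    refine mem_fixK.2 ?_
    rw [pow_two, RingAut.mul_apply, hσap, hσap, ← pow_mul, show 3 * 3 = 9 by norm_num,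
      Units.val_pow_eq_pow_val, ← pow_mul, mul_comm, pow_mul, hw9]
  have hle : 8 ≤ Nat.card (fixK (σ ^ 2)) := by
    refine le_trans (le_of_eq (Nat.card_fin 8).symm)
      (Nat.card_le_card_of_injective (fun i : Fin 8 => (⟨_, hmem i.val⟩ : fixK (σ ^ 2))) ?_)
    intro i j hij
    refine Fin.ext (pow_injOn_Iio_orderOf ?_ ?_ (Units.ext (congrArg Subtype.val hij)))
    · rw [hwo]; exact i.2
    · rw [hwo]; exact j.2
  omega

/-- An outer involutory automorphism of `PSL(2, F)`: its fixed points. -/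
theorem outer_cases (ho : Odd (Fintype.card F)) (h5 : 5 ≤ Fintype.card F) (β : MulAut PS)
    (hβ : β * β = 1) (hout : β ∉ Cfsg.Inn PS) (K : Subgroup PS) (hK : ∀ x, β x = x → x ∈ K) :
    (∃ g : GL (Fin 2) F, β = indHom g ∧ ¬ IsSquare g.1.det ∧
      ∃ c ∈ K, Odd (orderOf c) ∧ Fintype.card F - 1 ≤ 2 * orderOf c) ∨
    ∃ σ : RingAut F, orderOf σ = 2 ∧ 4 ∣ Nat.card K ∧ Nat.card (fixK σ) ∣ Nat.card K := by
  classical
  have ho' : Odd (Nat.card F) := by rwa [Nat.card_eq_fintype_card]
  have h2 : (2 : F) ≠ 0 := CfsgLib.Perm.Dickson.two_ne_zero_of_odd ho'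
  obtain ⟨σ, g, rfl⟩ := exists_ind β
  have hσ2 : σ ^ 2 = 1 := by
    have := congrArg fieldPartHom hβ
    rwa [map_mul, map_one, fieldPartHom_ind, ← pow_two] at this
  by_cases hσ : σ = 1
  · subst hσ
    left
    have hns : ¬ IsSquare g.1.det := fun hs => hout ((indHom_mem_inn_iff h2 g).2 hs)
    refine ⟨g, rfl, hns, ?_⟩
    set α : CfsgLib.Perm.Dickson.G2 F := Matrix.ProjGenLinGroup.mk g with hα
    have hconj : ∀ y : PS, Matrix.ProjectiveSpecialLinearGroup.toPGL (indHom g y) =
        α * Matrix.ProjectiveSpecialLinearGroup.toPGL y * α⁻¹ := by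
      intro y
      obtain ⟨A, rfl⟩ := CfsgLib.OddProdPSL.proj_surjective y
      show Matrix.ProjGenLinGroup.mk (Matrix.SpecialLinearGroup.toGL (slConj g (slField 1 A))) =
        Matrix.ProjGenLinGroup.mk g * Matrix.ProjGenLinGroup.mk (Matrix.SpecialLinearGroup.toGL A) *
          (Matrix.ProjGenLinGroup.mk g)⁻¹
      rw [← map_mul, ← map_inv, ← map_mul]
      refine congrArg _ (Units.ext ?_)
      show (slConj g (slField 1 A)).1 = _
      rw [slConj_val, map_one]
      rfl
    have hαn : α ∉ CfsgLib.Perm.Dickson.psl F := by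
      rw [← CfsgLib.Perm.Dickson.range_toPGL]
      rintro ⟨y, hy⟩
      refine hout ⟨y, MulEquiv.ext fun x => ?_⟩
      apply Matrix.ProjectiveSpecialLinearGroup.toPGL_injective
      show Matrix.ProjectiveSpecialLinearGroup.toPGL (y * x * y⁻¹) = _
      rw [map_mul, map_mul, map_inv, hy, show ind g 1 = indHom g from rfl, hconj]
    have hαo : orderOf α = 2 := by
      refine orderOf_eq_prime ?_ fun e => hαn (e ▸ one_mem _)
      have h1 : indHom (g * g) = 1 := by rw [map_mul]; exact hβ
      obtain ⟨c, hc⟩ := scalar_of_indHom le_rfl h1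
      rw [pow_two, hα, ← map_mul]
      refine Matrix.ProjGenLinGroup.mk_eq_one.2 ?_
      rw [Matrix.GeneralLinearGroup.mem_center_iff_val_eq_scalar]
      exact ⟨c, by rw [hc, Matrix.smul_one_eq_diagonal]; rfl⟩
    obtain ⟨-, -, c, -, -, hc, -, hcα, hcodd, hcge, -⟩ :=
      exists_torus ho' (by rwa [Nat.card_eq_fintype_card]) hαo hαn
    rw [← CfsgLib.Perm.Dickson.range_toPGL] at hc
    obtain ⟨y, rfl⟩ := hc
    have hord := orderOf_injective (Matrix.ProjectiveSpecialLinearGroup.toPGL (n := Fin 2) (R := F))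
      Matrix.ProjectiveSpecialLinearGroup.toPGL_injective y
    refine ⟨y, hK y ?_, hord ▸ hcodd, ?_⟩
    · apply Matrix.ProjectiveSpecialLinearGroup.toPGL_injective
      rw [show ind g 1 = indHom g from rfl, hconj, ← hcα.eq, mul_inv_cancel_right]
    · rw [← Nat.card_eq_fintype_card, ← hord]; exact hcge
  · right
    have hσo : orderOf σ = 2 := orderOf_eq_prime hσ2 hσ
    obtain ⟨B, hB⟩ := field_coset_conj le_rfl hσo two_pos g (by rw [pow_two]; exact hβ)
    set γ : MulAut PS := ind B 1 with hγ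
    have hfix : ∀ x, fieldHom σ x = x → γ x ∈ K := fun x hx => by
      refine hK _ ?_
      rw [hB]
      show γ (fieldHom σ (γ⁻¹ (γ x))) = γ x
      rw [show γ⁻¹ (γ x) = x from γ.symm_apply_apply x, hx]
    set K' := K.comap γ.toMonoidHom with hK'
    have hK'c : Nat.card K' = Nat.card K := by
      rw [hK', ← Nat.card_congr (Subgroup.equivMapOfInjective _ γ.toMonoidHom γ.injective).toEquiv.symm,
        Subgroup.map_comap_eq_self_of_surjective (f := γ.toMonoidHom) γ.surjective]
    refine ⟨σ, hσo, ?_, hK'c ▸ card_fixK_dvd σ (K := K') hfix⟩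
    obtain ⟨a, b, hao, hbo, hab, hc, hfa, hfb⟩ := exists_fixed_four h2 σ
    rw [← hK'c, ← (CfsgLib.Invol.isKleinFour_closure_pair hao hbo hab hc).card_four]
    refine Subgroup.card_dvd_of_le ((closure_le _).2 ?_)
    rintro x (rfl | rfl)
    · exact hfix _ hfa
    · exact hfix _ hfb

end CfsgLib.Recog.SubThree
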