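import Cfsg.Agent.Lib.Recog.SubThree.Basic
import Cfsg.Agent.Lib.Recog.SubThree.PSLAut
import Cfsg.Agent.Lib.Recog.SubThree.MaxClass
import Cfsg.Agent.Lib.CIT.PslModel

/-!
# A maximal subgroup isomorphic to the symmetric group of degree four
-/

set_option autoImplicit false
set_option linter.unusedSectionVars false

namespace CfsgLib.Recog.SubThree

open Subgroup CfsgLib.Invol CfsgLib.Char.LThreeThree

universe u

set_option synthInstance.maxSize 4000 in
/-- Involutions of `S₄` outside the four group in one Sylow subgroup. -/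
theorem perm4_outer : ∀ a b c : Equiv.Perm (Fin 4), a * a = 1 → b * b = 1 → c * c = 1 → a ≠ b → b ≠ 1 →
    a * b = b * a → ¬ (a = 1 ∨ ∀ i, a i ≠ i) → ¬ (c = 1 ∨ ∀ i, c i ≠ i) →
    (a * c) * (a * c) * (a * c) * (a * c) = 1 → c = a ∨ c = b ∨ c = a * b := by
  decide +kernel

theorem S4_exponent : ∀ a : Equiv.Perm (Fin 4), a ^ 4 = 1 ∨ a ^ 3 = 1 := by decide +kernel

theorem perm4_swap {K : Subgroup (Equiv.Perm (Fin 4))} [K.Normal] (hK : ¬ 2 ∣ K.index) : K = ⊤ := by
  rw [eq_top_iff, ← Equiv.Perm.closure_isSwap, closure_le]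
  rintro s ⟨x, y, hxy, rfl⟩
  have h1 := K.pow_index_mem (Equiv.swap x y)
  obtain ⟨m, hm⟩ := Nat.odd_iff.2 (Nat.two_dvd_ne_zero.1 hK)
  rwa [hm, pow_succ, pow_mul, pow_two, Equiv.swap_mul_self, one_pow, one_mul] at h1

variable {G : Type u} [Group G] [Finite G] {H : Subgroup G}

/-- The four group of `H ≅ S₄`. -/
def fourOf (H : Subgroup G) (e : H ≃* Equiv.Perm (Fin 4)) : Subgroup G :=
  (vFour.comap e.toMonoidHom).map H.subtype

theorem mem_fourOf {e : H ≃* Equiv.Perm (Fin 4)} {v : G} :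
    v ∈ fourOf H e ↔ ∃ hv : v ∈ H, e ⟨v, hv⟩ ∈ vFour := by
  rw [fourOf, mem_map]
  constructor
  · rintro ⟨⟨w, hw⟩, hm, rfl⟩
    exact ⟨hw, hm⟩
  · rintro ⟨hv, hm⟩
    exact ⟨⟨v, hv⟩, hm, rfl⟩

theorem fourOf_le (e : H ≃* Equiv.Perm (Fin 4)) : fourOf H e ≤ H := map_subtype_le _

theorem fourOf_klein (e : H ≃* Equiv.Perm (Fin 4)) : IsKleinFour (fourOf H e) := by
  have hc : Nat.card (fourOf H e) = 4 := by
    rw [fourOf, ← Nat.card_congr ((vFour.comap e.toMonoidHom).equivMapOfInjective _ H.subtype_injective).toEquiv,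
      Nat.card_congr (Equiv.subtypeEquiv e.toEquiv (fun a => Iff.rfl) :
        ↥(vFour.comap e.toMonoidHom) ≃ ↥vFour)]
    refine Eq.trans ?_ (Nat.card_eq_fintype_card.trans vFour_card)
    exact Nat.card_congr (Equiv.subtypeEquivRight fun g => Iff.rfl)
  haveI : Nontrivial (fourOf H e) := Finite.one_lt_card_iff_nontrivial.1 (by omega)
  refine { card_four := hc, exponent_two := (Monoid.exponent_eq_prime_iff Nat.prime_two).2 fun v hv => ?_ }
  obtain ⟨hm, hmem⟩ := mem_fourOf.1 v.2
  refine orderOf_eq_prime (Subtype.ext ?_) hv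
  rcases vFour_mem.1 hmem with e1 | e1
  · rw [e.map_eq_one_iff] at e1
    have : (v : G) = 1 := congrArg Subtype.val e1
    simp [this]
  · have h2 : e (⟨v, hm⟩ * ⟨v, hm⟩) = 1 := by rw [map_mul]; exact e1.1
    rw [e.map_eq_one_iff] at h2
    rw [pow_two]
    exact congrArg (fun t : H => (t : G)) h2

theorem fourOf_normal (e : H ≃* Equiv.Perm (Fin 4)) : H ≤ normalizer (fourOf H e : Set G) := by
  intro a ha
  rw [mem_normalizer_iff]
  have key : ∀ b ∈ H, ∀ v ∈ fourOf H e, b * v * b⁻¹ ∈ fourOf H e := by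
    intro b hb v hv
    obtain ⟨hvH, hm⟩ := mem_fourOf.1 hv
    refine mem_fourOf.2 ⟨H.mul_mem (H.mul_mem hb hvH) (H.inv_mem hb), ?_⟩
    rw [show (⟨b * v * b⁻¹, H.mul_mem (H.mul_mem hb hvH) (H.inv_mem hb)⟩ : H) =
      ⟨b, hb⟩ * ⟨v, hvH⟩ * ⟨b, hb⟩⁻¹ from rfl, map_mul, map_mul, map_inv]
    exact vFour_norm _ hm _
  refine fun v => ⟨key a ha v, fun hv => ?_⟩
  have := key a⁻¹ (H.inv_mem ha) _ hv
  simpa [mul_assoc] using this

/-- Basic facts on the four group. -/
theorem Prim.four_facts (h : Prim H) (e : H ≃* Equiv.Perm (Fin 4)) :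
    normalizer (fourOf H e : Set G) = H ∧ centralizer (fourOf H e : Set G) = fourOf H e := by
  haveI := fourOf_klein e
  have hne : fourOf H e ≠ ⊥ := fun e1 => by
    have := (IsKleinFour.card_four : Nat.card (fourOf H e) = 4)
    rw [e1, card_bot] at this
    omega
  have hN := h.normalizer_eq (fourOf_le e) hne (fourOf_normal e)
  refine ⟨hN, le_antisymm ?_ ?_⟩
  · intro a ha
    have haH : a ∈ H := hN ▸ centralizer_le_normalizer _ ha
    refine mem_fourOf.2 ⟨haH, vFour_self _ fun v hv => ?_⟩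
    have hmem : ((e.symm v : H) : G) ∈ fourOf H e := mem_fourOf.2 ⟨(e.symm v).2, by
      rw [Subtype.coe_eta, e.apply_symm_apply]; exact hv⟩
    have h1 := mem_centralizer_iff.1 ha _ hmem
    have h2 : (⟨a, haH⟩ : H) * e.symm v = e.symm v * ⟨a, haH⟩ := Subtype.ext h1.symm
    have h3 := congrArg e h2
    simpa using h3
  · intro a ha
    refine mem_centralizer_iff.2 fun b hb => ?_
    exact congrArg Subtype.val (mul_comm_of_exponent_two IsKleinFour.exponent_two
      (⟨b, hb⟩ : fourOf H e) ⟨a, ha⟩)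

/-- A second four group in the Sylow subgroup, an element exchanging the two, and `16 ∣ |G|`. -/
theorem Prim.four_swap (h : Prim H) (e : H ≃* Equiv.Perm (Fin 4)) {B : Subgroup G} (hBH : B ≤ H)
    (hB : Nat.card B = 8) {g : G} (hgB : B.map (MulAut.conj g).toMonoidHom = B) (hg : g ∉ H) :
    fourOf H e ≤ B ∧ (fourOf H e).map (MulAut.conj g).toMonoidHom ≠ fourOf H e ∧ 16 ∣ Nat.card G := by
  classical
  haveI : Fact (Nat.Prime 2) := ⟨Nat.prime_two⟩
  haveI hK := fourOf_klein e
  obtain ⟨hN, -⟩ := h.four_facts e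
  have hBp : IsPGroup 2 B := IsPGroup.of_card (n := 3) (by rw [hB]; norm_num)
  set V := fourOf H e with hV
  have hVB : V ≤ B := by
    have hVp : IsPGroup 2 V := IsPGroup.of_card (n := 2) (by rw [IsKleinFour.card_four]; norm_num)
    have hsup : IsPGroup 2 (B ⊔ V : Subgroup G) :=
      hBp.to_sup_of_normal_right' hVp ((hBH.trans (fourOf_normal e)))
    obtain ⟨m, hm⟩ := IsPGroup.iff_card.1 hsup
    have hd : 2 ^ m ∣ 2 ^ 3 * 3 := by
      rw [← hm, show 2 ^ 3 * 3 = Nat.card H by
        rw [Nat.card_congr e.toEquiv, Nat.card_perm, Nat.card_fin]; rfl]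
      exact card_dvd_of_le (sup_le hBH (fourOf_le e))
    have := eq_of_le_of_card_ge (le_sup_left : B ≤ B ⊔ V) (by
      rw [hm, hB]
      exact Nat.le_of_dvd (by norm_num)
        ((Nat.Coprime.pow_left m (by norm_num : Nat.Coprime 2 3)).dvd_of_dvd_mul_right hd))
    exact this.symm ▸ le_sup_right
  set W := V.map (MulAut.conj g).toMonoidHom with hW
  have hWB : W ≤ B := hgB ▸ map_mono hVB
  have hWne : W ≠ V := fun e1 => hg (hN ▸ mem_normalizer_iff_conj_image_eq.2 (congrArg SetLike.coe e1))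
  refine ⟨hVB, hWne, ?_⟩
  -- the image of `W` is `V`
  set W2 := W.map (MulAut.conj g).toMonoidHom with hW2
  have hW2B : W2 ≤ B := hgB ▸ map_mono hWB
  have hW2W : W2 ≠ W := fun e1 => hWne (map_injective (MulAut.conj g).injective e1)
  have hcard : ∀ {U : Subgroup G}, Nat.card (U.map (MulAut.conj g).toMonoidHom) = Nat.card U := fun {U} =>
    (Nat.card_congr (U.equivMapOfInjective _ (MulAut.conj g).injective).toEquiv).symm
  have hW2V : W2 = V := by
    refine eq_of_le_of_card_ge ?_ (le_of_eq ((hcard (U := W)).trans (hcard (U := V))).symm)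
    have hexp : ∀ w ∈ W, w * w = 1 := by
      rintro _ ⟨v, hv, rfl⟩
      have := Monoid.pow_exponent_eq_one (⟨v, hv⟩ : V)
      rw [IsKleinFour.exponent_two, pow_two] at this
      have hvv : v * v = 1 := congrArg Subtype.val this
      rw [← map_mul, hvv, map_one]
    have hcommW : ∀ a ∈ W, ∀ b ∈ W, a * b = b * a := fun a ha b hb => by
      have := hexp _ (W.mul_mem ha hb)
      rw [eq_inv_of_mul_eq_one_left this, _root_.mul_inv_rev, inv_eq_of_mul_eq_one_right (hexp a ha),
        inv_eq_of_mul_eq_one_right (hexp b hb)]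
    have hout : ∀ {w : G} (hw : w ∈ B), w ∉ V → w * w = 1 →
        ¬ (e ⟨w, hBH hw⟩ = 1 ∨ ∀ i, e ⟨w, hBH hw⟩ i ≠ i) := by
      intro w hw hwV hww e1
      refine hwV (mem_fourOf.2 ⟨hBH hw, vFour_mem.2 ?_⟩)
      rcases e1 with e1 | e1
      · exact Or.inl e1
      · refine Or.inr ⟨?_, e1⟩
        rw [← map_mul, show (⟨w, hBH hw⟩ : H) * ⟨w, hBH hw⟩ = 1 from Subtype.ext hww, map_one]
    obtain ⟨a, haW, haV⟩ : ∃ a ∈ W, a ∉ V := SetLike.not_le_iff_exists.1 fun hle =>
      hWne (eq_of_le_of_card_ge hle (by rw [hW, hcard]))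
    obtain ⟨b, hbW, hb1, hba⟩ : ∃ b ∈ W, b ≠ 1 ∧ a ≠ b := by
      by_contra! hall
      have hle : W ≤ zpowers a := fun w hw => by
        by_cases h1 : w = 1
        · rw [h1]; exact one_mem _
        · rw [← hall w hw h1]; exact mem_zpowers a
      have h4 : Nat.card W = 4 := by rw [hW, hcard, IsKleinFour.card_four]
      have h2 := card_le_of_le hle
      have ha2 : orderOf a ≤ 2 := Nat.le_of_dvd (by norm_num)
        (orderOf_dvd_of_pow_eq_one (by rw [pow_two, hexp a haW]))
      rw [Nat.card_zpowers] at h2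
      omega
    have hkey : ∀ w ∈ B, w ∉ V → w * w = 1 → w ∈ W := by
      intro w hwB hwV hww
      have hae := hout (hWB haW) haV (hexp a haW)
      have hwe := hout hwB hwV hww
      have hp4 : (⟨a, hBH (hWB haW)⟩ * ⟨w, hBH hwB⟩ : H) ^ 4 = 1 := by
        have hmem : a * w ∈ B := B.mul_mem (hWB haW) hwB
        obtain ⟨j, hj⟩ := IsPGroup.iff_orderOf.1 hBp ⟨_, hmem⟩
        have hd : orderOf (e (⟨a, hBH (hWB haW)⟩ * ⟨w, hBH hwB⟩)) = 2 ^ j := by
          rw [MulEquiv.orderOf_eq, ← orderOf_coe]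
          rw [← orderOf_coe] at hj
          exact hj
        have h12 := S4_exponent (e (⟨a, hBH (hWB haW)⟩ * ⟨w, hBH hwB⟩))
        have hd4 : 2 ^ j ∣ 4 := by
          rcases h12 with h12 | h12
          · exact hd ▸ orderOf_dvd_of_pow_eq_one h12
          · have := hd ▸ orderOf_dvd_of_pow_eq_one h12
            have h1 : 2 ^ j ∣ 1 := (Nat.Coprime.pow_left j (by norm_num : Nat.Coprime 2 3)).dvd_of_dvd_mul_right
              (by rw [one_mul]; exact this)
            exact h1.trans (one_dvd 4)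
        apply e.injective
        rw [map_pow, map_one]
        exact orderOf_dvd_iff_pow_eq_one.1 (hd ▸ hd4)
      have hmap : ∀ {x y : G} (hx : x ∈ H) (hy : y ∈ H), e ⟨x, hx⟩ * e ⟨y, hy⟩ = e ⟨x * y, H.mul_mem hx hy⟩ :=
        fun hx hy => (map_mul e _ _).symm
      have hone : ∀ {x : G} (hx : x ∈ H), x * x = 1 → e ⟨x, hx⟩ * e ⟨x, hx⟩ = 1 := fun hx hxx => by
        rw [← map_mul, show (⟨_, hx⟩ : H) * ⟨_, hx⟩ = 1 from Subtype.ext hxx, map_one]
      have h4 : e ⟨a, hBH (hWB haW)⟩ * e ⟨w, hBH hwB⟩ * (e ⟨a, hBH (hWB haW)⟩ * e ⟨w, hBH hwB⟩) *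
          (e ⟨a, hBH (hWB haW)⟩ * e ⟨w, hBH hwB⟩) * (e ⟨a, hBH (hWB haW)⟩ * e ⟨w, hBH hwB⟩) = 1 := by
        rw [← map_mul e, ← map_mul e, ← map_mul e, ← map_mul e, ← map_one e]
        congr 1
        rw [← hp4, pow_succ, pow_succ, pow_two]
      rcases perm4_outer (e ⟨a, hBH (hWB haW)⟩) (e ⟨b, hBH (hWB hbW)⟩) (e ⟨w, hBH hwB⟩)
        (hone _ (hexp a haW)) (hone _ (hexp b hbW)) (hone _ hww)
        (fun e1 => hba (congrArg Subtype.val (e.injective e1)))
        (fun e1 => hb1 (congrArg Subtype.val ((e.map_eq_one_iff).1 e1)))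
        (by rw [← map_mul, ← map_mul]; exact congrArg e (Subtype.ext (hcommW a haW b hbW)))
        hae hwe h4 with e1 | e1 | e1
      · rw [show w = a from congrArg Subtype.val (e.injective e1)]; exact haW
      · rw [show w = b from congrArg Subtype.val (e.injective e1)]; exact hbW
      · rw [hmap] at e1
        rw [show w = a * b from congrArg Subtype.val (e.injective e1)]; exact W.mul_mem haW hbW
    -- otherwise `W2` would be `W`
    by_contra hle
    obtain ⟨w, hw2, hwV⟩ := SetLike.not_le_iff_exists.1 hle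
    have hexp2 : ∀ u ∈ W2, u * u = 1 := by
      rintro _ ⟨v, hv, rfl⟩
      rw [← map_mul, hexp v hv, map_one]
    refine hW2W (eq_of_le_of_card_ge (fun u hu => ?_) (le_of_eq (hcard (U := W)).symm))
    have hwW := hkey w (hW2B hw2) hwV (hexp2 w hw2)
    by_cases huV : u ∈ V
    · have hwu : w * u ∉ V := fun hm => hwV ((V.mul_mem_cancel_right huV).1 hm)
      have := W.mul_mem (W.inv_mem hwW) (hkey _ (B.mul_mem (hW2B hw2) (hW2B hu)) hwu
        (hexp2 _ (W2.mul_mem hw2 hu)))
      rwa [inv_mul_cancel_left] at this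
    · exact hkey u (hW2B hu) huV (hexp2 u hu)
  have hg2 : g * g ∈ B := by
    have hn : g * g ∈ H := hN ▸ mem_normalizer_iff_conj_image_eq.2 (by
      rw [map_mul]
      have : V.map (MulAut.conj g * MulAut.conj g).toMonoidHom = V := by
        conv_rhs => rw [← hW2V, hW2, hW, map_map]
        rfl
      exact congrArg SetLike.coe this)
    have hnB : g * g ∈ normalizer (B : Set G) := by
      have hgn : g ∈ normalizer (B : Set G) := mem_normalizer_iff_conj_image_eq.2 (congrArg SetLike.coe hgB)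
      exact mul_mem hgn hgn
    -- the Sylow subgroup of `H` is self-normalizing
    by_contra hnot
    set NB := normalizer (B : Set G) ⊓ H with hNB
    have hBN : B < NB := lt_of_le_of_ne (le_inf le_normalizer hBH) fun e1 => hnot (e1.symm.le ⟨hnB, hn⟩)
    obtain ⟨m, hm⟩ := card_dvd_of_le hBN.le
    have h24 : Nat.card H = 24 := by rw [Nat.card_congr e.toEquiv, Nat.card_perm, Nat.card_fin]; rfl
    have hle := card_dvd_of_le (inf_le_right : NB ≤ H)
    rw [hB] at hm
    rw [hm, h24] at hle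
    have hmd : m ∣ 3 := Nat.dvd_of_mul_dvd_mul_left (by norm_num : 0 < 8) hle
    have hne : Nat.card B ≠ Nat.card NB := fun e1 => hBN.ne (eq_of_le_of_card_ge hBN.le e1.ge)
    rcases (Nat.dvd_prime Nat.prime_three).1 hmd with rfl | rfl
    · omega
    have hHn : H ≤ normalizer (B : Set G) := by
      have := eq_of_le_of_card_ge (inf_le_right : NB ≤ H) (by rw [hm, h24])
      exact this ▸ inf_le_left
    have hBne : B ≠ ⊥ := fun e1 => by rw [e1, card_bot] at hB; omega
    exact hg (h.normalizer_eq hBH hBne hHn ▸ mem_normalizer_iff_conj_image_eq.2 (congrArg SetLike.coe hgB))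
  have hgn : g ∈ normalizer (B : Set G) := mem_normalizer_iff_conj_image_eq.2 (congrArg SetLike.coe hgB)
  have hgp : IsPGroup 2 (zpowers g) := by
    obtain ⟨j, hj⟩ := IsPGroup.iff_orderOf.1 hBp ⟨_, hg2⟩
    have hd : orderOf g ∣ 2 ^ (j + 1) := orderOf_dvd_of_pow_eq_one (by
      rw [pow_succ', pow_mul, pow_two, ← hj, orderOf_mk, pow_orderOf_eq_one])
    obtain ⟨m, -, hm⟩ := (Nat.dvd_prime_pow Nat.prime_two).1 hd
    exact IsPGroup.of_card (by rw [Nat.card_zpowers, hm])
  have hP := hgp.to_sup_of_normal_right' hBp (zpowers_le.2 hgn)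
  obtain ⟨m, hm⟩ := IsPGroup.iff_card.1 hP
  have hlt : B < zpowers g ⊔ B := lt_of_le_of_ne le_sup_right fun e1 =>
    hg (hBH (e1.symm.le (mem_sup_left (mem_zpowers g))))
  have h8 : 8 < 2 ^ m := by
    have hne : Nat.card B ≠ Nat.card (zpowers g ⊔ B : Subgroup G) := fun e1 =>
      hlt.ne (eq_of_le_of_card_ge hlt.le e1.ge)
    have := card_le_of_le hlt.le
    omega
  have h4 : 4 ≤ m := by
    by_contra h4
    have := Nat.pow_le_pow_right two_pos (show m ≤ 3 by omega)
    omega
  exact (hm ▸ pow_dvd_pow 2 h4 : 2 ^ 4 ∣ Nat.card (zpowers g ⊔ B : Subgroup G)).trans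
    (card_subgroup_dvd_card _)

/-- In the situation `H ≅ S₄` the group is simple. -/
theorem Prim.four_simple (h : Prim H) (e : H ≃* Equiv.Perm (Fin 4)) {B : Subgroup G} (hBH : B ≤ H)
    (hB : Nat.card B = 8) {g : G} (hgB : B.map (MulAut.conj g).toMonoidHom = B) (hg : g ∉ H) :
    IsSimpleGroup G := by
  classical
  haveI : Fact (Nat.Prime 2) := ⟨Nat.prime_two⟩
  haveI hK := fourOf_klein e
  obtain ⟨hN, hC⟩ := h.four_facts e
  obtain ⟨hVB, hVg, -⟩ := h.four_swap e hBH hB hgB hg
  set V := fourOf H e with hV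
  haveI : Nontrivial G := by
    by_contra hn
    rw [not_nontrivial_iff_subsingleton] at hn
    exact h.nsol inferInstance
  refine ⟨fun N hNn => ?_⟩
  haveI := hNn
  by_contra! hc
  obtain ⟨hne, hnt⟩ := hc
  set K := N ⊓ H with hKdef
  have hKV : ¬ Disjoint K V := by
    intro hd
    have hKC : K ≤ centralizer (V : Set G) := fun k hk => mem_centralizer_iff.2 fun v hv => by
      have hm : v * k * v⁻¹ * k⁻¹ ∈ K ⊓ V := by
        refine ⟨⟨N.mul_mem (hNn.conj_mem _ hk.1 v) (N.inv_mem hk.1),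
          H.mul_mem (H.mul_mem (H.mul_mem (fourOf_le e hv) hk.2) (H.inv_mem (fourOf_le e hv))) (H.inv_mem hk.2)⟩, ?_⟩
        rw [show v * k * v⁻¹ * k⁻¹ = v * (k * v⁻¹ * k⁻¹) by group]
        exact V.mul_mem hv ((mem_normalizer_iff.1 (fourOf_normal e hk.2) _).1 (V.inv_mem hv))
      rw [hd.eq_bot, mem_bot] at hm
      exact mul_inv_eq_iff_eq_mul.1 (mul_inv_eq_one.1 hm)
    have hKb : K = ⊥ := le_bot_iff.1 (hd.eq_bot ▸ le_inf le_rfl (hC ▸ hKC))
    -- then `V` acts on `N` with no nontrivial fixed point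
    have h2 : 2 ∣ Nat.card N := by
      by_contra h2
      exact h.nsol_normal hNn hne (CfsgLib.FT.isSolvable_of_odd _ (Nat.odd_iff.2 (Nat.two_dvd_ne_zero.1 h2)))
    letI act : MulAction V N :=
      { smul := fun v n => MulAut.conjNormal (v : G) n
        one_smul := fun n => by show MulAut.conjNormal ((1 : V) : G) n = n; simp
        mul_smul := fun a b n => by
          show MulAut.conjNormal ((a * b : V) : G) n = MulAut.conjNormal (a : G) (MulAut.conjNormal (b : G) n)
          simp [map_mul] }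
    have hVp : IsPGroup 2 V := IsPGroup.of_card (n := 2) (by rw [IsKleinFour.card_four]; norm_num)
    obtain ⟨n, hn, hn1⟩ := hVp.exists_fixed_point_of_prime_dvd_card_of_fixed_point N h2 (a := (1 : N))
      (fun v => by show MulAut.conjNormal (v : G) (1 : N) = 1; exact map_one _)
    have hnC : (n : G) ∈ centralizer (V : Set G) := mem_centralizer_iff.2 fun v hv => by
      have := congrArg Subtype.val (show MulAut.conjNormal v n = n from hn ⟨v, hv⟩)
      rw [MulAut.conjNormal_apply] at this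
      exact mul_inv_eq_iff_eq_mul.1 this
    rw [hC] at hnC
    have : (n : G) ∈ K := ⟨n.2, fourOf_le e hnC⟩
    rw [hKb, mem_bot] at this
    exact hn1 (Subtype.ext this.symm)
  -- so `N` contains the four group
  obtain ⟨v, hvK, hvV, hv1⟩ : ∃ v, v ∈ K ∧ v ∈ V ∧ v ≠ 1 := by
    by_contra! hall
    exact hKV (disjoint_iff.2 (eq_bot_iff.2 fun v hv => mem_bot.2 (hall v hv.1 hv.2)))
  have hVN : V ≤ N := by
    intro w hw
    by_cases hw1 : w = 1
    · rw [hw1]; exact N.one_mem
    obtain ⟨hvH, hvm⟩ := mem_fourOf.1 hvV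
    obtain ⟨hwH, hwm⟩ := mem_fourOf.1 hw
    have nv : e ⟨v, hvH⟩ ≠ 1 := fun e1 => hv1 (congrArg Subtype.val (e.map_eq_one_iff.1 e1))
    have nw : e ⟨w, hwH⟩ ≠ 1 := fun e1 => hw1 (congrArg Subtype.val (e.map_eq_one_iff.1 e1))
    obtain ⟨p, hp⟩ := vFour_trans _ _ ((vFour_mem.1 hvm).resolve_left nv) ((vFour_mem.1 hwm).resolve_left nw)
    have heq : e.symm p * ⟨v, hvH⟩ * (e.symm p)⁻¹ = ⟨w, hwH⟩ := e.injective (by simp [hp])
    have := congrArg Subtype.val heq
    simp only [Subgroup.coe_mul, Subgroup.coe_inv] at this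
    rw [← this]
    exact hNn.conj_mem v hvK.1 _
  have hWN : V.map (MulAut.conj g).toMonoidHom ≤ N := by
    rintro _ ⟨w, hw, rfl⟩
    exact hNn.conj_mem w (hVN hw) g
  have hBN : B ≤ N := by
    have hle : V ⊔ V.map (MulAut.conj g).toMonoidHom ≤ B := sup_le hVB (hgB ▸ map_mono hVB)
    have hlt : V < V ⊔ V.map (MulAut.conj g).toMonoidHom := lt_of_le_of_ne le_sup_left fun e1 =>
      hVg (eq_of_le_of_card_ge (le_sup_right.trans e1.ge)
        (le_of_eq (Nat.card_congr (V.equivMapOfInjective (MulAut.conj g).toMonoidHom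
          (MulAut.conj g).injective).toEquiv)))
    have heq := eq_of_le_of_card_ge hle (by
      obtain ⟨m, hm⟩ := card_dvd_of_le hlt.le
      have hne4 : Nat.card V ≠ Nat.card (V ⊔ V.map (MulAut.conj g).toMonoidHom : Subgroup G) := fun e1 =>
        hlt.ne (eq_of_le_of_card_ge hlt.le e1.ge)
      have hpos : 0 < Nat.card (V ⊔ V.map (MulAut.conj g).toMonoidHom : Subgroup G) := Nat.card_pos
      rw [hB]
      rw [(IsKleinFour.card_four : Nat.card V = 4)] at hm hne4
      rcases m with _ | _ | m <;> omega)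
    exact heq ▸ sup_le hVN hWN
  set L := (N.subgroupOf H).map e.toMonoidHom with hL
  haveI : L.Normal := Normal.map inferInstance _ e.surjective
  have hLtop : L = ⊤ := by
    refine perm4_swap fun h2 => ?_
    have hd : 8 ∣ Nat.card L := by
      rw [hL, ← Nat.card_congr ((N.subgroupOf H).equivMapOfInjective _ e.injective).toEquiv, ← hB,
        ← Nat.card_congr (subgroupOfEquivOfLe hBH).toEquiv]
      exact card_dvd_of_le (show B.subgroupOf H ≤ N.subgroupOf H from fun x hx => hBN hx)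
    have h1 := L.card_mul_index
    rw [Nat.card_perm, Nat.card_fin] at h1
    have : 16 ∣ (4).factorial := h1 ▸ Nat.mul_dvd_mul hd h2
    norm_num [Nat.factorial] at this
  have hHN : H ≤ N := by
    intro a ha
    have : e ⟨a, ha⟩ ∈ L := hLtop ▸ mem_top _
    obtain ⟨b, hb, hbe⟩ := this
    rw [e.injective hbe] at hb
    exact hb
  exact hnt (by rw [← h.sup_eq_top hNn hne, sup_eq_left.2 hHN])

/-- A four group with maximal normalizer of order 24 in `PSL(2, q)` forces `q` to be prime. -/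
theorem psl_prime {G : Type u} [Group G] [Finite G] (V : Subgroup G) [IsKleinFour V]
    (hN : Nat.card (normalizer (V : Set G)) = 24) (hmax : IsCoatom (normalizer (V : Set G)))
    {F : Type} [Field F] [Fintype F] (hodd : Odd (Fintype.card F))
    (h16 : Fintype.card F % 16 = 1 ∨ Fintype.card F % 16 = 15)
    (f : G ≃* Matrix.ProjectiveSpecialLinearGroup (Fin 2) F) :
    ∃ p : ℕ, p.Prime ∧ (p % 16 = 1 ∨ p % 16 = 15) ∧
      Nonempty (G ≃* Matrix.ProjectiveSpecialLinearGroup (Fin 2) (ZMod p)) := by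
  classical
  haveI : Nontrivial V := Finite.one_lt_card_iff_nontrivial.1 (by rw [IsKleinFour.card_four]; norm_num)
  obtain ⟨a, ha⟩ := exists_ne (1 : V)
  obtain ⟨b, hb, hab⟩ : ∃ b : V, b ≠ 1 ∧ a ≠ b := by
    by_contra! hall
    have hle : (Set.univ : Set V) ⊆ {1, a} := fun v _ => (em (v = 1)).imp_right fun h => (hall v h).symm
    have := Set.ncard_le_ncard hle
    rw [Set.ncard_univ, IsKleinFour.card_four] at this
    have h2 : ({1, a} : Set V).ncard ≤ 2 :=
      (Set.ncard_insert_le _ _).trans (by rw [Set.ncard_singleton])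
    omega
  have hord : ∀ v : V, v ≠ 1 → orderOf (f (v : G)) = 2 := fun v hv => by
    rw [MulEquiv.orderOf_eq, orderOf_coe]
    exact (Monoid.exponent_eq_prime_iff Nat.prime_two).1 IsKleinFour.exponent_two v hv
  have hcomm : Commute (f (a : G)) (f (b : G)) :=
    (show Commute (a : G) b from congrArg Subtype.val
      (mul_comm_of_exponent_two IsKleinFour.exponent_two a b)).map f
  have hne : f (a : G) ≠ f (b : G) := fun e1 => hab (Subtype.ext (f.injective e1))
  have hclos : closure ({f (a : G), f (b : G)} : Set _) = V.map f.toMonoidHom := by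
    haveI := CfsgLib.Invol.isKleinFour_closure_pair (hord a ha) (hord b hb) hne hcomm
    refine eq_of_le_of_card_ge ((closure_le _).2 ?_) ?_
    · intro y hy
      rcases hy with rfl | rfl
      exacts [⟨a, a.2, rfl⟩, ⟨b, b.2, rfl⟩]
    · rw [← Nat.card_congr (V.equivMapOfInjective f.toMonoidHom f.injective).toEquiv,
        (IsKleinFour.card_four : Nat.card V = 4),
        (IsKleinFour.card_four : Nat.card (closure ({f (a : G), f (b : G)} : Set _)) = 4)]
  have hnmap : normalizer (closure ({f (a : G), f (b : G)} : Set _) : Set _) =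
      (normalizer (V : Set G)).map f.toMonoidHom := by
    rw [hclos]; exact (map_equiv_normalizer_eq V f).symm
  have hp := prime_of_maximal_four (CfsgLib.Perm.Dickson.two_ne_zero_of_odd (by rwa [Nat.card_eq_fintype_card]))
    h16 (hord a ha) (hord b hb) hne hcomm
    (by rw [hnmap, ← Nat.card_congr ((normalizer (V : Set G)).equivMapOfInjective _ f.injective).toEquiv, hN])
    (fun X hX => by
      rw [hnmap] at hX ⊢
      have hle : normalizer (V : Set G) ≤ X.comap f.toMonoidHom := fun y hy => hX ⟨y, hy, rfl⟩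
      rcases eq_or_lt_of_le hle with e1 | e1
      · exact Or.inl (by rw [e1, map_comap_eq_self_of_surjective f.surjective])
      · refine Or.inr ?_
        have := congrArg (Subgroup.map f.toMonoidHom) (hmax.2 _ e1)
        rwa [map_comap_eq_self_of_surjective f.surjective, map_top_of_surjective _ f.surjective] at this)
  haveI : Fact (Fintype.card F).Prime := ⟨hp⟩
  obtain ⟨q⟩ := CfsgLib.CIT.psl_congr
    (FiniteField.ringEquivOfCardEq (K := F) (K' := ZMod (Fintype.card F)) (by rw [ZMod.card]))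
  exact ⟨_, hp, h16, ⟨f.trans q⟩⟩

end CfsgLib.Recog.SubThree
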