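import Cfsg.Agent.Lib.Perm.DegEleven.M11Act

/-!
# The normalizer of a four subgroup of `M11` of order `24` is not maximal

A four group fixes one or three of the eleven points, and the stabilizer of that set of points has
order at least `48`.
-/

set_option autoImplicit false
set_option linter.style.haveILetI false

namespace CfsgLib.Recog.SubThree

open Cfsg CfsgLib.Spor CfsgLib.Spor.OuterAut CfsgLib.Spor.PointSub CfsgLib.Perm.DegEleven
open scoped Pointwise

universe u

/-- An involutive map preserving a finite set of odd size fixes an odd number of its points. -/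
theorem odd_card_fixed {α : Type*} [DecidableEq α] (σ : α → α) (hσ : ∀ x, σ (σ x) = x)
    (s : Finset α) (hs : ∀ x ∈ s, σ x ∈ s) (ho : Odd s.card) :
    Odd (s.filter fun x => σ x = x).card := by
  have h0 : ((s.filter fun x => ¬ σ x = x).card : ZMod 2) = 0 := by
    rw [Finset.card_eq_sum_ones, Nat.cast_sum]
    refine Finset.sum_involution (fun x _ => σ x) (fun x _ => by decide)
      (fun x hx _ => (Finset.mem_filter.1 hx).2) (fun x hx => ?_) (fun x _ => hσ x)
    obtain ⟨h1, h2⟩ := Finset.mem_filter.1 hx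
    exact Finset.mem_filter.2 ⟨hs x h1, fun e => h2 (by rw [hσ] at e; exact e.symm)⟩
  have h2 : Even (s.filter fun x => ¬ σ x = x).card :=
    even_iff_two_dvd.2 ((ZMod.natCast_eq_zero_iff_even).1 h0).two_dvd
  have h3 := Finset.card_filter_add_card_filter_not (s := s) (fun x => σ x = x)
  rw [← h3] at ho
  exact (Nat.odd_add.1 ho).2 h2

theorem m11_four_not_maximal {G : Type u} [Group G] [Finite G] (h : Cfsg.Spor.IsoM11 G)
    (V : Subgroup G) [IsKleinFour V] (hN : Nat.card (Subgroup.normalizer (V : Set G)) = 24) :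
    ¬ IsCoatom (Subgroup.normalizer (V : Set G)) := by
  classical
  intro hmax
  obtain ⟨e⟩ := h
  let ι : G →* Equiv.Perm GolayPt := Spor.M11.subtype.comp e.toMonoidHom
  have hι : Function.Injective ι := fun x y h => e.injective (Spor.M11.subtype_injective h)
  have hιM : ∀ g, ι g ∈ Spor.M11 := fun g => (e g).2
  set D := Spor.squareDodecad.erase (some 0) with hD
  have hDc : D.card = 11 := by
    rw [hD, Finset.card_erase_of_mem OuterAut.zero_mem_dod, squareDodecad_mem.2]
  have hDinv : ∀ g : G, ∀ q ∈ D, ι g q ∈ D := fun g q hq => maps_erase (hιM g) hq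
  -- two generators
  haveI : Nontrivial ↥V := Finite.one_lt_card_iff_nontrivial.1 (by rw [IsKleinFour.card_four]; norm_num)
  obtain ⟨x, hx⟩ := exists_ne (1 : ↥V)
  obtain ⟨y, hy, hyx⟩ : ∃ y : ↥V, y ≠ 1 ∧ y ≠ x := by
    by_contra hc
    push Not at hc
    have : Nat.card ↥V ≤ ({1, x} : Finset ↥V).card := by
      haveI := Fintype.ofFinite ↥V
      rw [Nat.card_eq_fintype_card, ← Finset.card_univ]
      refine Finset.card_le_card fun z _ => ?_
      by_cases hz : z = 1
      · simp [hz]
      · simp [hc z hz]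
    rw [IsKleinFour.card_four] at this
    have := this.trans Finset.card_le_two
    omega
  have hinv : ∀ (v : ↥V) (q : GolayPt), ι (v : G) (ι (v : G) q) = q := fun v q => by
    rw [← Equiv.Perm.mul_apply, ← map_mul, ← Subgroup.coe_mul, IsKleinFour.mul_self,
      Subgroup.coe_one, map_one, Equiv.Perm.one_apply]
  -- the fixed points
  let Fx := D.filter fun q => ι (x : G) q = q
  have hFx : Odd Fx.card :=
    odd_card_fixed _ (hinv x) D (fun q hq => hDinv _ q hq) (by rw [hDc]; decide)
  have hcomm : ∀ (v w : ↥V) (q : GolayPt), ι (v : G) (ι (w : G) q) = ι (w : G) (ι (v : G) q) := by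
    intro v w q
    have hvw : v * w = w * v :=
      mul_comm_of_exponent_two (IsKleinFour.exponent_two (G := ↥V)) v w
    rw [← Equiv.Perm.mul_apply, ← Equiv.Perm.mul_apply, ← map_mul, ← map_mul, ← Subgroup.coe_mul,
      hvw, Subgroup.coe_mul]
  let Fy := Fx.filter fun q => ι (y : G) q = q
  have hFy : Odd Fy.card := by
    refine odd_card_fixed _ (hinv y) Fx (fun q hq => ?_) hFx
    obtain ⟨h1, h2⟩ := Finset.mem_filter.1 hq
    exact Finset.mem_filter.2 ⟨hDinv _ q h1, by rw [hcomm, h2]⟩
  set F := D.filter fun q => ∀ v : ↥V, ι (v : G) q = q with hFdef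
  have hF : F = Fy := by
    ext q
    simp only [hFdef, Fy, Fx, Finset.mem_filter]
    refine ⟨fun hq => ⟨⟨hq.1, hq.2 x⟩, hq.2 y⟩, fun hq => ⟨hq.1.1, fun v => ?_⟩⟩
    by_cases h1 : v = 1
    · rw [h1, Subgroup.coe_one, map_one, Equiv.Perm.one_apply]
    by_cases h2 : v = x
    · rw [h2]; exact hq.1.2
    by_cases h3 : v = y
    · rw [h3]; exact hq.2
    rw [IsKleinFour.eq_mul_of_ne_all hx hy hyx.symm h1 h2 h3, Subgroup.coe_mul, map_mul,
      Equiv.Perm.mul_apply, hq.2, hq.1.2]
  have hFne : F.Nonempty := Finset.card_pos.1 (hF ▸ hFy.pos)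
  have hF3 : F.card ≤ 3 := by
    by_contra hc
    push Not at hc
    have hsub : insert (some 0 : GolayPt) F ⊆ fixIn (ι (x : G)) Spor.squareDodecad := by
      refine Finset.insert_subset (mem_fixIn.2 ⟨OuterAut.zero_mem_dod, (mem_M11.1 (hιM _)).2⟩) ?_
      intro q hq
      obtain ⟨h1, h2⟩ := Finset.mem_filter.1 hq
      exact mem_fixIn.2 ⟨(Finset.mem_erase.1 h1).2, h2 x⟩
    have h0 : (some 0 : GolayPt) ∉ F := fun hm => (Finset.mem_erase.1 (Finset.mem_filter.1 hm).1).1 rfl
    have h5 := Finset.card_le_card hsub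
    rw [Finset.card_insert_of_notMem h0] at h5
    have h1 := eq_one_of_five_le (mem_M11.1 (hιM (x : G))).1.1 squareDodecad_mem
      (mem_M11.1 (hιM (x : G))).1.2 (by omega)
    exact hx (Subtype.ext (hι (h1.trans (map_one ι).symm)))
  -- the stabilizer of the fixed points
  let S : Subgroup G := (MulAction.stabilizer (Equiv.Perm GolayPt) F).comap ι
  have hNS : Subgroup.normalizer (V : Set G) ≤ S := by
    intro g hg
    rw [Subgroup.mem_comap, MulAction.mem_stabilizer_iff]
    refine Finset.eq_of_subset_of_card_le (fun q hq => ?_) (Finset.card_smul_finset _ _).ge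
    obtain ⟨r, hr, rfl⟩ := Finset.mem_smul_finset.1 hq
    obtain ⟨h1, h2⟩ := Finset.mem_filter.1 hr
    refine Finset.mem_filter.2 ⟨hDinv g r h1, fun v => ?_⟩
    have hv : g⁻¹ * (v : G) * g ∈ V := by
      simpa using (Subgroup.mem_normalizer_iff.1 (inv_mem hg) (v : G)).1 v.2
    have h3 := h2 ⟨_, hv⟩
    simp only [map_mul, map_inv, Equiv.Perm.mul_apply, Equiv.Perm.inv_eq_iff_eq] at h3
    exact h3
  have hSne : S ≠ ⊤ := by
    intro htop
    obtain ⟨q, hq⟩ := hFne
    obtain ⟨r, hr, hrF⟩ : ∃ r ∈ D, r ∉ F := by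
      by_contra hc
      push Not at hc
      have := Finset.card_le_card (fun r hr => hc r hr : D ⊆ F)
      omega
    obtain ⟨g, hg, hgq⟩ := trans_dodecad (Finset.mem_filter.1 hq).1 hr
    have hgS : e.symm ⟨g, hg⟩ ∈ S := htop ▸ Subgroup.mem_top _
    rw [Subgroup.mem_comap, MulAction.mem_stabilizer_iff] at hgS
    refine hrF ?_
    rw [← hgS, ← hgq]
    refine Finset.mem_smul_finset.2 ⟨q, hq, ?_⟩
    simp [ι]
  have hSN : S = Subgroup.normalizer (V : Set G) := by
    rcases hNS.eq_or_lt with h1 | h1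
    · exact h1.symm
    · exact absurd (hmax.2 S h1) hSne
  have hidx : S.index ≤ Nat.choose 11 F.card := by
    rw [Subgroup.index_eq_card, ← hDc, ← Finset.card_powersetCard, ← Nat.card_eq_finsetCard]
    refine Nat.card_le_card_of_injective (fun c : G ⧸ S => (⟨ι c.out • F, Finset.mem_powersetCard.2
      ⟨fun q hq => ?_, Finset.card_smul_finset _ _⟩⟩ : ↥(D.powersetCard F.card))) ?_
    · obtain ⟨r, hr, rfl⟩ := Finset.mem_smul_finset.1 hq
      exact hDinv _ r (Finset.mem_filter.1 hr).1
    · intro c d hcd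
      have h1 : ι c.out • F = ι d.out • F := congrArg Subtype.val hcd
      rw [← c.out_eq', ← d.out_eq', QuotientGroup.eq, Subgroup.mem_comap,
        MulAction.mem_stabilizer_iff, map_mul, map_inv, mul_smul, inv_smul_eq_iff]
      exact h1.symm
  have hc : Nat.choose 11 F.card ≤ 165 := by
    have : F.card = 0 ∨ F.card = 1 ∨ F.card = 2 ∨ F.card = 3 := by omega
    rcases this with h1 | h1 | h1 | h1 <;> rw [h1] <;> decide
  have hG : Nat.card G = 7920 := by rw [Nat.card_congr e.toEquiv, card_M11]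
  have h1 := S.card_mul_index
  rw [hG, hSN, hN, ← hSN] at h1
  omega

end CfsgLib.Recog.SubThree
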