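import Cfsg.Agent.Lib.Recog.SubThree.Four
import Cfsg.Agent.Lib.Recog.SubThree.MEleven

/-!
# The groups with a maximal subgroup isomorphic to the symmetric group of degree four
-/

set_option autoImplicit false

namespace CfsgLib.Recog.SubThree

open Subgroup

universe u

/-- The case `H ≅ S₄`. -/
theorem Prim.symFour {G : Type u} [Group G] [Finite G] {H : Subgroup G} (h : Prim H)
    (e : H ≃* Equiv.Perm (Fin 4)) {B : Subgroup G} (hBH : B ≤ H) (hB : Nat.card B = 8) {g : G}
    (hgB : B.map (MulAut.conj g).toMonoidHom = B) (hg : g ∉ H) :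
    (∃ p : ℕ, p.Prime ∧ (p % 16 = 1 ∨ p % 16 = 15) ∧
        Nonempty (G ≃* Matrix.ProjectiveSpecialLinearGroup (Fin 2) (ZMod p))) ∨
      Nonempty (G ≃* Matrix.ProjectiveSpecialLinearGroup (Fin 3) (ZMod 3)) := by
  haveI := h.four_simple e hBH hB hgB hg
  haveI := fourOf_klein e
  obtain ⟨hN, hC⟩ := h.four_facts e
  obtain ⟨-, -, h16⟩ := h.four_swap e hBH hB hgB hg
  have h24 : Nat.card (normalizer (fourOf H e : Set G)) = 24 := by
    rw [hN, Nat.card_congr e.toEquiv, Nat.card_perm, Nat.card_fin]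
    rfl
  have hG : ¬ IsMulCommutative G := fun hc => by
    haveI := hc
    letI : CommGroup G := { (inferInstance : Group G) with mul_comm := hc.is_comm.comm }
    exact h.nsol inferInstance
  have hmax : IsCoatom (normalizer (fourOf H e : Set G)) := hN.symm ▸ h.coatom
  rcases max_class hG (fourOf H e) hC h24 h16 with ⟨F, i, j, hodd, hq, ⟨f⟩⟩ | hl | hm
  · exact Or.inl (psl_prime (fourOf H e) h24 hmax hodd hq f)
  · exact Or.inr hl
  · exact absurd hmax (m11_four_not_maximal hm (fourOf H e) h24)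

end CfsgLib.Recog.SubThree
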