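import Cfsg.Agent.Lib.Char.LThreeThree.GLRecog

/-!
# Computations in the product of `S₄` and a group of order two
-/

set_option autoImplicit false
set_option synthInstance.maxSize 4000
set_option synthInstance.maxHeartbeats 400000

namespace CfsgLib.Recog.SubThree

/-- The model. -/
abbrev FT := Equiv.Perm (Fin 4) × Multiplicative (ZMod 2)

/-- The central involution of the model. -/
def ftC : FT := (1, Multiplicative.ofAdd 1)

/-- Membership of the four group. -/
def inV (p : FT) : Prop := p.2 = 1 ∧ (p.1 = 1 ∨ (p.1 * p.1 = 1 ∧ ∀ i, p.1 i ≠ i))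

instance : DecidablePred inV := fun _ => instDecidableAnd

/-- Membership of the elementary abelian group of order eight. -/
def inE (p : FT) : Prop := p.1 = 1 ∨ (p.1 * p.1 = 1 ∧ ∀ i, p.1 i ≠ i)

instance : DecidablePred inE := fun _ => instDecidableOr

/-- The eight elements of the group generated by `z`, `v`, `w`. -/
def inB0 (z v w p : FT) : Prop :=
  p = 1 ∨ p = z ∨ p = v ∨ p = v * z ∨ p = w ∨ p = w * z ∨ p = v * w ∨ p = v * w * z

instance (z v w : FT) : DecidablePred (inB0 z v w) := fun _ => instDecidableOr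

theorem ft_centre : ftC * ftC = 1 ∧ ftC ≠ 1 ∧ ¬ inV ftC ∧ inE ftC ∧ ∀ p : FT, p * ftC = ftC * p := by
  decide +kernel

theorem ft_inE : ∀ p : FT, inE p → (inV p ∨ inV (p * ftC)) ∧ ∀ u : FT, inV u → p * u = u * p := by
  decide +kernel

theorem ft_z : ∀ p : FT, (∀ u, inV u → p * u = u * p) → inE p := by decide +kernel

theorem ft_conj : ∀ u : FT, inV u → ∀ p : FT, inV (p * u * p⁻¹) := by decide +kernel

theorem ft_trans : ∀ u : FT, inV u → u ≠ 1 → ∀ u' : FT, inV u' → u' ≠ 1 → ∃ p : FT, p * u * p⁻¹ = u' := by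
  decide +kernel

theorem ft_square : ∀ z : FT, inV z → z ≠ 1 →
    (∀ b : FT, b * z = z * b → b * b = 1 ∨ b * b = z) ∧ (∃ b : FT, b * z = z * b ∧ b * b = z) := by
  decide +kernel

theorem ft_central : ∀ z : FT, inV z → z ≠ 1 → ∀ b : FT, b * z = z * b →
    (∀ b' : FT, b' * z = z * b' → b * b' = b' * b) → b = 1 ∨ b = z ∨ b = ftC ∨ b = z * ftC := by
  decide +kernel

theorem ft_inE_list : ∀ z v : FT, inV z → z ≠ 1 → inV v → v ≠ 1 → v ≠ z → ∀ p : FT, inE p →
    p = 1 ∨ p = z ∨ p = v ∨ p = v * z ∨ p = ftC ∨ p = z * ftC ∨ p = v * ftC ∨ p = v * z * ftC := by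
  decide +kernel

theorem ft_list : ∀ z v : FT, inV z → z ≠ 1 → inV v → v ≠ 1 → v ≠ z → ∀ w : FT, w * z = z * w → w * w = 1 →
    ¬ inE w → w * v * w = v * z ∧ ∀ b : FT, b * z = z * b → inB0 z v w b ∨ inB0 z v w (b * ftC) := by
  decide +kernel

theorem ft_card : Fintype.card FT = 48 := by decide +kernel

theorem ft_card_centralizer : ∀ z : FT, inV z → z ≠ 1 →
    Fintype.card {p : FT // p * z = z * p} = 16 := by decide +kernel

theorem ft_outer_swap : ∀ K : FT, ¬ inE K → K * K = 1 → ∃ v : FT, inV v ∧ K * v * K⁻¹ ≠ v := by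
  decide +kernel

end CfsgLib.Recog.SubThree
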