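import Cfsg.Agent.Lib.Recog.SubThree.Basic
import Cfsg.Agent.Lib.Recog.SubThree.FourTwoModel
import Cfsg.Agent.Lib.Invol.Basic

/-!
# The Sylow subgroup of a maximal subgroup isomorphic to `S₄ × 2`
-/

set_option autoImplicit false
set_option linter.unusedSectionVars false

namespace CfsgLib.Recog.SubThree

open Subgroup CfsgLib.Invol

universe u

variable {G : Type u} [Group G]

/-- The eight elements generated by `z`, `v`, `w`. -/
def B0Set (z v w : G) : Set G :=
  {x | x = 1 ∨ x = z ∨ x = v ∨ x = v * z ∨ x = w ∨ x = w * z ∨ x = v * w ∨ x = v * w * z}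

/-- The relations in `⟨B, g⟩`. -/
structure FTData (B : Subgroup G) (z c v w g : G) : Prop where
  zz : z * z = 1
  cc : c * c = 1
  vv : v * v = 1
  ww : w * w = 1
  z1 : z ≠ 1
  mem : z ∈ B ∧ c ∈ B ∧ v ∈ B ∧ w ∈ B
  zB : ∀ b ∈ B, Commute z b
  cB : ∀ b ∈ B, Commute c b
  wvw : w * v * w = v * z
  list : ∀ b ∈ B, b ∈ B0Set z v w ∨ b * c ∈ B0Set z v w
  cnot : c ∉ B0Set z v w
  gv : g * v * g⁻¹ = w
  gc : g * c * g⁻¹ = z * c
  gz : Commute g z
  gB : ∀ b ∈ B, g * b * g⁻¹ ∈ B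
  gg : g * g ∈ B
  gnot : g ∉ B

variable [Finite G] {H : Subgroup G}

set_option synthInstance.maxSize 4000 in
theorem ft_c_notMem : ∀ z v w : FT, inV z → z ≠ 1 → inV v → v ≠ 1 → v ≠ z → w * z = z * w → ¬ inE w →
    ¬ inB0 z v w ftC := by decide +kernel

/-- The four group of `H ≅ S₄ × 2`. -/
def vOf (H : Subgroup G) (e : H ≃* FT) : Subgroup G where
  carrier := {v | ∃ hv : v ∈ H, inV (e ⟨v, hv⟩)}
  one_mem' := ⟨H.one_mem, by
    rw [show (⟨1, H.one_mem⟩ : H) = 1 from rfl, map_one]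
    exact ⟨rfl, Or.inl rfl⟩⟩
  mul_mem' := by
    have hmul : ∀ p : FT, inV p → ∀ q : FT, inV q → inV (p * q) := by decide +kernel
    rintro a b ⟨ha, hpa⟩ ⟨hb, hpb⟩
    refine ⟨H.mul_mem ha hb, ?_⟩
    rw [show (⟨a * b, H.mul_mem ha hb⟩ : H) = ⟨a, ha⟩ * ⟨b, hb⟩ from rfl, map_mul]
    exact hmul _ hpa _ hpb
  inv_mem' := by
    have hinv : ∀ p : FT, inV p → inV p⁻¹ := by decide +kernel
    rintro a ⟨ha, hpa⟩
    refine ⟨H.inv_mem ha, ?_⟩
    rw [show (⟨a⁻¹, H.inv_mem ha⟩ : H) = ⟨a, ha⟩⁻¹ from rfl, map_inv]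
    exact hinv _ hpa

theorem mem_vOf {e : H ≃* FT} {v : G} : v ∈ vOf H e ↔ ∃ hv : v ∈ H, inV (e ⟨v, hv⟩) := Iff.rfl

theorem vOf_le (e : H ≃* FT) : vOf H e ≤ H := fun _ hv => hv.1

theorem vOf_klein (e : H ≃* FT) : IsKleinFour (vOf H e) := by
  classical
  have hc : Nat.card (vOf H e) = 4 := by
    have h1 : Nat.card (vOf H e) = Nat.card {p : FT // inV p} := Nat.card_congr
      { toFun := fun v => ⟨e ⟨v, v.2.1⟩, v.2.2⟩
        invFun := fun p => ⟨(e.symm p : H), (e.symm p).2, by rw [Subtype.coe_eta, e.apply_symm_apply]; exact p.2⟩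
        left_inv := fun v => Subtype.ext (by simp)
        right_inv := fun p => Subtype.ext (by simp) }
    rw [h1, Nat.card_eq_fintype_card]
    decide +kernel
  haveI : Nontrivial (vOf H e) := Finite.one_lt_card_iff_nontrivial.1 (by omega)
  refine { card_four := hc, exponent_two := (Monoid.exponent_eq_prime_iff Nat.prime_two).2 fun v hv => ?_ }
  obtain ⟨hm, hp⟩ := mem_vOf.1 v.2
  have hsq : ∀ p : FT, inV p → p * p = 1 := by decide +kernel
  refine orderOf_eq_prime (Subtype.ext ?_) hv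
  have h2 : e (⟨v, hm⟩ * ⟨v, hm⟩) = 1 := by rw [map_mul]; exact hsq _ hp
  rw [e.map_eq_one_iff] at h2
  rw [pow_two]
  exact congrArg (fun t : H => (t : G)) h2

/-- The central involution of `H`. -/
noncomputable def cOf (H : Subgroup G) (e : H ≃* FT) : G := (e.symm ftC : H)

theorem vOf_conj (e : H ≃* FT) {a v : G} (ha : a ∈ H) (hv : v ∈ vOf H e) : a * v * a⁻¹ ∈ vOf H e := by
  obtain ⟨hvH, hp⟩ := mem_vOf.1 hv
  refine mem_vOf.2 ⟨H.mul_mem (H.mul_mem ha hvH) (H.inv_mem ha), ?_⟩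
  rw [show (⟨a * v * a⁻¹, H.mul_mem (H.mul_mem ha hvH) (H.inv_mem ha)⟩ : H) =
    ⟨a, ha⟩ * ⟨v, hvH⟩ * ⟨a, ha⟩⁻¹ from rfl, map_mul, map_mul, map_inv]
  exact ft_conj _ hp _

theorem vOf_normal (e : H ≃* FT) : H ≤ normalizer (vOf H e : Set G) := by
  intro a ha
  rw [mem_normalizer_iff]
  refine fun v => ⟨vOf_conj e ha, fun hv => ?_⟩
  have := vOf_conj e (H.inv_mem ha) hv
  simpa [mul_assoc] using this

/-- The centralizers of the central involution and of the four group. -/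
theorem Prim.ft_facts (h : Prim H) (e : H ≃* FT) :
    centralizer ({cOf H e} : Set G) = H ∧ normalizer (vOf H e : Set G) = H ∧
      centralizer (vOf H e : Set G) ≤ H ∧
      (∀ a, a ∈ centralizer (vOf H e : Set G) → ∀ ha : a ∈ H, inE (e ⟨a, ha⟩)) := by
  haveI := vOf_klein e
  obtain ⟨-, hne, -, -, hcen⟩ := ft_centre
  have hV : vOf H e ≠ ⊥ := fun e1 => by
    have := (IsKleinFour.card_four : Nat.card (vOf H e) = 4)
    rw [e1, card_bot] at this
    omega
  have hN := h.normalizer_eq (vOf_le e) hV (vOf_normal e)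
  refine ⟨h.centralizer_eq (e.symm ftC).2 ?_ ?_, hN, (centralizer_le_normalizer (vOf H e : Set G)).trans hN.le, ?_⟩
  · intro e1
    refine hne ?_
    rw [← e.apply_symm_apply ftC, show e.symm ftC = 1 from Subtype.ext e1, map_one]
  · intro a ha
    have := congrArg (fun t : H => (t : G)) (e.injective (show e (⟨a, ha⟩ * e.symm ftC) = e (e.symm ftC * ⟨a, ha⟩) by
      rw [map_mul, map_mul, e.apply_symm_apply]; exact hcen _))
    exact this
  · intro a ha haH
    refine ft_z _ fun u hu => ?_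
    have hmem : ((e.symm u : H) : G) ∈ vOf H e :=
      mem_vOf.2 ⟨(e.symm u).2, by rw [Subtype.coe_eta, e.apply_symm_apply]; exact hu⟩
    have h1 := mem_centralizer_iff.1 ha _ hmem
    have h2 : (⟨a, haH⟩ : H) * e.symm u = e.symm u * ⟨a, haH⟩ := Subtype.ext h1.symm
    have h3 := congrArg e h2
    simpa using h3

/-- The Sylow subgroup of `H` and the element normalizing it. -/
theorem Prim.ft_data (h : Prim H) (e : H ≃* FT) {B : Subgroup G} (hBH : B ≤ H) (hB : Nat.card B = 16)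
    {g : G} (hgB : B.map (MulAut.conj g).toMonoidHom = B) (hg : g ∉ H) :
    ∃ z v w : G, FTData B z (cOf H e) v w g ∧ z ∈ vOf H e ∧ v ∈ vOf H e ∧ v ≠ 1 := by
  classical
  haveI : Fact (Nat.Prime 2) := ⟨Nat.prime_two⟩
  haveI hK := vOf_klein e
  obtain ⟨hC, hN, hCV, hCE⟩ := h.ft_facts e
  obtain ⟨hcc, -, hcV, -, hcen⟩ := ft_centre
  set V := vOf H e with hV
  set c := cOf H e with hc
  have hcH : c ∈ H := (e.symm ftC).2
  have hec : e ⟨c, hcH⟩ = ftC := e.apply_symm_apply _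
  have hBp : IsPGroup 2 B := IsPGroup.of_card (n := 4) (by rw [hB]; norm_num)
  have h48 : Nat.card H = 48 := by rw [Nat.card_congr e.toEquiv, Nat.card_eq_fintype_card, ft_card]
  have hVB : V ≤ B := by
    have hVp : IsPGroup 2 V := IsPGroup.of_card (n := 2) (by rw [IsKleinFour.card_four]; norm_num)
    have hsup : IsPGroup 2 (B ⊔ V : Subgroup G) :=
      hBp.to_sup_of_normal_right' hVp (hBH.trans (vOf_normal e))
    obtain ⟨m, hm⟩ := IsPGroup.iff_card.1 hsup
    have hd : 2 ^ m ∣ 2 ^ 4 * 3 := by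
      rw [← hm, show 2 ^ 4 * 3 = Nat.card H by rw [h48]; norm_num]
      exact card_dvd_of_le (sup_le hBH (vOf_le e))
    have := eq_of_le_of_card_ge (le_sup_left : B ≤ B ⊔ V) (by
      rw [hm, hB]
      exact Nat.le_of_dvd (by norm_num)
        ((Nat.Coprime.pow_left m (by norm_num : Nat.Coprime 2 3)).dvd_of_dvd_mul_right hd))
    exact this.symm ▸ le_sup_right
  -- a fixed point of `B` on `V`
  obtain ⟨z, hzV, hz1, hzB⟩ : ∃ z ∈ V, z ≠ 1 ∧ ∀ b ∈ B, Commute z b := by
    letI act : MulAction B V :=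
      { smul := fun b u => ⟨(b : G) * u * (b : G)⁻¹, vOf_conj e (hBH b.2) u.2⟩
        one_smul := fun u => Subtype.ext (by show ((1 : B) : G) * u * ((1 : B) : G)⁻¹ = u; simp)
        mul_smul := fun a b u => Subtype.ext (by
          show ((a * b : B) : G) * u * ((a * b : B) : G)⁻¹ = (a : G) * ((b : G) * u * (b : G)⁻¹) * (a : G)⁻¹
          simp [mul_assoc]) }
    obtain ⟨u, hu, hu1⟩ := hBp.exists_fixed_point_of_prime_dvd_card_of_fixed_point V
      (show 2 ∣ Nat.card V by rw [IsKleinFour.card_four]; norm_num) (a := (1 : V))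
      (fun b => Subtype.ext (by show (b : G) * ((1 : V) : G) * (b : G)⁻¹ = ((1 : V) : G); simp))
    refine ⟨u, u.2, fun e1 => hu1 (Subtype.ext (by rw [e1]; rfl)), fun b hb => ?_⟩
    have := congrArg Subtype.val (hu ⟨b, hb⟩)
    exact (mul_inv_eq_iff_eq_mul.1 this).symm
  obtain ⟨hzH, hzi⟩ := mem_vOf.1 hzV
  set ez := e ⟨z, hzH⟩ with hezdef
  have hez1 : ez ≠ 1 := fun e1 => hz1 (congrArg Subtype.val (e.map_eq_one_iff.1 e1))
  have hmap : ∀ {a b : G} (ha : a ∈ H) (hb : b ∈ H),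
      e ⟨a, ha⟩ * e ⟨b, hb⟩ = e ⟨a * b, H.mul_mem ha hb⟩ := fun ha hb => (map_mul e _ _).symm
  have hinj : ∀ {a b : G} (ha : a ∈ H) (hb : b ∈ H), e ⟨a, ha⟩ = e ⟨b, hb⟩ → a = b :=
    fun ha hb e1 => congrArg Subtype.val (e.injective e1)
  have hcomz : ∀ {b : G} (hb : b ∈ H), Commute z b → e ⟨b, hb⟩ * ez = ez * e ⟨b, hb⟩ := fun hb hc' => by
    rw [hezdef, hmap, hmap]; exact congrArg e (Subtype.ext hc'.eq.symm)
  -- `B` is the centralizer of `z` in `H`
  have hmemB : ∀ b : G, ∀ hb : b ∈ H, e ⟨b, hb⟩ * ez = ez * e ⟨b, hb⟩ → b ∈ B := by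
    let A : Subgroup G := H ⊓ centralizer ({z} : Set G)
    have hBA : B ≤ A := fun b hb => ⟨hBH hb, mem_centralizer_singleton_iff.2 (hzB b hb).eq.symm⟩
    have hA : A = B := by
      refine (eq_of_le_of_card_ge hBA ?_).symm
      rw [hB]
      have h16 := ft_card_centralizer ez hzi hez1
      rw [← Nat.card_eq_fintype_card] at h16
      refine le_trans ?_ h16.le
      refine Nat.card_le_card_of_injective (fun a => (⟨e ⟨a, a.2.1⟩, hcomz a.2.1
        (show Commute z (a : G) from (mem_centralizer_singleton_iff.1 a.2.2).symm)⟩ :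
          {p : FT // p * ez = ez * p})) fun a b e1 => ?_
      exact Subtype.ext (hinj a.2.1 b.2.1 (congrArg Subtype.val e1))
    intro b hb hcomm
    rw [← hA]
    refine ⟨hb, mem_centralizer_singleton_iff.2 ?_⟩
    have := hinj (H.mul_mem hb hzH) (H.mul_mem hzH hb) (by rw [← hmap hb hzH, ← hmap hzH hb]; exact hcomm)
    exact this
  have hgB' : ∀ b ∈ B, g * b * g⁻¹ ∈ B := fun b hb => hgB ▸ ⟨b, hb, rfl⟩
  have hgB'' : ∀ b ∈ B, g⁻¹ * b * g ∈ B := fun b hb => by
    obtain ⟨a, ha, rfl⟩ : b ∈ B.map (MulAut.conj g).toMonoidHom := hgB.symm ▸ hb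
    simpa [mul_assoc] using ha
  have hcB : ∀ b ∈ B, Commute c b := fun b hb =>
    (show Commute b c from mem_centralizer_singleton_iff.1 (hC.symm ▸ hBH hb)).symm
  have hcmem : c ∈ B := hmemB c hcH (by rw [hec]; exact (hcen ez).symm)
  have hzmem : z ∈ B := hVB hzV
  obtain ⟨hsq, b0, hb0, hb0z⟩ := ft_square ez hzi hez1
  -- `g` fixes `z`
  have hgz : Commute g z := by
    have hbm : ((e.symm b0 : H) : G) ∈ B := hmemB _ (e.symm b0).2 (by
      rw [Subtype.coe_eta, e.apply_symm_apply]; exact hb0)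
    have hbz : ((e.symm b0 : H) : G) * (e.symm b0 : H) = z := by
      refine hinj (H.mul_mem (e.symm b0).2 (e.symm b0).2) hzH ?_
      rw [← hmap (e.symm b0).2 (e.symm b0).2, Subtype.coe_eta, e.apply_symm_apply, hb0z]
    have hb' := hgB' _ hbm
    have hsq' := hsq _ (hcomz (hBH hb') (hzB _ hb'))
    rw [hmap] at hsq'
    have heq : g * (e.symm b0 : H) * g⁻¹ * (g * (e.symm b0 : H) * g⁻¹) = g * z * g⁻¹ := by
      rw [← hbz]; group
    rcases hsq' with e1 | e1
    · exfalso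
      have := congrArg Subtype.val (e.map_eq_one_iff.1 e1)
      simp only [heq, Subgroup.coe_one] at this
      exact hz1 (conj_eq_one_iff.1 this)
    · have := hinj _ hzH e1
      rw [heq] at this
      exact mul_inv_eq_iff_eq_mul.1 this
  have hzc : z ≠ c := fun e1 => by
    refine hcV ?_
    rw [← hec]
    have : (⟨c, hcH⟩ : H) = ⟨z, hzH⟩ := Subtype.ext e1.symm
    rw [this]; exact hzi
  have hc1 : c ≠ 1 := fun e1 => hcV (by
    rw [← hec, show (⟨c, hcH⟩ : H) = 1 from Subtype.ext e1, map_one]; exact ⟨rfl, Or.inl rfl⟩)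
  -- `g` moves `c`
  have hgc : g * c * g⁻¹ = z * c := by
    have hm := hgB' c hcmem
    have hcent := ft_central ez hzi hez1 _ (hcomz (hBH hm) (hzB _ hm)) (fun b' hb' => by
      have hb'B : ((e.symm b' : H) : G) ∈ B := hmemB _ (e.symm b').2 (by
        rw [Subtype.coe_eta, e.apply_symm_apply]; exact hb')
      rw [← e.apply_symm_apply b', ← map_mul, ← map_mul]
      refine congrArg e (Subtype.ext ?_)
      show g * c * g⁻¹ * (e.symm b' : H) = (e.symm b' : H) * (g * c * g⁻¹)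
      have := (hcB _ (hgB'' _ hb'B)).map (MulAut.conj g)
      simpa [mul_assoc] using this.eq)
    rcases hcent with e1 | e1 | e1 | e1
    · exact absurd (conj_eq_one_iff.1 (congrArg Subtype.val (e.map_eq_one_iff.1 e1))) hc1
    · exfalso
      have h1 := hinj _ hzH e1
      refine hzc ?_
      calc z = g⁻¹ * z * g := by rw [mul_assoc, ← hgz.eq, inv_mul_cancel_left]
        _ = c := by rw [← h1]; group
    · exfalso
      rw [← hec] at e1
      have h1 := hinj _ hcH e1
      exact hg (hC ▸ mem_centralizer_singleton_iff.2 (mul_inv_eq_iff_eq_mul.1 h1))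
    · rw [← hec, hezdef, hmap] at e1
      exact hinj _ _ e1
  -- another element of the four group
  obtain ⟨v, hvV, hv1, hvz⟩ : ∃ v ∈ V, v ≠ 1 ∧ v ≠ z := by
    by_contra! hall
    have hle : (V : Set G) ⊆ {1, z} := fun u hu => (em (u = 1)).imp_right (hall u hu)
    have := Set.ncard_le_ncard hle
    rw [← Nat.card_coe_set_eq, show Nat.card (V : Set G) = 4 from IsKleinFour.card_four] at this
    have h2 : ({1, z} : Set G).ncard ≤ 2 := (Set.ncard_insert_le _ _).trans (by rw [Set.ncard_singleton])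
    omega
  obtain ⟨hvH, hvi⟩ := mem_vOf.1 hvV
  set ev := e ⟨v, hvH⟩ with hevdef
  have hev1 : ev ≠ 1 := fun e1 => hv1 (congrArg Subtype.val (e.map_eq_one_iff.1 e1))
  have hevz : ev ≠ ez := fun e1 => hvz (hinj hvH hzH e1)
  have hvv : v * v = 1 := by
    have := Monoid.pow_exponent_eq_one (⟨v, hvV⟩ : V)
    rw [IsKleinFour.exponent_two, pow_two] at this
    exact congrArg Subtype.val this
  have hzz : z * z = 1 := by
    have := Monoid.pow_exponent_eq_one (⟨z, hzV⟩ : V)
    rw [IsKleinFour.exponent_two, pow_two] at this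
    exact congrArg Subtype.val this
  have hvB : v ∈ B := hVB hvV
  set w := g * v * g⁻¹ with hw
  have hwB : w ∈ B := hgB' v hvB
  have hwH := hBH hwB
  have hww : w * w = 1 := by rw [hw, show g * v * g⁻¹ * (g * v * g⁻¹) = g * (v * v) * g⁻¹ by group, hvv]; group
  -- `w` is outside the centralizer of the four group
  have hwE : ¬ inE (e ⟨w, hwH⟩) := by
    intro hE
    set E := centralizer (V : Set G) with hEdef
    have hlist : ∀ a ∈ E, a = 1 ∨ a = z ∨ a = v ∨ a = v * z ∨ a = c ∨ a = z * c ∨ a = v * c ∨ a = v * z * c := by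
      intro a ha
      have haH := hCV ha
      have := ft_inE_list ez ev hzi hez1 hvi hev1 hevz _ (hCE a ha haH)
      rw [← hec, hezdef, hevdef, hmap, hmap, hmap, hmap] at this
      rcases this with e1 | e1 | e1 | e1 | e1 | e1 | e1 | e1
      · exact Or.inl (congrArg Subtype.val (e.map_eq_one_iff.1 e1))
      all_goals have := hinj _ _ e1
      all_goals simp [this]
    have hwE' : w ∈ E := by
      refine mem_centralizer_iff.2 fun u hu => ?_
      obtain ⟨huH, hui⟩ := mem_vOf.1 hu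
      refine hinj (H.mul_mem huH hwH) (H.mul_mem hwH huH) ?_
      rw [← hmap huH hwH, ← hmap hwH huH]
      exact ((ft_inE _ hE).2 _ hui).symm
    have hzE : z ∈ E := mem_centralizer_iff.2 fun u hu => (hzB u (hVB hu)).eq.symm
    have hcE : c ∈ E := mem_centralizer_iff.2 fun u hu => (hcB u (hVB hu)).eq.symm
    have himg : E.map (MulAut.conj g).toMonoidHom ≤ E := by
      rintro _ ⟨a, ha, rfl⟩
      show g * a * g⁻¹ ∈ E
      have hfz : g * z * g⁻¹ = z := mul_inv_eq_iff_eq_mul.2 hgz.eq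
      have hmul : ∀ a b : G, g * (a * b) * g⁻¹ = g * a * g⁻¹ * (g * b * g⁻¹) := fun a b => by group
      rcases hlist a ha with rfl | rfl | rfl | rfl | rfl | rfl | rfl | rfl
      · simp [E.one_mem]
      · rw [hfz]; exact hzE
      · exact hwE'
      · rw [hmul, hfz]; exact E.mul_mem hwE' hzE
      · rw [hgc]; exact E.mul_mem hzE hcE
      · rw [hmul, hfz, hgc]; exact E.mul_mem hzE (E.mul_mem hzE hcE)
      · rw [hmul, hgc]; exact E.mul_mem hwE' (E.mul_mem hzE hcE)
      · rw [hmul, hmul v z, hfz, hgc]; exact E.mul_mem (E.mul_mem hwE' hzE) (E.mul_mem hzE hcE)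
    have heq := eq_of_le_of_card_ge himg
      (le_of_eq (Nat.card_congr (E.equivMapOfInjective (MulAut.conj g).toMonoidHom
        (MulAut.conj g).injective).toEquiv))
    have hEne : E ≠ ⊥ := fun e1 => hz1 (mem_bot.1 (e1 ▸ hzE))
    have hEn : H ≤ normalizer (E : Set G) := by
      intro a ha
      rw [mem_normalizer_iff]
      have key : ∀ b ∈ H, ∀ x ∈ E, b * x * b⁻¹ ∈ E := fun b hb x hx => by
        refine mem_centralizer_iff.2 fun u hu => ?_
        have h1 := mem_centralizer_iff.1 hx _ (vOf_conj e (H.inv_mem hb) hu)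
        rw [inv_inv] at h1
        calc u * (b * x * b⁻¹) = b * ((b⁻¹ * u * b) * x) * b⁻¹ := by group
          _ = b * x * b⁻¹ * u := by rw [h1]; group
      refine fun x => ⟨key a ha x, fun hx => ?_⟩
      have := key a⁻¹ (H.inv_mem ha) _ hx
      simpa [mul_assoc] using this
    exact hg (h.normalizer_eq hCV hEne hEn ▸ mem_normalizer_iff_conj_image_eq.2 (congrArg SetLike.coe heq))
  obtain ⟨hwvw, hlist⟩ := ft_list ez ev hzi hez1 hvi hev1 hevz _ (hcomz hwH (hzB w hwB))
    (by rw [hmap]; exact e.map_eq_one_iff.2 (Subtype.ext hww)) hwE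
  have hlist0 : ∀ {b : G} (hb : b ∈ H), inB0 ez ev (e ⟨w, hwH⟩) (e ⟨b, hb⟩) → b ∈ B0Set z v w := by
    intro b hb h1
    rw [inB0, hezdef, hevdef, hmap, hmap, hmap, hmap] at h1
    rcases h1 with e1 | e1 | e1 | e1 | e1 | e1 | e1 | e1
    · exact Or.inl (congrArg Subtype.val (e.map_eq_one_iff.1 e1))
    all_goals have := hinj _ _ e1
    all_goals simp [B0Set, this]
  refine ⟨z, v, w, ?_, hzV, hvV, hv1⟩
  refine { zz := hzz, vv := hvv, ww := hww, z1 := hz1, mem := ⟨hzmem, hcmem, hvB, hwB⟩, zB := hzB,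
           cB := hcB, gv := rfl, gc := hgc, gz := hgz, gB := hgB', cc := ?_, wvw := ?_, list := ?_,
           cnot := ?_, gg := ?_, gnot := fun h1 => hg (hBH h1) }
  · refine hinj (H.mul_mem hcH hcH) H.one_mem ?_
    rw [← hmap hcH hcH, hec, show (⟨1, H.one_mem⟩ : H) = 1 from rfl, map_one]; exact hcc
  · rw [hevdef, hezdef, hmap, hmap, hmap] at hwvw
    exact hinj _ _ hwvw
  · intro b hb
    have hbH := hBH hb
    rcases hlist _ (hcomz hbH (hzB b hb)) with h1 | h1
    · exact Or.inl (hlist0 hbH h1)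
    · rw [← hec, hmap] at h1
      exact Or.inr (hlist0 _ h1)
  · -- `c` is not among the eight elements
    intro hcm
    refine ft_c_notMem ez ev (e ⟨w, hwH⟩) hzi hez1 hvi hev1 hevz (hcomz hwH (hzB w hwB)) hwE ?_
    rw [← hec]
    simp only [B0Set, Set.mem_setOf_eq] at hcm
    rw [inB0, hezdef, hevdef, hmap, hmap, hmap, hmap, ← map_one e]
    simp only [e.injective.eq_iff, Subtype.ext_iff, Subgroup.coe_one]
    exact hcm
  · have h1 : g * g ∈ H := by
      rw [← hC]
      refine mem_centralizer_singleton_iff.2 (mul_inv_eq_iff_eq_mul.1 ?_)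
      calc g * g * c * (g * g)⁻¹ = g * (g * c * g⁻¹) * g⁻¹ := by group
        _ = g * (z * c) * g⁻¹ := by rw [hgc]
        _ = (g * z * g⁻¹) * (g * c * g⁻¹) := by group
        _ = c := by rw [hgc, mul_inv_eq_iff_eq_mul.2 hgz.eq, ← mul_assoc, hzz, one_mul]
    exact hmemB _ h1 (hcomz h1 (hgz.mul_left hgz).symm)

end CfsgLib.Recog.SubThree
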