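import Cfsg.Agent.Lib.Recog.SubThree.PSLAut
import Cfsg.Agent.Lib.Recog.SubThree.Basic

/-!
# A normal subgroup of index two and an involution outside it
-/

set_option autoImplicit false
set_option linter.unusedSectionVars false

set_option linter.style.haveILetI false

namespace CfsgLib.Recog.SubThree

open Subgroup

universe u

variable {G : Type u} [Group G] [Finite G]

/-- A subgroup invariant under `K` and under `c` is normal. -/
theorem normal_of_index_two {K N : Subgroup G} (hi : K.index = 2) {c : G} (hc : c ∉ K)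
    (hk : ∀ k ∈ K, ∀ n ∈ N, k * n * k⁻¹ ∈ N) (hcN : ∀ n ∈ N, c * n * c⁻¹ ∈ N) : N.Normal := by
  refine ⟨fun n hn a => ?_⟩
  by_cases ha : a ∈ K
  · exact hk a ha n hn
  · have hac : a * c⁻¹ ∈ K := (mul_mem_iff_of_index_two hi).2 (iff_of_false ha fun e => hc (inv_mem_iff.1 e))
    rw [show a * n * a⁻¹ = a * c⁻¹ * (c * n * c⁻¹) * (a * c⁻¹)⁻¹ by group]
    exact hk _ hac _ (hcN n hn)

/-- A minimal normal subgroup of index two with a soluble centralizer of an outside involution is simple. -/
theorem index_two_simple {K : Subgroup G} (hK : K.Normal) (hi : K.index = 2) {c : G} (hcc : c * c = 1)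
    (hc : c ∉ K) (hmin : ∀ N : Subgroup G, N.Normal → N ≤ K → N = ⊥ ∨ N = K)
    (hns : ¬ Group.IsSolvable K)
    (hC : Group.IsSolvable (K ⊓ centralizer ({c} : Set G) : Subgroup G)) : IsSimpleGroup K := by
  haveI : Nontrivial K := by
    by_contra hn
    rw [not_nontrivial_iff_subsingleton] at hn
    exact hns inferInstance
  refine ⟨fun L hL => ?_⟩
  by_contra! hne
  obtain ⟨hLb, hLt⟩ := hne
  have hci : c⁻¹ = c := inv_eq_of_mul_eq_one_right hcc
  set X := L.map K.subtype with hX
  have hXK : X ≤ K := map_subtype_le _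
  have hXn : ∀ k ∈ K, ∀ n ∈ X, k * n * k⁻¹ ∈ X := by
    rintro k hk _ ⟨n, hn, rfl⟩
    exact ⟨_, hL.conj_mem n hn ⟨k, hk⟩, rfl⟩
  set Y := X.map (MulAut.conj c).toMonoidHom with hY
  have hYK : Y ≤ K := by
    rintro _ ⟨n, hn, rfl⟩
    exact hK.conj_mem n (hXK hn) c
  have hmemY : ∀ {n : G}, n ∈ Y ↔ c * n * c ∈ X := by
    intro n
    constructor
    · rintro ⟨m, hm, rfl⟩
      show c * (c * m * c⁻¹) * c ∈ X
      rw [hci, show c * (c * m * c) * c = c * c * m * (c * c) by group, hcc]
      simpa using hm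
    · intro h
      refine ⟨_, h, ?_⟩
      show c * (c * n * c) * c⁻¹ = n
      rw [hci, show c * (c * n * c) * c = c * c * n * (c * c) by group, hcc]
      simp
  have hYn : ∀ k ∈ K, ∀ n ∈ Y, k * n * k⁻¹ ∈ Y := by
    intro k hk n hn
    rw [hmemY] at hn ⊢
    have hkc : c * k * c ∈ K := by
      have := hK.conj_mem k hk c
      rwa [hci] at this
    have := hXn _ hkc _ hn
    have e : c * k * c * (c * n * c) * (c * k * c)⁻¹ = c * k * (c * c) * n * (c * c⁻¹) * k⁻¹ * c⁻¹ := by group
    rw [e, hcc, mul_inv_cancel, hci] at this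
    simpa [mul_assoc] using this
  have hXY : X ⊓ Y = ⊥ := by
    have hn : (X ⊓ Y).Normal := normal_of_index_two hi hc
      (fun k hk n hn => ⟨hXn k hk n hn.1, hYn k hk n hn.2⟩) fun n hn => by
        refine ⟨?_, ?_⟩
        · rw [hci]; exact hmemY.1 hn.2
        · exact ⟨n, hn.1, rfl⟩
    refine (hmin _ hn (inf_le_left.trans hXK)).resolve_right fun e => hLt ?_
    refine eq_top_iff.2 fun k _ => ?_
    obtain ⟨m, hm, hmk⟩ := (e.symm.le k.2).1
    rwa [← Subtype.ext hmk]
  have hcom : ∀ a ∈ X, ∀ b ∈ Y, Commute a b := by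
    intro a ha b hb
    have hm : a * b * a⁻¹ * b⁻¹ ∈ X ⊓ Y := by
      refine ⟨?_, Y.mul_mem (hYn a (hXK ha) b hb) (Y.inv_mem hb)⟩
      rw [show a * b * a⁻¹ * b⁻¹ = a * (b * a⁻¹ * b⁻¹) by group]
      exact X.mul_mem ha (hXn b (hYK hb) _ (X.inv_mem ha))
    rw [hXY, mem_bot] at hm
    exact mul_inv_eq_iff_eq_mul.1 (mul_inv_eq_one.1 hm)
  have hcy : ∀ a ∈ X, c * a * c ∈ Y := fun a ha => ⟨a, ha, by show c * a * c⁻¹ = _; rw [hci]⟩
  -- `X` embeds into the centralizer of `c` in `K`
  let f : X →* (K ⊓ centralizer ({c} : Set G) : Subgroup G) :=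
    { toFun := fun a => ⟨(a : G) * (c * a * c), K.mul_mem (hXK a.2) (hYK (hcy a a.2)),
        mem_centralizer_singleton_iff.2 (by
          have e := (hcom a a.2 _ (hcy a a.2)).eq
          calc (a : G) * (c * a * c) * c = a * (c * a) * (c * c) := by group
            _ = a * (c * a) := by rw [hcc, mul_one]
            _ = c * c * a * (c * a) := by rw [hcc, one_mul]
            _ = c * (c * a * c * a) := by group
            _ = c * ((a : G) * (c * a * c)) := by rw [← e])⟩
      map_one' := Subtype.ext (by simp [hcc])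
      map_mul' := fun a b => Subtype.ext (by
        have e := (hcom b b.2 _ (hcy a a.2)).eq
        show (a : G) * b * (c * (a * b) * c) = a * (c * a * c) * (b * (c * b * c))
        calc (a : G) * b * (c * (a * b) * c) = a * b * (c * a * 1 * b * c) := by group
          _ = a * (b * (c * a * c)) * (c * b * c) := by rw [← hcc]; group
          _ = a * (c * a * c) * (b * (c * b * c)) := by rw [e]; group) }
  have hf : Function.Injective f := by
    refine (injective_iff_map_eq_one f).2 fun a ha => Subtype.ext ?_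
    have h1 : (a : G) * (c * a * c) = 1 := congrArg Subtype.val ha
    have : (a : G) ∈ X ⊓ Y := ⟨a.2, by
      rw [eq_inv_of_mul_eq_one_left h1]
      exact Y.inv_mem (hcy a a.2)⟩
    rw [hXY, mem_bot] at this
    exact this
  haveI := hC
  haveI hXs : Group.IsSolvable X := solvable_of_solvable_injective hf
  haveI hYs : Group.IsSolvable Y :=
    Group.isSolvable_of_surjective (f := (X.equivMapOfInjective _ (MulAut.conj c).injective).toMonoidHom)
      (X.equivMapOfInjective _ (MulAut.conj c).injective).surjective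
  have hXYK : X ⊔ Y = K := by
    have hn : (X ⊔ Y).Normal := by
      refine normal_of_index_two hi hc (fun k hk n hn => ?_) fun n hn => ?_
      · have hle : X ⊔ Y ≤ (X ⊔ Y).comap (MulAut.conj k).toMonoidHom :=
          sup_le (fun x hx => mem_sup_left (hXn k hk x hx)) fun x hx => mem_sup_right (hYn k hk x hx)
        exact hle hn
      · have hle : X ⊔ Y ≤ (X ⊔ Y).comap (MulAut.conj c).toMonoidHom := sup_le
          (fun x hx => mem_sup_right (show c * x * c⁻¹ ∈ Y from ⟨x, hx, rfl⟩))
          fun x hx => mem_sup_left (show c * x * c⁻¹ ∈ X by rw [hci]; exact hmemY.1 hx)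
        exact hle hn
    refine (hmin _ hn (sup_le hXK hYK)).resolve_left fun e => hLb ?_
    have : X = ⊥ := le_bot_iff.1 (e ▸ le_sup_left)
    exact (map_eq_bot_iff_of_injective _ K.subtype_injective).1 this
  refine hns ?_
  have hrange : (MonoidHom.noncommCoprod X.subtype Y.subtype fun a b => hcom a a.2 b b.2).range = K := by
    refine (MonoidHom.noncommCoprod_range _ _ _).trans ?_
    rw [range_subtype, range_subtype, hXYK]
  rw [← hrange]
  exact Group.isSolvable_of_surjective (MonoidHom.rangeRestrict_surjective _)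

variable {F : Type} [Field F] [Fintype F]

/-- An involutory automorphism of `PSL(2, q)`, `q ≡ ±1 (mod 16)`, fixes more than 24 points. -/
theorem psl_no_outer_small (h16 : Fintype.card F % 16 = 1 ∨ Fintype.card F % 16 = 15)
    {β : MulAut (Matrix.ProjectiveSpecialLinearGroup (Fin 2) F)} (hβ : β * β = 1)
    (hout : β ∉ Cfsg.Inn (Matrix.ProjectiveSpecialLinearGroup (Fin 2) F))
    {K : Subgroup (Matrix.ProjectiveSpecialLinearGroup (Fin 2) F)} (hK : ∀ x, β x = x → x ∈ K)
    (hd : Nat.card K ∣ 24) : False := by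
  classical
  have h1 := Fintype.one_lt_card (α := F)
  have ho : Odd (Fintype.card F) := Nat.odd_iff.2 (by omega)
  have h5 : 15 ≤ Fintype.card F := by omega
  have h2 : (2 : F) ≠ 0 :=
    CfsgLib.Perm.Dickson.two_ne_zero_of_odd (by rwa [Nat.card_eq_fintype_card])
  rcases outer_cases ho (by omega) β hβ hout K hK with ⟨g, -, -, c, hc, hodd, hge⟩ | ⟨σ, hσ, -, hdvd⟩
  · have hd' : orderOf c ∣ 2 ^ 3 * 3 := by
      rw [show 2 ^ 3 * 3 = 24 by norm_num]
      refine dvd_trans ?_ hd
      rw [← orderOf_mk c hc]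
      exact orderOf_dvd_natCard _
    have := Nat.le_of_dvd (by norm_num)
      ((Nat.Coprime.pow_right 3 (Nat.coprime_two_right.2 hodd)).dvd_of_dvd_mul_left hd')
    omega
  · have hk : Nat.card (fixK σ) = 3 := by
      have hodd := odd_card_fixK h2 σ
      have hge := card_fixK_ge (σ := σ)
      have hd' : Nat.card (fixK σ) ∣ 2 ^ 3 * 3 := by
        rw [show 2 ^ 3 * 3 = 24 by norm_num]; exact hdvd.trans hd
      have := Nat.le_of_dvd (by norm_num)
        ((Nat.Coprime.pow_right 3 (Nat.coprime_two_right.2 hodd)).dvd_of_dvd_mul_left hd')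
      obtain ⟨m, hm⟩ := hodd
      omega
    have hs2 : ∀ x, σ (σ x) = x := fun x => by
      have := RingEquiv.ext_iff.1 (hσ ▸ pow_orderOf_eq_one σ : σ ^ 2 = 1) x
      rw [pow_two] at this
      exact this
    -- `F` has nine elements
    let φ : F → fixK σ × fixK σ := fun x =>
      (⟨x + σ x, mem_fixK.2 (by rw [map_add, hs2, add_comm])⟩,
        ⟨x * σ x, mem_fixK.2 (by rw [map_mul, hs2, mul_comm])⟩)
    have hcard : Fintype.card F ≤ 2 * 9 := by
      refine le_trans (Finset.card_le_mul_card_image (s := (Finset.univ : Finset F)) (f := φ) 2 fun p hp => ?_)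
        (Nat.mul_le_mul_left 2 ?_)
      · obtain ⟨x, -, rfl⟩ := Finset.mem_image.1 hp
        refine le_trans (Finset.card_le_card (t := {x, σ x}) fun y hy => ?_) Finset.card_le_two
        rw [Finset.mem_filter] at hy
        have e1 : y + σ y = x + σ x := congrArg (fun p : fixK σ × fixK σ => (p.1 : F)) hy.2
        have e2 : y * σ y = x * σ x := congrArg (fun p : fixK σ × fixK σ => (p.2 : F)) hy.2
        have : (y - x) * (y - σ x) = 0 := by linear_combination y * e1 - e2
        rcases mul_eq_zero.1 this with e | e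
        · simp [sub_eq_zero.1 e]
        · simp [sub_eq_zero.1 e]
      · refine le_trans (Finset.card_le_univ _) (le_of_eq ?_)
        rw [← Nat.card_eq_fintype_card, Nat.card_prod, hk]
    have h3 : (3 : F) = 0 := by
      have : ((Nat.card (fixK σ) : ℕ) : fixK σ) = 0 := by
        haveI := Fintype.ofFinite (fixK σ)
        rw [Nat.card_eq_fintype_card]
        exact FiniteField.cast_card_eq_zero _
      rw [hk] at this
      simpa [map_ofNat] using congrArg (fixK σ).subtype this
    haveI : Fact (Nat.Prime 3) := ⟨Nat.prime_three⟩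
    haveI : CharP F 3 := (CharP.charP_iff_prime_eq_zero Nat.prime_three).2 (by exact_mod_cast h3)
    obtain ⟨n, -, hn⟩ := FiniteField.card F 3
    rcases Nat.lt_or_ge (n : ℕ) 3 with hn3 | hn3
    · have : (3 : ℕ) ^ (n : ℕ) ≤ 3 ^ 2 := Nat.pow_le_pow_right (by norm_num) (by omega)
      omega
    · have : (3 : ℕ) ^ 3 ≤ 3 ^ (n : ℕ) := Nat.pow_le_pow_right (by norm_num) hn3
      omega

end CfsgLib.Recog.SubThree
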