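import Cfsg.Agent.Lib.Recog.SubThree.FourTwoTransfer
import Cfsg.Agent.Lib.Recog.SubThree.FourTwoSimple
import Cfsg.Agent.Lib.Recog.SubThree.MaxClass
import Cfsg.Agent.Lib.Spor.OuterAut

/-!
# The groups with a maximal subgroup isomorphic to `S₄ × 2`
-/

set_option autoImplicit false
set_option linter.unusedSectionVars false
set_option linter.style.haveILetI false

namespace CfsgLib.Recog.SubThree

open Subgroup

universe u

theorem ft_three : ∀ w : FT, ¬ inE w → w * w = 1 →
    ∃ p : FT, (p * w * p⁻¹ * w⁻¹) ^ 3 = 1 ∧ p * w * p⁻¹ * w⁻¹ ≠ 1 := by decide +kernel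

variable {G : Type u} [Group G] [Finite G] {H : Subgroup G}

/-- The normal subgroups of index two avoiding `c`, for `H ≅ S₄ × 2`: they are simple and of max class type. -/
theorem Prim.ft_core (h : Prim H) (e : H ≃* FT) {B : Subgroup G} (hBH : B ≤ H) (hB : Nat.card B = 16)
    {g : G} (hgB : B.map (MulAut.conj g).toMonoidHom = B) (hg : g ∉ H) :
    ∃ K : Subgroup G, K.Normal ∧ K.index = 2 ∧ cOf H e ∉ K ∧ K ≠ ⊥ ∧ vOf H e ≤ K ∧
      16 ∣ Nat.card K ∧ Nat.card (H.subgroupOf K) = 24 ∧ IsSimpleGroup K := by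
  classical
  haveI : Fact (Nat.Prime 2) := ⟨Nat.prime_two⟩
  haveI := vOf_klein e
  obtain ⟨hC, hN, hCV, hCE⟩ := h.ft_facts e
  obtain ⟨z, v, w, hd, hzV, hvV, hv1⟩ := h.ft_data e hBH hB hgB hg
  obtain ⟨hzv, hzw, hwv, hvwv, hwnv, hwnvz, -, hw1⟩ := hd.rules
  have h48 : Nat.card H = 48 := by rw [Nat.card_congr e.toEquiv, Nat.card_eq_fintype_card, ft_card]
  set V := vOf H e with hV
  set c := cOf H e with hc
  have hcH : c ∈ H := (e.symm ftC).2
  have hec : e ⟨c, hcH⟩ = ftC := e.apply_symm_apply _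
  have hmap : ∀ {a b : G} (ha : a ∈ H) (hb : b ∈ H),
      e ⟨a, ha⟩ * e ⟨b, hb⟩ = e ⟨a * b, H.mul_mem ha hb⟩ := fun ha hb => (map_mul e _ _).symm
  have hinj : ∀ {a b : G} (ha : a ∈ H) (hb : b ∈ H), e ⟨a, ha⟩ = e ⟨b, hb⟩ → a = b :=
    fun ha hb e1 => congrArg Subtype.val (e.injective e1)
  have htrans : ∀ u ∈ V, u ≠ 1 → ∀ u' ∈ V, u' ≠ 1 → ∃ a ∈ H, a * u * a⁻¹ = u' := by
    intro u hu hu1 u' hu' hu'1
    obtain ⟨huH, hui⟩ := mem_vOf.1 hu
    obtain ⟨huH', hui'⟩ := mem_vOf.1 hu'
    obtain ⟨p, hp⟩ := ft_trans _ hui (fun e1 => hu1 (congrArg Subtype.val (e.map_eq_one_iff.1 e1))) _ hui'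
      fun e1 => hu'1 (congrArg Subtype.val (e.map_eq_one_iff.1 e1))
    have heq : e.symm p * ⟨u, huH⟩ * (e.symm p)⁻¹ = ⟨u', huH'⟩ := e.injective (by simp [hp])
    exact ⟨_, (e.symm p).2, congrArg Subtype.val heq⟩
  obtain ⟨h32, K, hK, hKi, hcK⟩ := hd.exists_index_two hB (hC.symm ▸ h48) (by
    obtain ⟨a, -, ha⟩ := htrans z hzV hd.z1 v hvV hv1
    exact isConj_iff.2 ⟨a, ha⟩)
  haveI := hK
  have h16 : 16 ∣ Nat.card K := by
    have := K.card_mul_index
    rw [hKi] at this
    omega
  have hKne : K ≠ ⊥ := fun e1 => by rw [e1, card_bot] at h16; norm_num at h16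
  have hVK : V ≤ K := by
    intro u hu
    by_cases hu1 : u = 1
    · rw [hu1]; exact K.one_mem
    obtain ⟨huH, hui⟩ := mem_vOf.1 hu
    obtain ⟨-, b, -, hb⟩ := ft_square _ hui fun e1 => hu1 (congrArg Subtype.val (e.map_eq_one_iff.1 e1))
    have : ((e.symm b : H) : G) * (e.symm b : H) = u := by
      refine hinj (H.mul_mem (e.symm b).2 (e.symm b).2) huH ?_
      rw [← hmap (e.symm b).2 (e.symm b).2, Subtype.coe_eta, e.apply_symm_apply, hb]
    exact this ▸ mul_self_mem_of_index_two hKi _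
  have hH24 : Nat.card (K.subgroupOf H) = 24 := by
    have h1 := (K.subgroupOf H).card_mul_index
    rw [show (K.subgroupOf H).index = 2 by rw [← hKi, h.index_eq hK hKne]; rfl, h48] at h1
    omega
  have hwc : g * v * g⁻¹ = w := hd.gv
  have hwH : w ∈ H := hBH hd.mem.2.2.2
  -- a normal subgroup contains `v` and `w`
  have hcont : ∀ N : Subgroup G, N.Normal → N ≠ ⊥ → v ∈ N ∧ w ∈ N := by
    intro N hNn hne
    haveI := hNn
    suffices hv' : ∃ u, u ∈ N ∧ u ∈ V ∧ u ≠ 1 by
      obtain ⟨u, huN, huV, hu1⟩ := hv'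
      obtain ⟨a, -, ha⟩ := htrans u huV hu1 v hvV hv1
      have hvN : v ∈ N := ha ▸ hNn.conj_mem u huN a
      exact ⟨hvN, hwc ▸ hNn.conj_mem v hvN g⟩
    by_contra! hall
    have h2 : 2 ∣ Nat.card N := by
      by_contra h2
      exact h.nsol_normal hNn hne (CfsgLib.FT.isSolvable_of_odd _ (Nat.odd_iff.2 (Nat.two_dvd_ne_zero.1 h2)))
    letI act : MulAction V N :=
      { smul := fun v n => MulAut.conjNormal (v : G) n
        one_smul := fun n => by show MulAut.conjNormal ((1 : V) : G) n = n; simp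
        mul_smul := fun a b n => by
          show MulAut.conjNormal ((a * b : V) : G) n = MulAut.conjNormal (a : G) (MulAut.conjNormal (b : G) n)
          simp [map_mul] }
    have hVp : IsPGroup 2 V := IsPGroup.of_card (n := 2) (by rw [IsKleinFour.card_four]; norm_num)
    obtain ⟨n, hn, hn1⟩ := hVp.exists_fixed_point_of_prime_dvd_card_of_fixed_point N h2 (a := (1 : N))
      (fun v => by show MulAut.conjNormal (v : G) (1 : N) = 1; exact map_one _)
    have hnC : (n : G) ∈ centralizer (V : Set G) := mem_centralizer_iff.2 fun u hu => by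
      have := congrArg Subtype.val (show MulAut.conjNormal u n = n from hn ⟨u, hu⟩)
      rw [MulAut.conjNormal_apply] at this
      exact mul_inv_eq_iff_eq_mul.1 this
    have hnH := hCV hnC
    have hn0 : (n : G) ≠ 1 := fun e1 => hn1 (Subtype.ext e1.symm)
    rcases (ft_inE _ (hCE _ hnC hnH)).1 with hi | hi
    · exact hn0 (hall _ n.2 (mem_vOf.2 ⟨hnH, hi⟩))
    rw [← hec, hmap] at hi
    set u := (n : G) * c with hu
    have huV : u ∈ V := mem_vOf.2 ⟨_, hi⟩
    have hcu : ∀ a ∈ H, Commute a c := fun a ha =>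
      mem_centralizer_singleton_iff.1 (hC.symm ▸ ha : a ∈ centralizer ({c} : Set G))
    have hfix : ∀ a ∈ H, a * u * a⁻¹ = u := by
      intro a ha
      have h1 : a * u * a⁻¹ * u⁻¹ = a * (n : G) * a⁻¹ * (n : G)⁻¹ := by
        rw [hu, show a * ((n : G) * c) * a⁻¹ * ((n : G) * c)⁻¹ =
          a * (n : G) * a⁻¹ * (a * c * a⁻¹) * c⁻¹ * (n : G)⁻¹ by group, (hcu a ha).eq, mul_inv_cancel_right,
          mul_inv_cancel_right]
      have hm : a * u * a⁻¹ * u⁻¹ ∈ N := h1 ▸ N.mul_mem (hNn.conj_mem _ n.2 a) (N.inv_mem n.2)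
      exact mul_inv_eq_one.1 (hall _ hm (V.mul_mem (vOf_conj e ha huV) (V.inv_mem huV)))
    have hu1 : u = 1 := by
      by_contra hu1
      by_cases huz : u = z
      · obtain ⟨a, ha, hav⟩ := htrans u huV hu1 v hvV hv1
        rw [hfix a ha, huz] at hav
        exact hd.z1 (by
          have := hd.wvw
          rw [← hav, show w * z * w = z * (w * w) by rw [← hzw.eq, mul_assoc], hd.ww, mul_one, hd.zz] at this
          exact this)
      · obtain ⟨a, ha, hau⟩ := htrans u huV hu1 z hzV hd.z1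
        exact huz (by rw [← hau, hfix a ha])
    have hcN : c ∈ N := by
      have : c = (n : G)⁻¹ := eq_inv_of_mul_eq_one_right hu1
      exact this ▸ N.inv_mem n.2
    have hzN : z ∈ N := by
      have := N.mul_mem (hNn.conj_mem c hcN g) (N.inv_mem hcN)
      rwa [hd.gc, mul_inv_cancel_right] at this
    exact hd.z1 (hall z hzN hzV)
  have hvw := hcont K hK hKne
  -- `w` is outside the centralizer of the four group
  have hwE : ¬ inE (e ⟨w, hwH⟩) := fun hE => by
    obtain ⟨hvH, hvi⟩ := mem_vOf.1 hvV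
    have h1 := (ft_inE _ hE).2 _ hvi
    rw [hmap, hmap] at h1
    have h2 : w * v = v * w := hinj _ _ h1
    have := hd.wvw
    rw [h2, mul_assoc, hd.ww, mul_one] at this
    exact hd.z1 (mul_eq_left.1 this.symm)
  have hmin : ∀ N : Subgroup G, N.Normal → N ≤ K → N = ⊥ ∨ N = K := by
    intro N hNn hNK
    refine or_iff_not_imp_left.2 fun hne => ?_
    obtain ⟨hvN, hwN⟩ := hcont N hNn hne
    have hzN : z ∈ N := by
      have h1 : z = v * (w * v * w) := by rw [hd.wvw, ← mul_assoc, hd.vv, one_mul]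
      rw [h1]; exact N.mul_mem hvN (N.mul_mem (N.mul_mem hwN hvN) hwN)
    have hb8 : Nat.card hd.b0 = 8 := by
      have hn0 : ∀ a ∈ hd.b0, c * a * c⁻¹ ∈ hd.b0 := fun a ha => by
        rw [(hd.cB a (hd.b0_le ha)).eq, mul_inv_cancel_right]; exact ha
      have hcc0 : c * c ∈ hd.b0 := by rw [hd.cc]; exact one_mem _
      have h1 := card_extendTwo (K := hd.b0) (hn := hn0) (hg := hcc0) hd.cnot
      have h2 : extendTwo hd.b0 c hn0 hcc0 = B := by
        refine le_antisymm ?_ fun b hb => ?_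
        · rintro m (hm | hm)
          · exact hd.b0_le hm
          · have := B.mul_mem hd.mem.2.1 (hd.b0_le hm)
            rwa [mul_inv_cancel_left] at this
        · rcases hd.split hb with e1 | e1
          · exact Or.inl e1
          · refine Or.inr ?_
            rw [inv_eq_of_mul_eq_one_right hd.cc, (hd.cB b hb).eq]
            exact e1
      rw [h2, hB] at h1
      omega
    set M := N.subgroupOf H with hM
    have h8 : 8 ∣ Nat.card M := by
      have hle : hd.b0.subgroupOf H ≤ M := by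
        intro x hx
        have hx' : (x : G) ∈ B0Set z v w := hx
        show (x : G) ∈ N
        rcases hx' with e1 | e1 | e1 | e1 | e1 | e1 | e1 | e1 <;> rw [e1]
        exacts [N.one_mem, hzN, hvN, N.mul_mem hvN hzN, hwN, N.mul_mem hwN hzN, N.mul_mem hvN hwN,
          N.mul_mem (N.mul_mem hvN hwN) hzN]
      have := card_dvd_of_le hle
      rwa [Nat.card_congr (subgroupOfEquivOfLe (hd.b0_le.trans hBH)).toEquiv, hb8] at this
    have h3 : 3 ∣ Nat.card M := by
      have hww' : e ⟨w, hwH⟩ * e ⟨w, hwH⟩ = 1 := by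
        rw [hmap]; exact e.map_eq_one_iff.2 (Subtype.ext hd.ww)
      obtain ⟨p, hp3, hp1⟩ := ft_three _ hwE hww'
      set x := e.symm p * ⟨w, hwH⟩ * (e.symm p)⁻¹ * (⟨w, hwH⟩ : H)⁻¹ with hx
      have hex : e x = p * e ⟨w, hwH⟩ * p⁻¹ * (e ⟨w, hwH⟩)⁻¹ := by simp [hx]
      have hxM : x ∈ M := N.mul_mem (hNn.conj_mem w hwN _) (N.inv_mem hwN)
      have hxo : orderOf x = 3 := by
        haveI : Fact (Nat.Prime 3) := ⟨Nat.prime_three⟩
        rw [← MulEquiv.orderOf_eq e]
        exact orderOf_eq_prime (hex ▸ hp3) (hex ▸ hp1)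
      rw [← hxo, ← orderOf_mk x hxM]
      exact orderOf_dvd_natCard _
    have hMK : M = K.subgroupOf H := by
      refine eq_of_le_of_card_ge (fun x hx => hNK hx) ?_
      rw [hH24]
      exact Nat.le_of_dvd Nat.card_pos ((show Nat.Coprime 8 3 by norm_num).mul_dvd_of_dvd_of_dvd h8 h3)
    refine eq_of_le_of_card_ge hNK (le_of_eq ?_)
    have e1 := h.card_eq hNn hne
    have e2 := h.card_eq hK hKne
    rw [← hM, hMK] at e1
    exact Nat.eq_of_mul_eq_mul_right Nat.card_pos (e2.symm.trans e1)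
  refine ⟨K, hK, hKi, hcK, hKne, hVK, h16, ?_, index_two_simple hK hKi hd.cc hcK hmin (h.nsol_normal hK hKne) ?_⟩
  · rw [← hH24]
    exact Nat.card_congr
      { toFun := fun x => ⟨⟨((x : K) : G), x.2⟩, (x : K).2⟩
        invFun := fun x => ⟨⟨((x : H) : G), x.2⟩, (x : H).2⟩
        left_inv := fun x => rfl
        right_inv := fun x => rfl }
  · haveI := h.solH
    exact solvable_of_solvable_injective
      (inclusion_injective (show K ⊓ centralizer ({c} : Set G) ≤ H from hC ▸ inf_le_right))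

/-- The case `H ≅ S₄ × 2`. -/
theorem Prim.symFourTwo (h : Prim H) (e : H ≃* FT) {B : Subgroup G} (hBH : B ≤ H) (hB : Nat.card B = 16)
    {g : G} (hgB : B.map (MulAut.conj g).toMonoidHom = B) (hg : g ∉ H) :
    ∃ N : Subgroup G, N.Normal ∧ N.index = 2 ∧ centralizer (N : Set G) = ⊥ ∧
      Nonempty (N ≃* Matrix.ProjectiveSpecialLinearGroup (Fin 3) (ZMod 3)) := by
  classical
  haveI := vOf_klein e
  obtain ⟨hC, hN, hCV, hCE⟩ := h.ft_facts e
  obtain ⟨K, hK, hKi, hcK, hKne, hVK, h16, h24, hsimp⟩ := h.ft_core e hBH hB hgB hg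
  haveI := hK
  haveI := hsimp
  have hCK : centralizer (K : Set G) = ⊥ := h.centralizer_eq_bot hK hKne
  set V := vOf H e with hV
  set c := cOf H e with hc
  have hcH : c ∈ H := (e.symm ftC).2
  have hec : e ⟨c, hcH⟩ = ftC := e.apply_symm_apply _
  have hcc : c * c = 1 := by
    have : (⟨c, hcH⟩ : H) * ⟨c, hcH⟩ = 1 := by
      apply e.injective
      rw [map_mul, map_one, hec]
      exact ft_centre.1
    exact congrArg Subtype.val this
  have hnc : ¬ IsMulCommutative K := fun hc' => by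
    haveI := hc'
    letI : CommGroup K := { (inferInstance : Group K) with mul_comm := hc'.is_comm.comm }
    exact h.nsol_normal hK hKne inferInstance
  haveI : IsKleinFour (V.subgroupOf K) :=
    { card_four := by rw [Nat.card_congr (subgroupOfEquivOfLe hVK).toEquiv, IsKleinFour.card_four]
      exponent_two := by
        rw [Monoid.exponent_eq_of_mulEquiv (subgroupOfEquivOfLe hVK), IsKleinFour.exponent_two] }
  have hCK' : centralizer ((V.subgroupOf K : Subgroup K) : Set K) = V.subgroupOf K := by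
    ext a
    rw [mem_subgroupOf]
    constructor
    · intro ha
      have haC : (a : G) ∈ centralizer (V : Set G) := mem_centralizer_iff.2 fun u hu =>
        congrArg Subtype.val (mem_centralizer_iff.1 ha ⟨u, hVK hu⟩ hu)
      have haH := hCV haC
      rcases (ft_inE _ (hCE _ haC haH)).1 with hi | hi
      · exact mem_vOf.2 ⟨haH, hi⟩
      · rw [← hec, ← map_mul] at hi
        have : (a : G) * c ∈ K := hVK (mem_vOf.2 ⟨H.mul_mem haH hcH, hi⟩)
        exact absurd ((K.mul_mem_cancel_left a.2).1 this) hcK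
    · intro ha
      refine mem_centralizer_iff.2 fun u hu => Subtype.ext ?_
      have := congrArg Subtype.val (mul_comm_of_exponent_two IsKleinFour.exponent_two (⟨u, hu⟩ : V) ⟨a, ha⟩)
      exact this
  have hN' : Nat.card (normalizer ((V.subgroupOf K : Subgroup K) : Set K)) = 24 := by
    rw [← subgroupOf_normalizer_eq hVK, hN, h24]
  -- the automorphism induced by `c`
  set φ : MulAut K := MulAut.conjNormal c with hφ
  have hφv : ∀ k : K, (φ k : G) = c * k * c⁻¹ := fun k => MulAut.conjNormal_apply c k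
  have hninn : ∀ k : K, MulAut.conj k ≠ φ := by
    intro k hk
    have hm : (k : G)⁻¹ * c ∈ centralizer (K : Set G) := mem_centralizer_iff.2 fun y hy => by
      have h1 : (k : G) * y * (k : G)⁻¹ = c * y * c⁻¹ := by
        rw [← hφv ⟨y, hy⟩, ← hk]; rfl
      calc y * ((k : G)⁻¹ * c) = (k : G)⁻¹ * ((k : G) * y * (k : G)⁻¹) * c := by group
        _ = (k : G)⁻¹ * c * y := by rw [h1]; group
    rw [hCK, mem_bot] at hm
    exact hcK (inv_mul_eq_one.1 hm ▸ k.2)
  rcases max_class hnc (V.subgroupOf K) hCK' hN' h16 with ⟨F, i, j, hodd, hq, ⟨f⟩⟩ | hl | hm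
  · exfalso
    set β : MulAut (Matrix.ProjectiveSpecialLinearGroup (Fin 2) F) := (f.symm.trans φ).trans f with hβ
    refine psl_no_outer_small hq (β := β) ?_ ?_
      (K := ((H.subgroupOf K).map f.toMonoidHom)) ?_ ?_
    · refine MulEquiv.ext fun x => ?_
      show f (φ (f.symm (f (φ (f.symm x))))) = x
      rw [f.symm_apply_apply, ← MulAut.mul_apply, hφ, ← map_mul, hcc, map_one]
      exact f.apply_symm_apply x
    · rintro ⟨y, hy⟩
      refine hninn (f.symm y) (MulEquiv.ext fun k => f.injective ?_)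
      have := congrArg (fun a => a (f k)) hy
      simpa [hβ] using this
    · intro x hx
      refine ⟨f.symm x, ?_, f.apply_symm_apply x⟩
      show ((f.symm x : K) : G) ∈ H
      rw [← hC, mem_centralizer_singleton_iff]
      have h1 : φ (f.symm x) = f.symm x := f.injective (by
        rw [f.apply_symm_apply]; exact hx)
      have := hφv (f.symm x)
      rw [h1] at this
      exact (eq_mul_inv_iff_mul_eq.1 this).symm ▸ rfl
    · rw [← Nat.card_congr ((H.subgroupOf K).equivMapOfInjective _ f.injective).toEquiv, h24]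
  · exact ⟨K, hK, hKi, hCK, hl⟩
  · obtain ⟨f⟩ := hm
    exfalso
    obtain ⟨y, hy⟩ := CfsgLib.Spor.OuterAut.inner_M11 ((f.symm.trans φ).trans f)
    refine hninn (f.symm y) (MulEquiv.ext fun k => f.injective ?_)
    have := congrArg (fun a => a (f k)) hy
    simpa using this

end CfsgLib.Recog.SubThree
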