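import Cfsg.Agent.Lib.Recog.SubThree.FourTwoData
import Cfsg.Agent.Lib.Char.SuborbitThree.Basic
import Cfsg.Agent.Lib.Fusion.Tate

/-!
# A subgroup of index two avoiding the central involution
-/

set_option autoImplicit false
set_option linter.unusedSectionVars false

namespace CfsgLib.Recog.SubThree

open Subgroup CfsgLib.Invol

universe u

variable {G : Type u} [Group G]

/-- `K ∪ g K` for an element normalizing `K` with square in `K`. -/
def extendTwo (K : Subgroup G) (g : G) (hn : ∀ x ∈ K, g * x * g⁻¹ ∈ K) (hg : g * g ∈ K) : Subgroup G where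
  carrier := {m | m ∈ K ∨ g⁻¹ * m ∈ K}
  one_mem' := Or.inl K.one_mem
  mul_mem' := by
    have hn' : ∀ x ∈ K, g⁻¹ * x * g ∈ K := fun x hx => by
      have := hn _ (K.mul_mem (K.mul_mem (K.inv_mem hg) hx) hg)
      rwa [show g * ((g * g)⁻¹ * x * (g * g)) * g⁻¹ = g⁻¹ * x * g by group] at this
    rintro a b (ha | ha) (hb | hb)
    · exact Or.inl (K.mul_mem ha hb)
    · refine Or.inr ?_
      rw [show g⁻¹ * (a * b) = (g⁻¹ * a * g) * (g⁻¹ * b) by group]
      exact K.mul_mem (hn' a ha) hb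
    · exact Or.inr (by rw [← mul_assoc]; exact K.mul_mem ha hb)
    · refine Or.inl ?_
      rw [show a * b = (g * (g⁻¹ * a) * g⁻¹) * ((g * g) * (g⁻¹ * b)) by group]
      exact K.mul_mem (hn _ ha) (K.mul_mem hg hb)
  inv_mem' := by
    rintro a (ha | ha)
    · exact Or.inl (K.inv_mem ha)
    · refine Or.inr ?_
      rw [show g⁻¹ * a⁻¹ = (g * g)⁻¹ * (g * (g⁻¹ * a)⁻¹ * g⁻¹) by group]
      exact K.mul_mem (K.inv_mem hg) (hn _ (K.inv_mem ha))

variable {K : Subgroup G} {g : G} {hn : ∀ x ∈ K, g * x * g⁻¹ ∈ K} {hg : g * g ∈ K}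

theorem mem_extendTwo {m : G} : m ∈ extendTwo K g hn hg ↔ m ∈ K ∨ g⁻¹ * m ∈ K := Iff.rfl

theorem card_extendTwo [Finite G] (h : g ∉ K) :
    Nat.card (extendTwo K g hn hg) = 2 * Nat.card K := by
  have hle : K ≤ extendTwo K g hn hg := fun _ hx => Or.inl hx
  refine le_antisymm (CfsgLib.Char.SuborbitThree.card_le_two_mul_of_prod hle ?_) ?_
  · intro e he e' he' hne hne'
    have h1 := he.resolve_left hne
    have h2 := he'.resolve_left hne'
    rw [show e * e' = (g * (g⁻¹ * e) * g⁻¹) * ((g * g) * (g⁻¹ * e')) by group]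
    exact K.mul_mem (hn _ h1) (K.mul_mem hg h2)
  · obtain ⟨m, hm⟩ := card_dvd_of_le hle
    have hlt : K < extendTwo K g hn hg := lt_of_le_of_ne hle fun e =>
      h (e.symm.le (Or.inr (by simp [K.one_mem])))
    have hne : Nat.card K ≠ Nat.card (extendTwo K g hn hg) := fun e =>
      hlt.ne (eq_of_le_of_card_ge hle e.ge)
    have hpos : 0 < Nat.card (extendTwo K g hn hg) := Nat.card_pos
    rcases m with _ | _ | m
    · omega
    · omega
    · rw [hm]; nlinarith

variable {B : Subgroup G} {z c v w : G}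

/-- Rewriting rules in the group of order eight. -/
theorem FTData.rules (h : FTData B z c v w g) :
    Commute z v ∧ Commute z w ∧ w * v = v * (w * z) ∧ v * w * v = w * z ∧ w ≠ v ∧ w ≠ v * z ∧ v ≠ 1 ∧ w ≠ 1 := by
  have hzv := h.zB v h.mem.2.2.1
  have hzw := h.zB w h.mem.2.2.2
  have hwv : w * v = v * (w * z) := by
    calc w * v = w * v * w * w := by rw [mul_assoc (w * v), h.ww, mul_one]
      _ = v * (w * z) := by rw [h.wvw, mul_assoc, hzw.eq]
  have hw1 : w ≠ 1 := fun e => h.z1 (by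
    have := h.wvw; rw [e, one_mul, mul_one] at this; exact mul_eq_left.1 this.symm)
  have hv1 : v ≠ 1 := fun e => h.z1 (by
    have := h.wvw; rw [e, mul_one, h.ww, one_mul] at this; exact this.symm)
  refine ⟨hzv, hzw, hwv, ?_, fun e => ?_, fun e => ?_, hv1, hw1⟩
  · rw [mul_assoc, hwv, ← mul_assoc, h.vv, one_mul]
  · have := h.wvw
    rw [e, h.vv, one_mul] at this
    exact h.z1 (mul_eq_left.1 this.symm)
  · have := h.wvw
    rw [e, show v * z * v * (v * z) = v * z * (v * v) * z by simp only [mul_assoc], h.vv, mul_one,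
      mul_assoc, h.zz, mul_one] at this
    exact h.z1 (mul_eq_left.1 this.symm)

/-- The group of order eight. -/
def FTData.b0 (h : FTData B z c v w g) : Subgroup G where
  carrier := B0Set z v w
  one_mem' := Or.inl rfl
  mul_mem' := by
    obtain ⟨hzv, hzw, hwv, -, -, -, -, -⟩ := h.rules
    have e1 : z * v = v * z := hzv.eq
    have e2 : z * w = w * z := hzw.eq
    have e3 : ∀ x, z * (v * x) = v * (z * x) := fun x => by rw [← mul_assoc, e1, mul_assoc]
    have e4 : ∀ x, z * (w * x) = w * (z * x) := fun x => by rw [← mul_assoc, e2, mul_assoc]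
    have e5 : ∀ x, w * (v * x) = v * (w * (z * x)) := fun x => by
      rw [← mul_assoc, hwv]; simp only [mul_assoc]
    have e6 : ∀ x, v * (v * x) = x := fun x => by rw [← mul_assoc, h.vv, one_mul]
    have e7 : ∀ x, w * (w * x) = x := fun x => by rw [← mul_assoc, h.ww, one_mul]
    have e8 : ∀ x, z * (z * x) = x := fun x => by rw [← mul_assoc, h.zz, one_mul]
    rintro a b (rfl | rfl | rfl | rfl | rfl | rfl | rfl | rfl) (rfl | rfl | rfl | rfl | rfl | rfl | rfl | rfl) <;>
      simp [B0Set, mul_assoc, e1, e2, e3, e4, hwv, e5, e6, e7, e8, h.vv, h.ww, h.zz]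
  inv_mem' := by
    obtain ⟨hzv, hzw, hwv, hvwv, -, -, -, -⟩ := h.rules
    have iv := inv_eq_of_mul_eq_one_right h.vv
    have iw := inv_eq_of_mul_eq_one_right h.ww
    have iz := inv_eq_of_mul_eq_one_right h.zz
    rintro a (rfl | rfl | rfl | rfl | rfl | rfl | rfl | rfl)
    · exact Or.inl inv_one
    · exact Or.inr (Or.inl iz)
    · exact Or.inr (Or.inr (Or.inl iv))
    · exact Or.inr (Or.inr (Or.inr (Or.inl (by rw [_root_.mul_inv_rev, iv, iz, hzv.eq]))))
    · exact Or.inr (Or.inr (Or.inr (Or.inr (Or.inl iw))))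
    · exact Or.inr (Or.inr (Or.inr (Or.inr (Or.inr (Or.inl (by rw [_root_.mul_inv_rev, iw, iz, hzw.eq]))))))
    · refine Or.inr (Or.inr (Or.inr (Or.inr (Or.inr (Or.inr (Or.inr ?_))))))
      rw [_root_.mul_inv_rev, iv, iw, hwv, mul_assoc]
    · refine Or.inr (Or.inr (Or.inr (Or.inr (Or.inr (Or.inr (Or.inl ?_))))))
      rw [_root_.mul_inv_rev, _root_.mul_inv_rev, iv, iw, iz, hwv, ← mul_assoc z, hzv.eq, mul_assoc,
        ← mul_assoc z, hzw.eq, mul_assoc, h.zz, mul_one]

theorem FTData.mem_b0 (h : FTData B z c v w g) {x : G} : x ∈ h.b0 ↔ x ∈ B0Set z v w := Iff.rfl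

theorem FTData.b0_le (h : FTData B z c v w g) : h.b0 ≤ B := by
  obtain ⟨hz, -, hv, hw⟩ := h.mem
  rintro x (rfl | rfl | rfl | rfl | rfl | rfl | rfl | rfl)
  exacts [B.one_mem, hz, hv, B.mul_mem hv hz, hw, B.mul_mem hw hz, B.mul_mem hv hw,
    B.mul_mem (B.mul_mem hv hw) hz]

theorem FTData.split (h : FTData B z c v w g) {b : G} (hb : b ∈ B) : b ∈ h.b0 ∨ b * c ∈ h.b0 := h.list b hb

/-- An element of `B` fixes `v` or multiplies it by `z`. -/
theorem FTData.conj_v (h : FTData B z c v w g) {b : G} (hb : b ∈ B) :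
    b * v * b⁻¹ = v ∨ b * v * b⁻¹ = v * z := by
  obtain ⟨hzv, hzw, hwv, -, -, -, -, -⟩ := h.rules
  have key : ∀ x ∈ h.b0, x * v * x⁻¹ = v ∨ x * v * x⁻¹ = v * z := by
    have iw := inv_eq_of_mul_eq_one_right h.ww
    have fz : z * v * z⁻¹ = v := by rw [hzv.eq, mul_inv_cancel_right]
    have fw : w * v * w⁻¹ = v * z := by rw [iw, h.wvw]
    have fv : v * v * v⁻¹ = v := mul_inv_cancel_right v v
    rintro x (rfl | rfl | rfl | rfl | rfl | rfl | rfl | rfl)
    · left; group
    · exact Or.inl fz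
    · exact Or.inl fv
    · left
      calc v * z * v * (v * z)⁻¹ = v * (z * v * z⁻¹) * v⁻¹ := by group
        _ = v := by rw [fz, fv]
    · exact Or.inr fw
    · right
      calc w * z * v * (w * z)⁻¹ = w * (z * v * z⁻¹) * w⁻¹ := by group
        _ = v * z := by rw [fz, fw]
    · right
      calc v * w * v * (v * w)⁻¹ = v * (w * v * w⁻¹) * v⁻¹ := by group
        _ = v * z := by rw [fw, ((Commute.refl v).mul_right hzv.symm).eq, mul_inv_cancel_right]
    · right
      calc v * w * z * v * (v * w * z)⁻¹ = v * (w * (z * v * z⁻¹) * w⁻¹) * v⁻¹ := by group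
        _ = v * z := by rw [fz, fw, ((Commute.refl v).mul_right hzv.symm).eq, mul_inv_cancel_right]
  rcases h.split hb with hx | hx
  · exact key b hx
  · have hcv : c * v * c⁻¹ = v := by rw [(h.cB v h.mem.2.2.1).eq, mul_inv_cancel_right]
    have := key _ hx
    rwa [show b * c * v * (b * c)⁻¹ = b * (c * v * c⁻¹) * b⁻¹ by group, hcv] at this

/-- The Sylow subgroup. -/
def FTData.syl (h : FTData B z c v w g) : Subgroup G := extendTwo B g h.gB h.gg

theorem FTData.mem_syl (h : FTData B z c v w g) {x : G} : x ∈ h.syl ↔ x ∈ B ∨ g⁻¹ * x ∈ B := Iff.rfl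

theorem FTData.g_mem (h : FTData B z c v w g) : g ∈ h.syl := Or.inr (by simp [B.one_mem])

theorem FTData.swap (h : FTData B z c v w g) {y : G} (hy : y ∈ h.syl) (hyB : y ∉ B) :
    y * v * y⁻¹ = w ∨ y * v * y⁻¹ = w * z := by
  have hb := hy.resolve_left hyB
  set b := g⁻¹ * y with hbd
  have e : y * v * y⁻¹ = g * (b * v * b⁻¹) * g⁻¹ := by rw [hbd]; group
  rcases h.conj_v hb with e' | e'
  · exact Or.inl (by rw [e, e', h.gv])
  · refine Or.inr ?_
    rw [e, e', show g * (v * z) * g⁻¹ = g * v * g⁻¹ * (g * z * g⁻¹) by group, h.gv,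
      mul_inv_eq_iff_eq_mul.2 h.gz.eq]

theorem FTData.z_central (h : FTData B z c v w g) {s : G} (hs : s ∈ h.syl) : Commute s z := by
  rcases hs with hb | hb
  · exact (h.zB s hb).symm
  · have := h.gz.mul_left (h.zB _ hb).symm
    rwa [mul_inv_cancel_left] at this

theorem FTData.conj_c (h : FTData B z c v w g) {s : G} (hs : s ∈ h.syl) :
    s * c * s⁻¹ = c ∨ s * c * s⁻¹ = z * c := by
  rcases hs with hb | hb
  · exact Or.inl (by rw [← (h.cB s hb).eq, mul_inv_cancel_right])
  · refine Or.inr ?_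
    calc s * c * s⁻¹ = g * ((g⁻¹ * s) * c * (g⁻¹ * s)⁻¹) * g⁻¹ := by group
      _ = z * c := by rw [← (h.cB _ hb).eq, mul_inv_cancel_right, h.gc]

variable [Finite G]

theorem FTData.card_syl (h : FTData B z c v w g) (hB : Nat.card B = 16) : Nat.card h.syl = 32 := by
  rw [FTData.syl, card_extendTwo h.gnot, hB]

/-- The involutions of the group of order eight are not conjugate to `c`. -/
theorem FTData.not_conj (h : FTData B z c v w g) (hB : Nat.card B = 16)
    (h48 : Nat.card (centralizer ({c} : Set G)) = 48) (hvz : IsConj z v) {x : G} (hx : x ∈ h.b0) :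
    ¬ IsConj c x := by
  obtain ⟨hzv, hzw, hwv, hvwv, -, -, -, -⟩ := h.rules
  have hz : ¬ IsConj c z := by
    intro e
    obtain ⟨a, ha⟩ := isConj_iff.1 e
    have hle : (h.syl).map (MulAut.conj a⁻¹).toMonoidHom ≤ centralizer ({c} : Set G) := by
      rintro _ ⟨s, hs, rfl⟩
      refine mem_centralizer_singleton_iff.2 ?_
      have := (h.z_central hs).map (MulAut.conj a⁻¹)
      rw [show MulAut.conj a⁻¹ z = c by rw [← ha, MulAut.conj_apply]; group] at this
      exact this.eq
    have hd := card_dvd_of_le hle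
    rw [← Nat.card_congr ((h.syl).equivMapOfInjective (MulAut.conj a⁻¹).toMonoidHom
      (MulAut.conj a⁻¹).injective).toEquiv, h.card_syl hB, h48] at hd
    norm_num at hd
  have hinv : ∀ y, IsConj c y → y * y = 1 ∧ y ≠ 1 := fun y hy => by
    obtain ⟨a, rfl⟩ := isConj_iff.1 hy
    refine ⟨by rw [show a * c * a⁻¹ * (a * c * a⁻¹) = a * (c * c) * a⁻¹ by group, h.cc]; group,
      fun e => h.cnot (Or.inl (conj_eq_one_iff.1 e))⟩
  have iw := inv_eq_of_mul_eq_one_right h.ww
  have h1 : IsConj z (v * z) := hvz.trans (isConj_iff.2 ⟨w, by rw [iw, h.wvw]⟩)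
  have h2 : IsConj z w := hvz.trans (isConj_iff.2 ⟨g, h.gv⟩)
  have h3 : IsConj z (w * z) := h1.trans (isConj_iff.2 ⟨g, by
    rw [show g * (v * z) * g⁻¹ = g * v * g⁻¹ * (g * z * g⁻¹) by group, h.gv, mul_inv_eq_iff_eq_mul.2 h.gz.eq]⟩)
  have hsq : v * w * (v * w) = z := by
    rw [show v * w * (v * w) = v * w * v * w by simp only [mul_assoc], hvwv, mul_assoc, hzw.eq,
      ← mul_assoc, h.ww, one_mul]
  intro e
  rcases hx with rfl | rfl | rfl | rfl | rfl | rfl | rfl | rfl
  · exact (hinv _ e).2 rfl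
  · exact hz e
  · exact hz (e.trans hvz.symm)
  · exact hz (e.trans h1.symm)
  · exact hz (e.trans h2.symm)
  · exact hz (e.trans h3.symm)
  · exact h.z1 (hsq.symm.trans (hinv _ e).1)
  · refine h.z1 ?_
    have := (hinv _ e).1
    have hc : Commute z (v * w) := hzv.mul_right hzw
    rw [show v * w * z * (v * w * z) = v * w * (z * (v * w)) * z by simp only [mul_assoc], hc.eq,
      show v * w * (v * w * z) * z = v * w * (v * w) * (z * z) by simp only [mul_assoc], h.zz, mul_one,
      hsq] at this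
    exact this

/-- An element normalizing the Sylow subgroup sends `c` to `c` or `z c`. -/
theorem FTData.normal_c (h : FTData B z c v w g) (hB : Nat.card B = 16)
    (h48 : Nat.card (centralizer ({c} : Set G)) = 48) (hvz : IsConj z v) {d : G}
    (hd : ∀ s ∈ h.syl, d * s * d⁻¹ ∈ h.syl) (hd' : ∀ s ∈ h.syl, d⁻¹ * s * d ∈ h.syl) :
    d * c * d⁻¹ = c ∨ d * c * d⁻¹ = z * c := by
  obtain ⟨hzv, hzw, hwv, hvwv, hwnv, hwnvz, hv1, hw1⟩ := h.rules
  set y := d * c * d⁻¹ with hy
  have hyS : y ∈ h.syl := hd c (Or.inl h.mem.2.1)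
  have hcj : IsConj c y := isConj_iff.2 ⟨d, rfl⟩
  have hclass : ∀ s ∈ h.syl, s * y * s⁻¹ = y ∨ s * y * s⁻¹ = d * (z * c) * d⁻¹ := by
    intro s hs
    have e : s * y * s⁻¹ = d * ((d⁻¹ * s * d) * c * (d⁻¹ * s * d)⁻¹) * d⁻¹ := by rw [hy]; group
    rcases h.conj_c (hd' s hs) with e' | e'
    · exact Or.inl (by rw [e, e'])
    · exact Or.inr (by rw [e, e'])
  have three : ∀ s ∈ h.syl, ∀ s' ∈ h.syl, s * y * s⁻¹ ≠ y → s' * y * s'⁻¹ ≠ y →
      s * y * s⁻¹ = s' * y * s'⁻¹ := fun s hs s' hs' h1 h2 =>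
    ((hclass s hs).resolve_left h1).trans ((hclass s' hs').resolve_left h2).symm
  have hvm : v ∈ h.syl := Or.inl h.mem.2.2.1
  have hwm : w ∈ h.syl := Or.inl h.mem.2.2.2
  have hcm : c ∈ h.syl := Or.inl h.mem.2.1
  have hyy : y * y = 1 := by
    rw [hy, show d * c * d⁻¹ * (d * c * d⁻¹) = d * (c * c) * d⁻¹ by group, h.cc]; group
  by_cases hyB : y ∈ B
  · rcases h.split hyB with hx | hx
    · exact absurd hcj (h.not_conj hB h48 hvz hx)
    have hcv : Commute c v := h.cB v h.mem.2.2.1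
    have hcw : Commute c w := h.cB w h.mem.2.2.2
    have hcz : Commute c z := h.cB z h.mem.1
    have hyc : y = y * c * c := by rw [mul_assoc, h.cc, mul_one]
    have hxx : y * c * (y * c) = 1 := by
      rw [show y * c * (y * c) = y * (c * y) * c by simp only [mul_assoc], (h.cB y hyB).eq,
        show y * (y * c) * c = y * y * (c * c) by simp only [mul_assoc], hyy, h.cc, one_mul]
    have conjx : ∀ s x s' : G, Commute c s → s * x * s⁻¹ = s' → s * (x * c) * s⁻¹ = s' * c := by
      intro s x s' hcs hh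
      rw [show s * (x * c) * s⁻¹ = s * x * s⁻¹ * (s * c * s⁻¹) by group, hh,
        mul_inv_eq_iff_eq_mul.2 hcs.symm.eq]
    have iv := inv_eq_of_mul_eq_one_right h.vv
    have iw := inv_eq_of_mul_eq_one_right h.ww
    have hgz' : g * z * g⁻¹ = z := mul_inv_eq_iff_eq_mul.2 h.gz.eq
    have hgi : ∀ {a b : G}, g * a * g⁻¹ = b → g⁻¹ * b * g⁻¹⁻¹ = a := fun {a b} hh => by rw [← hh]; group
    have gi_mem : g⁻¹ ∈ h.syl := (h.syl).inv_mem h.g_mem
    have gvz : g * (v * z) * g⁻¹ = w * z := by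
      rw [show g * (v * z) * g⁻¹ = g * v * g⁻¹ * (g * z * g⁻¹) by group, h.gv, hgz']
    have gmix : ∀ {a b : G}, g * a * g⁻¹ = b → g * (a * z * c) * g⁻¹ = b * c := fun {a b} hh => by
      rw [show g * (a * z * c) * g⁻¹ = g * a * g⁻¹ * ((g * z * g⁻¹) * (g * c * g⁻¹)) by group, hh, hgz',
        h.gc, ← mul_assoc z, h.zz, one_mul]
    have gmix' : ∀ {a b : G}, g * a * g⁻¹ = b → g * (a * c) * g⁻¹ = b * z * c := fun {a b} hh => by
      rw [show g * (a * c) * g⁻¹ = g * a * g⁻¹ * (g * c * g⁻¹) by group, hh, h.gc, mul_assoc]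
    have noteq : ∀ {a b : G}, a ≠ b → a * c ≠ b * c := fun {a b} hh e => hh (mul_right_cancel e)
    have z1' : ∀ a : G, a * z ≠ a := fun a e => h.z1 (mul_eq_left.1 e)
    rcases hx with e | e | e | e | e | e | e | e <;> rw [e] at hyc hxx
    · exact Or.inl (by rw [hyc, one_mul])
    · exact Or.inr hyc
    · exfalso
      -- `v c`
      have a1 : w * y * w⁻¹ = v * z * c := by rw [hyc]; exact conjx w v _ hcw (by rw [iw, h.wvw])
      have a2 : g * y * g⁻¹ = w * z * c := by rw [hyc]; exact gmix' h.gv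
      have n1 : w * y * w⁻¹ ≠ y := by rw [a1, hyc]; exact noteq (z1' v)
      have n2 : g * y * g⁻¹ ≠ y := by
        rw [a2, hyc]; refine noteq fun e => hwnvz ?_
        rw [← e, mul_assoc, h.zz, mul_one]
      have := three w hwm g h.g_mem n1 n2
      rw [a1, a2] at this
      exact hwnv (mul_right_cancel (mul_right_cancel this)).symm
    · exfalso
      -- `v z c`
      have a1 : w * y * w⁻¹ = v * c := by
        rw [hyc]; refine conjx w (v * z) v hcw ?_
        rw [iw, show w * (v * z) * w = w * v * (z * w) by simp only [mul_assoc], hzw.eq,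
          show w * v * (w * z) = w * v * w * z by simp only [mul_assoc], h.wvw, mul_assoc, h.zz, mul_one]
      have a2 : g * y * g⁻¹ = w * c := by rw [hyc]; exact gmix h.gv
      have n1 : w * y * w⁻¹ ≠ y := by rw [a1, hyc]; exact noteq (z1' v).symm
      have n2 : g * y * g⁻¹ ≠ y := by rw [a2, hyc]; exact noteq hwnvz
      have := three w hwm g h.g_mem n1 n2
      rw [a1, a2] at this
      exact hwnv (mul_right_cancel this).symm
    · exfalso
      -- `w c`
      have a1 : v * y * v⁻¹ = w * z * c := by rw [hyc]; exact conjx v w _ hcv (by rw [iv, hvwv])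
      have a2 : g⁻¹ * y * g⁻¹⁻¹ = v * z * c := by rw [hyc]; exact hgi (gmix h.gv)
      have n1 : v * y * v⁻¹ ≠ y := by rw [a1, hyc]; exact noteq (z1' w)
      have n2 : g⁻¹ * y * g⁻¹⁻¹ ≠ y := by rw [a2, hyc]; exact noteq hwnvz.symm
      have := three v hvm g⁻¹ gi_mem n1 n2
      rw [a1, a2] at this
      exact hwnv (mul_right_cancel (mul_right_cancel this))
    · exfalso
      -- `w z c`
      have a1 : v * y * v⁻¹ = w * c := by
        rw [hyc]; refine conjx v (w * z) w hcv ?_
        rw [iv, show v * (w * z) * v = v * w * (z * v) by simp only [mul_assoc], hzv.eq,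
          show v * w * (v * z) = v * w * v * z by simp only [mul_assoc], hvwv, mul_assoc, h.zz, mul_one]
      have a2 : g⁻¹ * y * g⁻¹⁻¹ = v * c := by rw [hyc]; exact hgi (gmix' h.gv)
      have n1 : v * y * v⁻¹ ≠ y := by rw [a1, hyc]; exact noteq (z1' w).symm
      have n2 : g⁻¹ * y * g⁻¹⁻¹ ≠ y := by
        rw [a2, hyc]; refine noteq fun e => hwnvz ?_
        rw [e, mul_assoc, h.zz, mul_one]
      have := three v hvm g⁻¹ gi_mem n1 n2
      rw [a1, a2] at this
      exact hwnv (mul_right_cancel this)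
    · exfalso
      refine h.z1 ?_
      rw [← hxx, show v * w * (v * w) = v * w * v * w by simp only [mul_assoc], hvwv, mul_assoc, hzw.eq,
        ← mul_assoc, h.ww, one_mul]
    · exfalso
      refine h.z1 ?_
      have hc : Commute z (v * w) := hzv.mul_right hzw
      rw [← hxx, show v * w * z * (v * w * z) = v * w * (z * (v * w)) * z by simp only [mul_assoc], hc.eq,
        show v * w * (v * w * z) * z = v * w * (v * w) * (z * z) by simp only [mul_assoc], h.zz, mul_one,
        show v * w * (v * w) = v * w * v * w by simp only [mul_assoc], hvwv, mul_assoc, hzw.eq,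
        ← mul_assoc, h.ww, one_mul]
  · exfalso
    -- outside `B`
    have hcy : c * y * c⁻¹ ≠ y := fun e => by
      obtain hb := hyS.resolve_left hyB
      have h1 : y * c = c * y := (mul_inv_eq_iff_eq_mul.1 e).symm
      have h2 : y * c * y⁻¹ = z * c := by
        calc y * c * y⁻¹ = g * ((g⁻¹ * y) * c * (g⁻¹ * y)⁻¹) * g⁻¹ := by group
          _ = z * c := by rw [← (h.cB _ hb).eq, mul_inv_cancel_right, h.gc]
      rw [h1, mul_inv_cancel_right] at h2
      exact h.z1 (mul_eq_right.1 h2.symm)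
    have hsw := h.swap hyS hyB
    have hvy : v * y * v⁻¹ ≠ y := fun e => by
      have h1 : y * v * y⁻¹ = v := by rw [← mul_inv_eq_iff_eq_mul.1 e, mul_inv_cancel_right]
      rw [h1] at hsw
      rcases hsw with e' | e'
      · exact hwnv e'.symm
      · exact hwnvz (by rw [e', mul_assoc, h.zz, mul_one])
    have := three v hvm c hcm hvy hcy
    have h2 : y * c * y⁻¹ = z * c := by
      obtain hb := hyS.resolve_left hyB
      calc y * c * y⁻¹ = g * ((g⁻¹ * y) * c * (g⁻¹ * y)⁻¹) * g⁻¹ := by group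
        _ = z * c := by rw [← (h.cB _ hb).eq, mul_inv_cancel_right, h.gc]
    have h3 : c * y * c⁻¹ = z * y := by
      have e1 : y * c = z * c * y := mul_inv_eq_iff_eq_mul.1 h2
      calc c * y * c⁻¹ = z * (z * c * y) * c⁻¹ := by rw [← mul_assoc z (z * c), ← mul_assoc z z, h.zz, one_mul]
        _ = z * y := by rw [← e1, ← mul_assoc, mul_inv_cancel_right]
    rw [h3, inv_eq_of_mul_eq_one_right h.vv] at this
    have h4 : y * v * y⁻¹ = v * z := by
      have e1 : y * v = v * (z * y) := by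
        calc y * v = v * (v * y * v) := by rw [← mul_assoc, ← mul_assoc, h.vv, one_mul]
          _ = v * (z * y) := by rw [this]
      rw [e1, ← mul_assoc, mul_inv_cancel_right]
    rw [h4] at hsw
    rcases hsw with e' | e'
    · exact hwnvz e'.symm
    · exact hwnv (mul_right_cancel e').symm

/-- The Sylow subgroup has order 32. -/
theorem FTData.syl_max (h : FTData B z c v w g) (hB : Nat.card B = 16)
    (h48 : Nat.card (centralizer ({c} : Set G)) = 48) (hvz : IsConj z v) {P : Subgroup G}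
    (hP : IsPGroup 2 P) (hSP : h.syl ≤ P) : P = h.syl := by
  haveI : Fact (Nat.Prime 2) := ⟨Nat.prime_two⟩
  by_contra hne
  have hlt : (h.syl).subgroupOf P < ⊤ := lt_top_iff_ne_top.2 fun e =>
    hne (le_antisymm (subgroupOf_eq_top.1 e) hSP)
  haveI : Group.IsNilpotent P := hP.isNilpotent
  obtain ⟨⟨d, hdP⟩, hdn, hd⟩ := SetLike.exists_of_lt (Group.normalizerCondition_of_isNilpotent _ hlt)
  have hd1 : ∀ s ∈ h.syl, d * s * d⁻¹ ∈ h.syl := fun s hs =>
    mem_subgroupOf.1 ((mem_normalizer_iff.1 hdn ⟨s, hSP hs⟩).1 (mem_subgroupOf.2 hs))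
  have hd2 : ∀ s ∈ h.syl, d⁻¹ * s * d ∈ h.syl := fun s hs => by
    have := mem_subgroupOf.1 ((mem_normalizer_iff.1 (inv_mem hdn) ⟨s, hSP hs⟩).1 (mem_subgroupOf.2 hs))
    simpa [mul_assoc] using this
  have hA : P ⊓ centralizer ({c} : Set G) = B := by
    have hle : B ≤ P ⊓ centralizer ({c} : Set G) := fun b hb =>
      ⟨hSP (Or.inl hb), mem_centralizer_singleton_iff.2 (h.cB b hb).eq.symm⟩
    refine (eq_of_le_of_card_ge hle ?_).symm
    obtain ⟨m, hm⟩ := IsPGroup.iff_card.1 (hP.to_le (inf_le_left : P ⊓ centralizer ({c} : Set G) ≤ P))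
    have hd : 2 ^ m ∣ 2 ^ 4 * 3 := by
      rw [← hm, show 2 ^ 4 * 3 = Nat.card (centralizer ({c} : Set G)) by rw [h48]; norm_num]
      exact card_dvd_of_le inf_le_right
    rw [hm, hB]
    exact Nat.le_of_dvd (by norm_num)
      ((Nat.Coprime.pow_left m (by norm_num : Nat.Coprime 2 3)).dvd_of_dvd_mul_right hd)
  refine hd (mem_subgroupOf.2 ?_)
  rcases h.normal_c hB h48 hvz hd1 hd2 with e | e
  · exact Or.inl (hA ▸ ⟨hdP, mem_centralizer_singleton_iff.2 (mul_inv_eq_iff_eq_mul.1 e)⟩)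
  · refine Or.inr (hA ▸ ⟨P.mul_mem (P.inv_mem (hSP h.g_mem)) hdP, mem_centralizer_singleton_iff.2 ?_⟩)
    refine mul_inv_eq_iff_eq_mul.1 ?_
    calc g⁻¹ * d * c * (g⁻¹ * d)⁻¹ = g⁻¹ * (d * c * d⁻¹) * g := by group
      _ = c := by rw [e, ← h.gc]; group

/-- A normal subgroup of index two avoiding `c`. -/
theorem FTData.exists_index_two (h : FTData B z c v w g) (hB : Nat.card B = 16)
    (h48 : Nat.card (centralizer ({c} : Set G)) = 48) (hvz : IsConj z v) :
    32 ∣ Nat.card G ∧ ∃ K : Subgroup G, K.Normal ∧ K.index = 2 ∧ c ∉ K := by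
  haveI : Fact (Nat.Prime 2) := ⟨Nat.prime_two⟩
  obtain ⟨hzv, hzw, hwv, hvwv, hwnv, hwnvz, hv1, hw1⟩ := h.rules
  have hS32 := h.card_syl hB
  have hSp : IsPGroup 2 h.syl := IsPGroup.of_card (n := 5) (by rw [hS32]; norm_num)
  obtain ⟨P, hP⟩ := hSp.exists_le_sylow
  have hPS := h.syl_max hB h48 hvz P.2 hP
  refine ⟨hS32 ▸ card_subgroup_dvd_card _, ?_⟩
  have hz0 : z ∈ h.b0 := Or.inr (Or.inl rfl)
  have hv0 : v ∈ h.b0 := Or.inr (Or.inr (Or.inl rfl))
  have hw0 : w ∈ h.b0 := Or.inr (Or.inr (Or.inr (Or.inr (Or.inl rfl))))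
  have hlist : ∀ {b}, b ∈ h.b0 → b ∈ B0Set z v w := fun hb => hb
  have hgen : ∀ x : G, x * v * x⁻¹ ∈ h.b0 → x * w * x⁻¹ ∈ h.b0 → x * z * x⁻¹ = z →
      ∀ b ∈ h.b0, x * b * x⁻¹ ∈ h.b0 := by
    intro x ev ew ez b hb
    have hm : ∀ a b : G, x * (a * b) * x⁻¹ = x * a * x⁻¹ * (x * b * x⁻¹) := fun a b => by group
    rcases hlist hb with rfl | rfl | rfl | rfl | rfl | rfl | rfl | rfl
    · simp [h.b0.one_mem]
    · rw [ez]; exact hz0
    · exact ev
    · rw [hm]; exact mul_mem ev (ez.symm ▸ hz0)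
    · exact ew
    · rw [hm]; exact mul_mem ew (ez.symm ▸ hz0)
    · rw [hm]; exact mul_mem ev ew
    · rw [hm, hm]; exact mul_mem (mul_mem ev ew) (ez.symm ▸ hz0)
  have hconjv : ∀ b ∈ B, b * v * b⁻¹ ∈ h.b0 := fun b hb => by
    rcases h.conj_v hb with e | e <;> rw [e]
    exacts [hv0, mul_mem hv0 hz0]
  have hconjv2 : ∀ y ∈ h.syl, y * v * y⁻¹ ∈ h.b0 := fun y hy => by
    by_cases hyB : y ∈ B
    · exact hconjv y hyB
    rcases h.swap hy hyB with e | e <;> rw [e]
    exacts [hw0, mul_mem hw0 hz0]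
  have hnorm : ∀ y ∈ h.syl, ∀ b ∈ h.b0, y * b * y⁻¹ ∈ h.b0 := fun y hy => by
    refine hgen y (hconjv2 y hy) ?_ (mul_inv_eq_iff_eq_mul.2 (h.z_central hy).eq)
    rw [show y * w * y⁻¹ = (y * g) * v * (y * g)⁻¹ by rw [← h.gv]; group]
    exact hconjv2 _ (mul_mem hy h.g_mem)
  -- the subgroup of index two in the Sylow subgroup
  suffices hx : ∃ x ∈ h.syl, x ∉ B ∧ x * x ∈ h.b0 ∧ ∀ b ∈ h.b0, (x * b) * (x * b) ≠ 1 by
    obtain ⟨x, hxS, hxB, hxx, hno⟩ := hx
    set M := extendTwo h.b0 x (hnorm x hxS) hxx with hM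
    have hMS : M ≤ h.syl := by
      rintro m (hm | hm)
      · exact Or.inl (h.b0_le hm)
      · have := (h.syl).mul_mem hxS (show x⁻¹ * m ∈ h.syl from Or.inl (h.b0_le hm))
        rwa [mul_inv_cancel_left] at this
    have hc0 : c ∉ h.b0 := h.cnot
    have hb8 : 2 * Nat.card h.b0 = 16 := by
      have hn0 : ∀ a ∈ h.b0, c * a * c⁻¹ ∈ h.b0 := fun a ha => by
        rw [(h.cB a (h.b0_le ha)).eq, mul_inv_cancel_right]; exact ha
      have hcc0 : c * c ∈ h.b0 := by rw [h.cc]; exact one_mem _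
      rw [← card_extendTwo (K := h.b0) (hn := hn0) (hg := hcc0) hc0, ← hB]
      congr 2
      refine le_antisymm ?_ fun b hb => ?_
      · rintro m (hm | hm)
        · exact h.b0_le hm
        · have := B.mul_mem h.mem.2.1 (h.b0_le hm)
          rwa [mul_inv_cancel_left] at this
      · rcases h.split hb with e | e
        · exact Or.inl e
        · refine Or.inr ?_
          rw [inv_eq_of_mul_eq_one_right h.cc, (h.cB b hb).eq]
          exact e
    have hM16 : Nat.card M = 16 := by rw [hM, card_extendTwo (fun e => hxB (h.b0_le e)), hb8]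
    have hrel : M.relIndex (P : Subgroup G) = 2 := by
      rw [hPS]
      have h1 := relIndex_mul_relIndex ⊥ M h.syl bot_le hMS
      rw [relIndex_bot_left, relIndex_bot_left, hM16, hS32] at h1
      omega
    obtain ⟨K, hK, hKi, hcK⟩ := CfsgLib.Fusion.thompson_transfer P (Q := M) (hPS.symm ▸ hMS) hrel
      (u := c) (by rw [pow_two, h.cc]) (fun a ha => by
        have hcj : IsConj c (a * c * a⁻¹) := isConj_iff.2 ⟨a, rfl⟩
        rcases ha with ha | ha
        · exact h.not_conj hB h48 hvz ha hcj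
        · refine hno _ ha ?_
          rw [mul_inv_cancel_left, show a * c * a⁻¹ * (a * c * a⁻¹) = a * (c * c) * a⁻¹ by group, h.cc]
          group)
    exact ⟨K, hK, hKi, hcK⟩
  have hgS := h.g_mem
  by_cases hex : ∃ y ∈ h.syl, y ∉ B ∧ y * y = 1
  · obtain ⟨y, hyS, hyB, hyy⟩ := hex
    have hiy : y⁻¹ = y := inv_eq_of_mul_eq_one_right hyy
    have hcy : c * y * c = z * y := by
      have hb := hyS.resolve_left hyB
      have h2 : y * c * y⁻¹ = z * c := by
        calc y * c * y⁻¹ = g * ((g⁻¹ * y) * c * (g⁻¹ * y)⁻¹) * g⁻¹ := by group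
          _ = z * c := by rw [← (h.cB _ hb).eq, mul_inv_cancel_right, h.gc]
      have e1 : y * c = z * c * y := mul_inv_eq_iff_eq_mul.1 h2
      have e2 : c * y = z * (y * c) := by
        rw [e1, ← mul_assoc, ← mul_assoc, h.zz, one_mul]
      rw [e2, mul_assoc, mul_assoc, h.cc, mul_one]
    refine ⟨y * c, (h.syl).mul_mem hyS (Or.inl h.mem.2.1), fun e => hyB ?_, ?_, ?_⟩
    · have := B.mul_mem e h.mem.2.1
      rwa [mul_assoc, h.cc, mul_one] at this
    · rw [show y * c * (y * c) = y * (c * y * c) by simp only [mul_assoc], hcy, ← mul_assoc,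
        (h.z_central hyS).eq, mul_assoc, hyy, mul_one]
      exact hz0
    intro b hb e
    -- then `y b y = b⁻¹ z`
    have hbB := h.b0_le hb
    have e1 : y * b * y⁻¹ = b⁻¹ * z := by
      have h1 : z * (y * b * y) * b = 1 := by
        rw [← e, show y * c * b * (y * c * b) = y * (c * b) * y * (c * b) by simp only [mul_assoc],
          (h.cB b hbB).eq, show y * (b * c) * y * (b * c) = y * b * (c * y) * (b * c) by simp only [mul_assoc],
          show c * y = z * y * c by rw [← hcy, mul_assoc (c * y), h.cc, mul_one],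
          show y * b * (z * y * c) * (b * c) = y * b * z * y * (c * b) * c by simp only [mul_assoc],
          (h.cB b hbB).eq, show y * b * z * y * (b * c) * c = (y * b) * z * y * b * (c * c) by
            simp only [mul_assoc], h.cc, mul_one, ← ((h.z_central hyS).mul_left (h.zB b hbB).symm).symm.eq]
        simp only [mul_assoc]
      rw [hiy]
      calc y * b * y = z⁻¹ * (z * (y * b * y) * b) * b⁻¹ := by group
        _ = b⁻¹ * z := by
          rw [h1, mul_one, inv_eq_of_mul_eq_one_right h.zz]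
          exact (h.zB _ (B.inv_mem hbB)).eq
    obtain ⟨u, hu, huyv⟩ : ∃ u, (u = w ∨ u = w * z) ∧ y * v * y⁻¹ = u := ⟨_, h.swap hyS hyB, rfl⟩
    have hyu : y * u * y⁻¹ = v := by
      rw [← huyv, hiy, show y * (y * v * y) * y = y * y * v * (y * y) by simp only [mul_assoc], hyy]
      group
    have hyz : y * z * y⁻¹ = z := mul_inv_eq_iff_eq_mul.2 (h.z_central hyS).eq
    have hm : ∀ a b : G, y * (a * b) * y⁻¹ = y * a * y⁻¹ * (y * b * y⁻¹) := fun a b => by group
    have iv := inv_eq_of_mul_eq_one_right h.vv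
    have iz := inv_eq_of_mul_eq_one_right h.zz
    have huu : u * u = 1 := by
      rcases hu with rfl | rfl
      · exact h.ww
      · rw [show w * z * (w * z) = w * (z * w) * z by simp only [mul_assoc], hzw.eq,
          show w * (w * z) * z = w * w * (z * z) by simp only [mul_assoc], h.ww, h.zz, one_mul]
    have iu := inv_eq_of_mul_eq_one_right huu
    have hzu : z * u = u * z := by
      rcases hu with rfl | rfl
      exacts [hzw.eq, (hzw.mul_right (Commute.refl z)).eq]
    have huv : u * v = v * u * z := by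
      rcases hu with rfl | rfl
      · rw [hwv, mul_assoc]
      · rw [mul_assoc w z v, hzv.eq, ← mul_assoc, hwv]
    have hune : u ≠ v ∧ u ≠ v * z := by
      rcases hu with rfl | rfl
      · exact ⟨hwnv, hwnvz⟩
      · exact ⟨fun e => hwnvz (by rw [← e, mul_assoc, h.zz, mul_one]), fun e => hwnv (mul_right_cancel e)⟩
    have hset : b = 1 ∨ b = z ∨ b = v ∨ b = v * z ∨ b = u ∨ b = u * z ∨ b = v * u ∨ b = v * u * z := by
      rcases hu with rfl | rfl
      · exact hlist hb
      · rcases hlist hb with e' | e' | e' | e' | e' | e' | e' | e' <;>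
          simp [e', mul_assoc, h.zz]
    rcases hset with rfl | rfl | rfl | rfl | rfl | rfl | rfl | rfl
    · exact h.z1 (by simpa using e1.symm)
    · rw [hyz, iz, h.zz] at e1; exact h.z1 e1
    · rw [huyv, iv] at e1; exact hune.2 e1
    · rw [hm, huyv, hyz, _root_.mul_inv_rev, iz, iv, hzv.eq] at e1
      exact hune.2 (mul_right_cancel e1)
    · rw [hyu, iu] at e1; exact hune.2 (by rw [e1, mul_assoc, h.zz, mul_one])
    · rw [hm, hyu, hyz, _root_.mul_inv_rev, iz, iu, hzu] at e1
      exact hune.2 (by rw [mul_right_cancel e1, mul_assoc, h.zz, mul_one])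
    · rw [hm, huyv, hyu, _root_.mul_inv_rev, iv, iu, huv] at e1
      exact h.z1 (mul_eq_left.1 e1.symm)
    · rw [hm, hm, huyv, hyu, hyz, _root_.mul_inv_rev, _root_.mul_inv_rev, iv, iu, iz, huv] at e1
      refine h.z1 ?_
      have hc : Commute z (v * u) := hzv.mul_right hzu
      rw [show v * u * z * z = v * u * (z * z) by simp only [mul_assoc], h.zz, mul_one, ← hc.eq,
        ← mul_assoc z z, h.zz, one_mul] at e1
      exact mul_eq_left.1 e1.symm
  · -- no involution outside `B`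
    push Not at hex
    refine ⟨g, hgS, h.gnot, ?_, fun b hb e => hex (g * b) ((h.syl).mul_mem hgS (Or.inl (h.b0_le hb)))
      (fun e' => h.gnot (by
        have := B.mul_mem e' (B.inv_mem (h.b0_le hb))
        rwa [mul_inv_cancel_right] at this)) e⟩
    rcases h.split h.gg with e | e
    · exact e
    exfalso
    set b := g * g * c with hbd
    have hgg : g * g = b * c := by rw [hbd, mul_assoc _ c c, h.cc, mul_one]
    have hbB := h.b0_le e
    have hgb : g * b * g⁻¹ = b * z := by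
      calc g * b * g⁻¹ = g * g * (g * c * g⁻¹) := by rw [hbd]; group
        _ = b * z := by
          rw [h.gc, hgg, mul_assoc b c, ← mul_assoc c z, (h.cB z h.mem.1).eq, mul_assoc z c c, h.cc, mul_one]
    have hgw : g * w * g⁻¹ = b * v * b⁻¹ := by
      have hcv : c * v * c⁻¹ = v := by rw [(h.cB v h.mem.2.2.1).eq, mul_inv_cancel_right]
      calc g * w * g⁻¹ = g * g * v * (g * g)⁻¹ := by rw [← h.gv]; group
        _ = b * (c * v * c⁻¹) * b⁻¹ := by rw [hgg]; group
        _ = b * v * b⁻¹ := by rw [hcv]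
    have hgz' : g * z * g⁻¹ = z := mul_inv_eq_iff_eq_mul.2 h.gz.eq
    have hm : ∀ a b : G, g * (a * b) * g⁻¹ = g * a * g⁻¹ * (g * b * g⁻¹) := fun a b => by group
    have bvb : v * z * v * (v * z)⁻¹ = v := by rw [mul_assoc v z v, hzv.eq, ← mul_assoc, h.vv, one_mul,
      _root_.mul_inv_rev, inv_eq_of_mul_eq_one_right h.vv, inv_eq_of_mul_eq_one_right h.zz, ← mul_assoc,
      h.zz, one_mul]
    have iw := inv_eq_of_mul_eq_one_right h.ww
    have iz := inv_eq_of_mul_eq_one_right h.zz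
    rcases hlist e with hbe | hbe | hbe | hbe | hbe | hbe | hbe | hbe <;> rw [hbe] at hgb hgw
    · exact h.z1 (by simpa using hgb.symm)
    · rw [hgz', h.zz] at hgb; exact h.z1 hgb
    · rw [h.gv] at hgb; exact hwnvz hgb
    · rw [hm, h.gv, hgz'] at hgb; exact hwnvz (mul_right_cancel hgb)
    · rw [iw, h.wvw] at hgw
      rw [hgw] at hgb
      exact hwnv (mul_right_cancel hgb).symm
    · rw [show w * z * v * (w * z)⁻¹ = w * (z * v * z⁻¹) * w⁻¹ by group, hzv.eq, mul_inv_cancel_right, iw,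
        h.wvw] at hgw
      rw [hm, hgz', hgw] at hgb
      exact hwnv (mul_right_cancel (mul_right_cancel hgb)).symm
    · rw [show v * w * v * (v * w)⁻¹ = v * (w * v * w⁻¹) * v⁻¹ by group, iw, h.wvw,
        ((Commute.refl v).mul_right hzv.symm).eq, mul_inv_cancel_right] at hgw
      rw [hm, h.gv, hgw, ← mul_assoc, hwv] at hgb
      refine h.z1 ((mul_eq_left (a := v * (w * z))).1 ?_)
      rw [hgb, mul_assoc]
    · rw [show v * w * z * v * (v * w * z)⁻¹ = v * (w * (z * v * z⁻¹) * w⁻¹) * v⁻¹ by group, hzv.eq,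
        mul_inv_cancel_right v z, iw, h.wvw, ((Commute.refl v).mul_right hzv.symm).eq,
        mul_inv_cancel_right] at hgw
      rw [hm, hm, h.gv, hgw, hgz', ← mul_assoc, hwv] at hgb
      have := mul_right_cancel hgb
      refine h.z1 ((mul_eq_left (a := v * (w * z))).1 ?_)
      rw [this, mul_assoc]

end CfsgLib.Recog.SubThree
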