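import Cfsg.Agent.Lib.GW.FieldPart
import Cfsg.Agent.Lib.Perm.OddProductPSL

/-!
# Four groups of `PSL(2, F)`, their automorphisms and field automorphisms
-/

set_option autoImplicit false
set_option linter.unusedSectionVars false
set_option linter.style.haveILetI false

namespace CfsgLib.Recog.SubThree

open Matrix Subgroup CfsgLib.AutPSL CfsgLib.GW

variable {F : Type*} [Field F] [Fintype F]

local notation "PS" => Matrix.ProjectiveSpecialLinearGroup (Fin 2) F

/-- The partner of the standard involution. -/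
def bMat (x y : F) (h : x ^ 2 + y ^ 2 = -1) : SpecialLinearGroup (Fin 2) F :=
  CfsgLib.OddProdPSL.mk x y y (-x) (by linear_combination -h)

/-- The standard involution. -/
noncomputable def sA : PS := CfsgLib.OddProdPSL.proj CfsgLib.OddProdPSL.std

/-- Its partner. -/
noncomputable def sB (x y : F) (h : x ^ 2 + y ^ 2 = -1) : PS := CfsgLib.OddProdPSL.proj (bMat x y h)

theorem exists_partner (h2 : (2 : F) ≠ 0) {b : PS} (hb : orderOf b = 2) (hne : sA ≠ b)
    (hc : Commute sA b) : ∃ x y, ∃ h : x ^ 2 + y ^ 2 = -1, b = sB x y h := by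
  obtain ⟨N, rfl⟩ := CfsgLib.OddProdPSL.proj_surjective b
  have ht := CfsgLib.OddProdPSL.tr_eq_zero N hb
  have hd := CfsgLib.OddProdPSL.det_eq N
  have hcomm : proj (CfsgLib.OddProdPSL.std * N) = proj (N * CfsgLib.OddProdPSL.std) := by
    rw [map_mul, map_mul]; exact hc.eq
  obtain ⟨c, hc2, hM⟩ := proj_eq_iff.1 hcomm
  have e00 := congrFun (congrFun hM 0) 0
  have e01 := congrFun (congrFun hM 0) 1
  simp [CfsgLib.OddProdPSL.std, Matrix.vecMul, dotProduct, mul_apply, Fin.sum_univ_two] at e00 e01
  have hd' : N.1 1 1 = -N.1 0 0 := by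
    simp only [CfsgLib.OddProdPSL.tr] at ht
    linear_combination ht
  rw [hd'] at hd e01
  rcases mul_eq_zero.1 (show (c - 1) * (c + 1) = 0 by linear_combination hc2) with h1 | h1
  · exfalso
    obtain rfl : c = 1 := by linear_combination h1
    have ha : N.1 0 0 = 0 := (mul_eq_zero.1
      (show 2 * N.1 0 0 = 0 by linear_combination e01)).resolve_left h2
    have hbc : N.1 0 1 = -N.1 1 0 := by linear_combination e00
    refine hne (proj_eq_iff.2 ⟨N.1 1 0, ?_, ?_⟩)
    · linear_combination hd + N.1 0 0 * ha + N.1 1 0 * hbc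
    · ext i j
      fin_cases i <;> fin_cases j <;> simp [CfsgLib.OddProdPSL.std, ha, hd', hbc]
  · obtain rfl : c = -1 := by linear_combination h1
    have hbc : N.1 1 0 = N.1 0 1 := by linear_combination -e00
    refine ⟨N.1 0 0, N.1 0 1, by linear_combination -hd - N.1 0 1 * hbc, congrArg _ (Subtype.ext ?_)⟩
    ext i j
    fin_cases i <;> fin_cases j <;> simp [bMat, hd', hbc]

theorem sA_ne_one : (sA : PS) ≠ 1 := fun e => by
  rw [sA, CfsgLib.OddProdPSL.proj_eq_one_iff] at e
  simp [CfsgLib.OddProdPSL.std] at e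

/-- An automorphism moving one partner to another. -/
theorem exists_aut_partner (h2 : (2 : F) ≠ 0) (x y : F) (h : x ^ 2 + y ^ 2 = -1) (u v : F)
    (h' : u ^ 2 + v ^ 2 = -1) :
    ∃ φ : MulAut PS, φ sA = sA ∧ φ (sB x y h) = sB u v h' := by
  set s := u * x + v * y with hs
  set d := u * y - v * x with hd
  have hn : s ^ 2 + d ^ 2 = 1 := by
    rw [hs, hd]; linear_combination (u ^ 2 + v ^ 2) * h - h'
  by_cases hs1 : s = 1
  · have hd0 : d = 0 := by
      rw [hs1] at hn
      exact pow_eq_zero_iff (two_ne_zero) |>.1 (by linear_combination hn)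
    refine ⟨1, rfl, proj_eq_iff.2 ⟨-1, by norm_num, ?_⟩⟩
    have hu : u = -x := by
      rw [hs] at hs1; rw [hd] at hd0
      linear_combination u * h - x * hs1 - y * hd0
    have hv : v = -y := by
      rw [hs] at hs1; rw [hd] at hd0
      linear_combination v * h - y * hs1 + x * hd0
    ext i j
    fin_cases i <;> fin_cases j <;> simp [bMat, hu, hv]
  -- `P = 1 - B₁ B₀`
  set P : Matrix (Fin 2) (Fin 2) F := !![1 - s, -d; d, 1 - s] with hP
  have hdet : P.det ≠ 0 := by
    rw [hP, det_fin_two_of]
    intro h0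
    exact hs1 ((mul_eq_zero.1 (show 2 * (1 - s) = 0 by linear_combination h0 - hn)).resolve_left h2
      |> fun h1 => by linear_combination -h1)
  set g : GL (Fin 2) F := GeneralLinearGroup.mkOfDetNeZero P hdet
  have key : ∀ A B : SpecialLinearGroup (Fin 2) F, P * A.1 = B.1 * P →
      indHom g (proj A) = proj B := by
    intro A B hAB
    rw [indHom_apply, ind_proj, map_one]
    refine congrArg proj (Subtype.ext ?_)
    rw [slConj_val]
    show g.1 * A.1 * (g⁻¹).1 = B.1
    rw [show g.1 * A.1 = B.1 * g.1 from hAB, mul_assoc, Units.mul_inv, mul_one]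
  refine ⟨indHom g, key _ _ ?_, key _ _ ?_⟩
  · ext i j
    fin_cases i <;> fin_cases j <;> simp [hP, CfsgLib.OddProdPSL.std, mul_apply, Fin.sum_univ_two]
  · rw [hP, hs, hd]
    ext i j
    fin_cases i <;> fin_cases j <;> simp [bMat, mul_apply, Fin.sum_univ_two] <;>
      first
        | linear_combination u * h - x * h'
        | linear_combination -u * h + x * h'
        | linear_combination v * h - y * h'
        | linear_combination -v * h + y * h'
        | linear_combination u * h
        | linear_combination -u * h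
        | linear_combination v * h
        | linear_combination -v * h

/-- Any two pairs of commuting involutions are conjugate under the automorphism group. -/
theorem exists_aut_four (h2 : (2 : F) ≠ 0) {a b : PS} (ha : orderOf a = 2) (hb : orderOf b = 2)
    (hne : a ≠ b) (hc : Commute a b) (u v : F) (h' : u ^ 2 + v ^ 2 = -1) :
    ∃ φ : MulAut PS, φ a = sA ∧ φ b = sB u v h' := by
  obtain ⟨g, hg⟩ := isConj_iff.1 (CfsgLib.OddProdPSL.isConj_std h2 ha)
  set ψ : MulAut PS := (MulAut.conj g)⁻¹
  have hψa : ψ a = sA := by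
    show g⁻¹ * a * g = _
    rw [← hg]; unfold sA; group
  obtain ⟨x, y, h, hxy⟩ := exists_partner h2 (b := ψ b) (by rw [MulEquiv.orderOf_eq]; exact hb)
    (fun e => hne (ψ.injective (hψa.trans e))) (by rw [← hψa]; exact hc.map ψ.toMonoidHom)
  obtain ⟨φ, hφ1, hφ2⟩ := exists_aut_partner h2 x y h u v h'
  refine ⟨φ * ψ, ?_, ?_⟩
  · rw [MulAut.mul_apply, hψa, hφ1]
  · rw [MulAut.mul_apply, hxy, hφ2]

/-- The fixed field of an automorphism. -/
def fixK (σ : RingAut F) : Subfield F := (σ.toRingHom).eqLocusField (RingHom.id F)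

theorem mem_fixK {σ : RingAut F} {x : F} : x ∈ fixK σ ↔ σ x = x := Iff.rfl

theorem exists_fixed_pair (h2 : (2 : F) ≠ 0) (σ : RingAut F) :
    ∃ u v : F, u ^ 2 + v ^ 2 = -1 ∧ σ u = u ∧ σ v = v := by
  classical
  haveI : Fintype (fixK σ) := Fintype.ofFinite _
  have h2K : (2 : fixK σ) ≠ 0 := fun e => h2 (by
    have := congrArg (fixK σ).subtype e
    rwa [map_ofNat, map_zero] at this)
  obtain ⟨a', b', hab'⟩ := CfsgLib.OddProdPSL.exists_sq_add_sq h2K (-1)
  exact ⟨a', b', by simpa using congrArg (Subtype.val : fixK σ → F) hab', a'.2, b'.2⟩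

theorem fieldHom_proj {σ : RingAut F} {A : SpecialLinearGroup (Fin 2) F}
    (hA : ∀ i j, σ (A.1 i j) = A.1 i j) : fieldHom σ (proj A) = proj A := by
  refine (field_proj σ A).trans (congrArg proj (Subtype.ext ?_))
  rw [slField_val]
  ext i j
  exact hA i j

theorem fieldHom_sA (σ : RingAut F) : fieldHom σ (sA : PS) = sA :=
  fieldHom_proj fun i j => by fin_cases i <;> fin_cases j <;> simp [CfsgLib.OddProdPSL.std]

theorem fieldHom_sB {σ : RingAut F} {u v : F} (h : u ^ 2 + v ^ 2 = -1) (hu : σ u = u) (hv : σ v = v) :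
    fieldHom σ (sB u v h) = sB u v h :=
  fieldHom_proj fun i j => by fin_cases i <;> fin_cases j <;> simp [bMat, hu, hv]

/-- The unipotent elements over the fixed field. -/
noncomputable def uni (σ : RingAut F) : Multiplicative (fixK σ) →* PS where
  toFun x := proj (CfsgLib.OddProdPSL.mk 1 ((x.toAdd : fixK σ) : F) 0 1 (by ring))
  map_one' := (congrArg proj (Subtype.ext (by
    ext i j; fin_cases i <;> fin_cases j <;> simp))).trans (map_one proj)
  map_mul' x y := by
    rw [← map_mul]
    refine congrArg proj (Subtype.ext ?_)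
    ext i j
    fin_cases i <;> fin_cases j <;> simp [mul_apply, Fin.sum_univ_two, add_comm]

theorem uni_injective (σ : RingAut F) : Function.Injective (uni σ) := by
  refine (injective_iff_map_eq_one _).2 fun x hx => ?_
  have h := (CfsgLib.OddProdPSL.proj_eq_one_iff _).1 hx
  exact Multiplicative.ext (Subtype.ext (by simpa using h.1))

theorem fieldHom_uni (σ : RingAut F) (x : Multiplicative (fixK σ)) :
    fieldHom σ (uni σ x) = uni σ x :=
  fieldHom_proj fun i j => by
    fin_cases i <;> fin_cases j <;> simp [mem_fixK.1 (x.toAdd : fixK σ).2]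

theorem card_fixK_dvd (σ : RingAut F) {K : Subgroup PS} (hK : ∀ x, fieldHom σ x = x → x ∈ K) :
    Nat.card (fixK σ) ∣ Nat.card K := by
  have hle : (uni σ).range ≤ K := by
    rintro _ ⟨x, rfl⟩
    exact hK _ (fieldHom_uni σ x)
  rw [show Nat.card (fixK σ) = Nat.card (uni σ).range from
    (Nat.card_congr Multiplicative.ofAdd).trans (Nat.card_congr (MonoidHom.ofInjective (uni_injective σ)).toEquiv)]
  exact Subgroup.card_dvd_of_le hle

/-- An element commuting with both standard involutions as matrices is a scalar. -/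
theorem scalar_of_commute_pair (h2 : (2 : F) ≠ 0) {u v : F} (h : u ^ 2 + v ^ 2 = -1)
    {W : Matrix (Fin 2) (Fin 2) F} (hA : W * CfsgLib.OddProdPSL.std.1 = CfsgLib.OddProdPSL.std.1 * W)
    (hB : W * (bMat u v h).1 = (bMat u v h).1 * W) : ∃ c : F, W = c • 1 := by
  have a00 := congrFun (congrFun hA 0) 0
  have a01 := congrFun (congrFun hA 0) 1
  have b00 := congrFun (congrFun hB 0) 0
  have b01 := congrFun (congrFun hB 0) 1
  simp [CfsgLib.OddProdPSL.std, bMat, mul_apply, Fin.sum_univ_two] at a00 a01 b00 b01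
  have h10 : W 1 0 = -W 0 1 := by linear_combination a00
  have h11 : W 1 1 = W 0 0 := by linear_combination -a01
  have hv : v * W 0 1 = 0 := (mul_eq_zero.1
    (show 2 * (v * W 0 1) = 0 by linear_combination b00 + v * h10)).resolve_left h2
  have hu : u * W 0 1 = 0 := (mul_eq_zero.1
    (show 2 * (u * W 0 1) = 0 by linear_combination -b01 - v * h11)).resolve_left h2
  have h01 : W 0 1 = 0 := by linear_combination W 0 1 * h - u * hu - v * hv
  refine ⟨W 0 0, ?_⟩
  ext i j
  fin_cases i <;> fin_cases j <;> simp [h01, h10, h11]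

/-- A field automorphism fixing the pair fixes its normalizer. -/
theorem normalizer_fixed (h2 : (2 : F) ≠ 0) {σ : RingAut F} {u v : F} (h : u ^ 2 + v ^ 2 = -1)
    (hu : σ u = u) (hv : σ v = v) {n : PS}
    (hnA : n * sA * n⁻¹ ∈ closure ({sA, sB u v h} : Set PS))
    (hnB : n * sB u v h * n⁻¹ ∈ closure ({sA, sB u v h} : Set PS)) : fieldHom σ n = n := by
  obtain ⟨N, rfl⟩ := CfsgLib.OddProdPSL.proj_surjective n
  let FS : Subgroup (SpecialLinearGroup (Fin 2) F) :=
    MonoidHom.eqLocus (slField σ).toMonoidHom (MonoidHom.id _)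
  have hgen : ∀ M : SpecialLinearGroup (Fin 2) F, proj M ∈ closure ({sA, sB u v h} : Set PS) →
      ∀ i j, σ (M.1 i j) = M.1 i j := by
    intro M hM i j
    have hle : closure ({sA, sB u v h} : Set PS) ≤ FS.map proj := by
      rw [closure_le]
      rintro x (rfl | rfl)
      · refine ⟨CfsgLib.OddProdPSL.std, Subtype.ext ?_, rfl⟩
        show (slField σ CfsgLib.OddProdPSL.std).1 = _
        rw [slField_val]
        ext i j; fin_cases i <;> fin_cases j <;> simp [CfsgLib.OddProdPSL.std]
      · refine ⟨bMat u v h, Subtype.ext ?_, rfl⟩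
        show (slField σ (bMat u v h)).1 = _
        rw [slField_val]
        ext i j; fin_cases i <;> fin_cases j <;> simp [bMat, hu, hv]
    obtain ⟨M0, hM0, he⟩ := hle hM
    obtain ⟨c, hc, hMc⟩ := proj_eq_iff.1 he
    have hσ0 : σ (M0.1 i j) = M0.1 i j := by
      have hM0' : slField σ M0 = M0 := hM0
      have := congrFun (congrFun (congrArg Subtype.val hM0') i) j
      rwa [slField_val] at this
    have hσc : σ c = c := by
      rcases mul_eq_zero.1 (show (c - 1) * (c + 1) = 0 by linear_combination hc) with h1 | h1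
      · rw [show c = 1 by linear_combination h1, map_one]
      · rw [show c = -1 by linear_combination h1, map_neg, map_one]
    rw [hMc, Matrix.smul_apply, smul_eq_mul, map_mul, hσc, hσ0]
  have hcomm : ∀ A : SpecialLinearGroup (Fin 2) F, slField σ A = A →
      proj (N * A * N⁻¹) ∈ closure ({sA, sB u v h} : Set PS) →
      (N⁻¹ * slField σ N) * A = A * (N⁻¹ * slField σ N) := by
    intro A hA hmem
    have h1 : slField σ (N * A * N⁻¹) = N * A * N⁻¹ := Subtype.ext (by
      rw [slField_val]
      ext i j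
      exact hgen _ hmem i j)
    rw [map_mul, map_mul, map_inv, hA] at h1
    calc (N⁻¹ * slField σ N) * A = N⁻¹ * (slField σ N * A * (slField σ N)⁻¹) * slField σ N := by group
      _ = A * (N⁻¹ * slField σ N) := by rw [h1]; group
  have hA0 : slField σ CfsgLib.OddProdPSL.std = CfsgLib.OddProdPSL.std := Subtype.ext (by
    rw [slField_val]; ext i j; fin_cases i <;> fin_cases j <;> simp [CfsgLib.OddProdPSL.std])
  have hB0 : slField σ (bMat u v h) = bMat u v h := Subtype.ext (by
    rw [slField_val]; ext i j; fin_cases i <;> fin_cases j <;> simp [bMat, hu, hv])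
  have cA := hcomm _ hA0 (by rw [map_mul, map_mul, map_inv]; exact hnA)
  have cB := hcomm _ hB0 (by rw [map_mul, map_mul, map_inv]; exact hnB)
  obtain ⟨c, hc⟩ := scalar_of_commute_pair h2 h
    (by simpa using congrArg Subtype.val cA) (by simpa using congrArg Subtype.val cB)
  refine (field_proj σ N).trans ?_
  have h1 : proj (N⁻¹ * slField σ N) = 1 := proj_eq_one_of_scalar le_rfl hc
  rw [map_mul, map_inv, inv_mul_eq_one] at h1
  exact h1.symm

end CfsgLib.Recog.SubThree
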