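import Cfsg.Agent.Lib.Recog.SubThree.QDQuotCard
import Cfsg.Agent.Lib.GW.QGroupQuot
import Cfsg.Agent.Lib.GW.Setting
import Cfsg.Agent.Lib.Char.LThreeThree.GLRecog

/-!
# An involution centralizer with quotient `GL(2, 3)`
-/

set_option autoImplicit false
set_option linter.unusedSectionVars false

namespace CfsgLib.Recog.SubThree

open Subgroup CfsgLib.Invol

universe u

/-- A group with a central involution `z` resembling a centralizer in a group with
quasidihedral Sylow subgroups. -/
structure QDCentre {Y : Type u} [Group Y] (z x q o : Y) : Prop where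
  hz : orderOf z = 2
  central : ∀ g : Y, Commute g z
  hx : orderOf x = 2
  hxz : x ≠ z
  cent : ∀ g : Y, Commute g x → g = 1 ∨ g = z ∨ g = x ∨ g = x * z
  conjX : ∀ u : Y, orderOf u = 2 → u ≠ z → IsConj x u
  hq : q * q = z
  hqx : x * q * x⁻¹ = q * z
  hqo : IsConj q o
  two : ∃ k, orderOf (q⁻¹ * o) = 2 ^ k
  ne : o ≠ q ∧ o ≠ q * z

variable {Y : Type u} [Group Y] [Finite Y] {z x q o : Y}

theorem QDCentre.x_mul (h : QDCentre z x q o) :
    x * x = 1 ∧ z * z = 1 ∧ x * z ≠ 1 ∧ q * x * q⁻¹ = x * z ∧ orderOf (x * q) = 2 ∧ x * q ≠ z := by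
  have hxx : x * x = 1 := invol_mul_self h.hx
  have hzz : z * z = 1 := invol_mul_self h.hz
  have hxi : x⁻¹ = x := inv_eq_of_mul_eq_one_right hxx
  have h1 : x * q * x = q * z := by simpa only [hxi] using h.hqx
  have h2 : q * x = x * q * z := by
    calc q * x = x * (x * q * x) := by rw [← mul_assoc, ← mul_assoc, hxx, one_mul]
      _ = x * q * z := by rw [h1, mul_assoc]
  haveI : Fact (Nat.Prime 2) := ⟨Nat.prime_two⟩
  refine ⟨hxx, hzz, fun e => h.hxz ?_, ?_, orderOf_eq_prime ?_ ?_, ?_⟩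
  · rw [eq_inv_of_mul_eq_one_left e, inv_eq_of_mul_eq_one_right hzz]
  · rw [h2, mul_assoc x q z, (h.central q).eq, ← mul_assoc, mul_inv_cancel_right]
  · rw [pow_two, ← mul_assoc, h1, mul_assoc, ← (h.central q).eq, ← mul_assoc, h.hq, hzz]
  · intro e
    have hqx' : q = x := by rw [← hxi]; exact eq_inv_of_mul_eq_one_right e
    exact invol_ne_one h.hz (by rw [← h.hq, hqx', hxx])
  · intro e
    have hqx' : q = x * z := by rw [← e, ← mul_assoc, hxx, one_mul]
    refine invol_ne_one h.hz ?_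
    rw [← h.hq, hqx', show x * z * (x * z) = x * (z * x) * z by simp only [mul_assoc], ← (h.central x).eq,
      show x * (x * z) * z = (x * x) * (z * z) by simp only [mul_assoc], hxx, hzz, one_mul]

theorem QDCentre.core_facts (h : QDCentre z x q o) :
    (∀ v ∈ Cfsg.oddCore Y, x * v * x⁻¹ = v⁻¹) ∧
      (∀ v ∈ Cfsg.oddCore Y, ∃ w ∈ Cfsg.oddCore Y, w * x * w⁻¹ = x * v) ∧ z ∉ Cfsg.oddCore Y ∧
        x ∉ Cfsg.oddCore Y := by
  classical
  set X := Cfsg.oddCore Y with hX
  have hodd : Odd (Nat.card X) := CfsgLib.GW.odd_oddCore Y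
  have hno : ∀ v ∈ X, orderOf v ≠ 2 := fun v hv e => by
    have := Subgroup.orderOf_dvd_natCard _ hv
    rw [e] at this
    exact hodd.not_two_dvd_nat this
  haveI : X.Normal := inferInstance
  have hzX : z ∉ X := fun e => hno z e h.hz
  have hxX : x ∉ X := fun e => hno x e h.hx
  have hfix : ∀ v ∈ X, Commute v x → v = 1 := by
    intro v hv hc
    rcases h.cent v hc with e | e | e | e
    · exact e
    · exact absurd (e ▸ hv) hzX
    · exact absurd (e ▸ hv) hxX
    · exfalso
      haveI : Fact (Nat.Prime 2) := ⟨Nat.prime_two⟩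
      refine hno v hv (orderOf_eq_prime ?_ fun e1 => h.x_mul.2.2.1 (e.symm.trans e1))
      rw [e, (h.central x).mul_pow, pow_two, pow_two, h.x_mul.1, h.x_mul.2.1, one_mul]
  let f : X → X := fun v => ⟨(v : Y)⁻¹ * (x * v * x⁻¹), X.mul_mem (X.inv_mem v.2)
    ((inferInstance : X.Normal).conj_mem _ v.2 x)⟩
  have hf : Function.Injective f := fun a b e => by
    have e' : (a : Y)⁻¹ * (x * a * x⁻¹) = (b : Y)⁻¹ * (x * b * x⁻¹) := congrArg Subtype.val e
    have hc : Commute ((b : Y) * (a : Y)⁻¹) x := by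
      show (b : Y) * (a : Y)⁻¹ * x = x * ((b : Y) * (a : Y)⁻¹)
      calc (b : Y) * (a : Y)⁻¹ * x
          = (b : Y) * ((a : Y)⁻¹ * (x * a * x⁻¹)) * (x * (a : Y)⁻¹) := by group
        _ = x * ((b : Y) * (a : Y)⁻¹) := by rw [e']; group
    exact Subtype.ext (mul_inv_eq_one.1 (hfix _ (X.mul_mem b.2 (X.inv_mem a.2)) hc)).symm
  have hsur := Finite.surjective_of_injective hf
  have hxx : x * x = 1 := invol_mul_self h.hx
  have hxi : x⁻¹ = x := inv_eq_of_mul_eq_one_right hxx
  have hinv : ∀ v ∈ X, x * v * x⁻¹ = v⁻¹ := by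
    intro v hv
    obtain ⟨⟨w, hw⟩, e⟩ := hsur ⟨v, hv⟩
    have e' : w⁻¹ * (x * w * x⁻¹) = v := congrArg Subtype.val e
    rw [hxi] at e' ⊢
    rw [← e', show x * (w⁻¹ * (x * w * x)) * x = x * w⁻¹ * x * w * (x * x) by simp only [mul_assoc],
      hxx, mul_one, _root_.mul_inv_rev, _root_.mul_inv_rev, _root_.mul_inv_rev, hxi, inv_inv]
    simp only [mul_assoc]
  refine ⟨hinv, fun v hv => ?_, hzX, hxX⟩
  obtain ⟨⟨w, hw⟩, e⟩ := hsur ⟨v, hv⟩
  refine ⟨w, hw, ?_⟩
  have e' : w⁻¹ * (x * w * x⁻¹) = v := congrArg Subtype.val e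
  have hw' := hinv w hw
  rw [hw'] at e'
  rw [← e', ← mul_assoc, show x * w⁻¹ = w * x by
    rw [← hw', hxi, ← mul_assoc, ← mul_assoc, hxx, one_mul]]

/-- Involutions other than `z` invert the odd core. -/
theorem QDCentre.inverts (h : QDCentre z x q o) {u : Y} (hu : orderOf u = 2) (huz : u ≠ z) {v : Y}
    (hv : v ∈ Cfsg.oddCore Y) : u * v * u⁻¹ = v⁻¹ := by
  obtain ⟨g, rfl⟩ := isConj_iff.1 (h.conjX u hu huz)
  have hv' : g⁻¹ * v * g ∈ Cfsg.oddCore Y := by
    have := (inferInstance : (Cfsg.oddCore Y).Normal).conj_mem v hv g⁻¹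
    rwa [inv_inv] at this
  calc g * x * g⁻¹ * v * (g * x * g⁻¹)⁻¹ = g * (x * (g⁻¹ * v * g) * x⁻¹) * g⁻¹ := by group
    _ = v⁻¹ := by rw [h.core_facts.1 _ hv']; group

/-- The quotient by the odd core is `GL(2, 3)`. -/
theorem QDCentre.quot_gl (h : QDCentre z x q o) :
    Nonempty ((Y ⧸ Cfsg.oddCore Y) ≃* GL (Fin 2) (ZMod 3)) := by
  classical
  haveI : Fact (Nat.Prime 2) := ⟨Nat.prime_two⟩
  haveI : Fact (Nat.Prime 3) := ⟨Nat.prime_three⟩
  obtain ⟨hinv, hconj, hzX, hxX⟩ := h.core_facts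
  obtain ⟨hxx, hzz, hxz1, hqxq, hxq, hxqz⟩ := h.x_mul
  set X := Cfsg.oddCore Y with hX
  haveI : X.Normal := inferInstance
  set Q1 := Y ⧸ X
  set p : Y →* Q1 := QuotientGroup.mk' X with hp
  have hpk : ∀ g, p g = 1 ↔ g ∈ X := fun g => QuotientGroup.eq_one_iff g
  have hpz : orderOf (p z) = 2 := orderOf_eq_prime (by rw [← map_pow, pow_two, hzz, map_one])
    fun e => hzX ((hpk z).1 e)
  have hzc1 : ∀ w : Q1, w * p z = p z * w := fun w => by
    obtain ⟨g, rfl⟩ := QuotientGroup.mk'_surjective X w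
    exact ((h.central g).map p).eq
  set Z := zpowers (p z) with hZ
  have hZ2 : Nat.card Z = 2 := by rw [Nat.card_zpowers, hpz]
  have hzZ : ∀ w ∈ Z, w = 1 ∨ w = p z := by
    intro w hw
    obtain ⟨k, rfl⟩ := mem_zpowers_iff.1 hw
    rw [← zpow_mod_orderOf, hpz]
    rcases Int.emod_two_eq_zero_or_one k with e | e <;> norm_num [e]
  haveI : Z.Normal := ⟨fun n hn g => by
    rcases hzZ n hn with rfl | rfl
    · simp
    · rw [hzc1 g, mul_inv_cancel_right]
      exact mem_zpowers _⟩
  set r : Y →* Q1 ⧸ Z := (QuotientGroup.mk' Z).comp p with hr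
  have hrsur : Function.Surjective r := (QuotientGroup.mk'_surjective Z).comp (QuotientGroup.mk'_surjective X)
  have hrk : ∀ g, r g = 1 ↔ g ∈ X ∨ g * z ∈ X := by
    intro g
    show ((p g : Q1) : Q1 ⧸ Z) = 1 ↔ _
    rw [QuotientGroup.eq_one_iff]
    constructor
    · intro hg
      rcases hzZ _ hg with e | e
      · exact Or.inl ((hpk g).1 e)
      · exact Or.inr ((hpk _).1 (by rw [map_mul, e, ← map_mul, hzz, map_one]))
    · rintro (hg | hg)
      · rw [(hpk g).2 hg]; exact one_mem Z
      · have := (hpk _).2 hg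
        rw [map_mul] at this
        rw [eq_inv_of_mul_eq_one_left this]
        exact inv_mem (mem_zpowers _)
  -- squares of lifts of conjugates of `x` are trivial
  have hlift : ∀ u, orderOf u = 2 → u ≠ z → ∀ g, r g = r u → g * g = 1 := by
    intro u hu huz g hg
    have huu : u * u = 1 := invol_mul_self hu
    have hd : r (u⁻¹ * g) = 1 := by rw [map_mul, map_inv, hg, inv_mul_cancel]
    have hsq : ∀ v ∈ X, u * v * (u * v) = 1 := fun v hv => by
      have := h.inverts hu huz hv
      rw [inv_eq_of_mul_eq_one_right huu] at this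
      rw [show u * v * (u * v) = u * v * u * v by simp only [mul_assoc], this, inv_mul_cancel]
    rcases (hrk _).1 hd with hv | hv
    · have := hsq _ hv
      rwa [mul_inv_cancel_left] at this
    · have := hsq _ hv
      rw [show u * (u⁻¹ * g * z) = g * z by group,
        show g * z * (g * z) = g * (z * g) * z by simp only [mul_assoc], ← (h.central g).eq,
        show g * (g * z) * z = g * g * (z * z) by simp only [mul_assoc], hzz, mul_one] at this
      exact this
  have hrx : orderOf (r x) = 2 := orderOf_eq_prime (by rw [← map_pow, pow_two, hxx, map_one]) fun e => by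
    rcases (hrk x).1 e with e' | e'
    · exact hxX e'
    · have hm := Subgroup.orderOf_dvd_natCard _ e'
      have : orderOf (x * z) = 2 := orderOf_eq_prime
        (by rw [(h.central x).mul_pow, pow_two, pow_two, hxx, hzz, one_mul]) hxz1
      rw [this] at hm
      exact (CfsgLib.GW.odd_oddCore Y).not_two_dvd_nat hm
  have hrq : orderOf (r q) = 2 := by
    refine orderOf_eq_prime ?_ fun e => ?_
    · rw [← map_pow, pow_two, h.hq]
      exact (hrk z).2 (Or.inr (by rw [hzz]; exact one_mem X))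
    · have hq4 : ∀ g, (g = q ∨ g = q * z) → g ∈ X → False := by
        intro g hg hm
        have hgg : g * g = z := by
          rcases hg with rfl | rfl
          · exact h.hq
          · rw [show q * z * (q * z) = q * (z * q) * z by simp only [mul_assoc], ← (h.central q).eq,
              show q * (q * z) * z = q * q * (z * z) by simp only [mul_assoc], hzz, mul_one, h.hq]
        exact hzX (hgg ▸ X.mul_mem hm hm)
      rcases (hrk q).1 e with e' | e'
      exacts [hq4 q (Or.inl rfl) e', hq4 _ (Or.inr rfl) e']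
  have hrxq : r (x * q) = r x * r q := map_mul r x q
  have hcx : Commute (r q) (r x) := by
    have h1 : r (x * q * x⁻¹) = r q := by
      rw [h.hqx, map_mul, (hrk z).2 (Or.inr (by rw [hzz]; exact one_mem X)), mul_one]
    rw [map_mul, map_mul, map_inv, mul_inv_eq_iff_eq_mul] at h1
    exact h1.symm
  have hT : TwoClass (r x) (r q) (r o) := by
    refine ⟨hrx, hrq, hcx, fun g hg => ?_, ?_, ?_, r.map_isConj h.hqo, ?_, fun N hN hodd => ?_⟩
    · obtain ⟨g, rfl⟩ := hrsur g
      have h1 : r (x⁻¹ * (g * x * g⁻¹)) = 1 := by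
        rw [map_mul, map_mul, map_mul, map_inv, map_inv, hg.eq, mul_inv_cancel_right, inv_mul_cancel]
      have key : ∃ w ∈ X, w⁻¹ * g * x * (w⁻¹ * g)⁻¹ = x ∨ w⁻¹ * g * x * (w⁻¹ * g)⁻¹ = x * z := by
        rcases (hrk _).1 h1 with hv | hv
        · obtain ⟨w, hw, e⟩ := hconj _ hv
          refine ⟨w, hw, Or.inl ?_⟩
          rw [mul_inv_cancel_left] at e
          calc w⁻¹ * g * x * (w⁻¹ * g)⁻¹ = w⁻¹ * (g * x * g⁻¹) * w := by group
            _ = x := by rw [← e]; group
        · obtain ⟨w, hw, e⟩ := hconj _ hv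
          refine ⟨w, hw, Or.inr ?_⟩
          rw [← mul_assoc, mul_inv_cancel_left] at e
          have e2 : g * x * g⁻¹ = w * x * w⁻¹ * z := by rw [e, mul_assoc _ z z, hzz, mul_one]
          calc w⁻¹ * g * x * (w⁻¹ * g)⁻¹ = w⁻¹ * (g * x * g⁻¹) * w := by group
            _ = x * (w⁻¹ * z * w) := by rw [e2]; group
            _ = x * z := by rw [(h.central w⁻¹).eq, inv_mul_cancel_right]
      obtain ⟨w, hw, hk⟩ := key
      have hrw : r g = r (w⁻¹ * g) := by
        rw [map_mul, (hrk w⁻¹).2 (Or.inl (X.inv_mem hw)), one_mul]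
      rw [hrw]
      have hrz : r z = 1 := (hrk z).2 (Or.inr (by rw [hzz]; exact one_mem X))
      rcases hk with hk | hk
      · rcases h.cent _ (mul_inv_eq_iff_eq_mul.1 hk) with e | e | e | e <;> rw [e] <;>
          simp [map_mul, hrz]
      · have hk' : Commute (q⁻¹ * (w⁻¹ * g)) x := by
          refine mul_inv_eq_iff_eq_mul.1 ?_
          calc q⁻¹ * (w⁻¹ * g) * x * (q⁻¹ * (w⁻¹ * g))⁻¹
              = q⁻¹ * (w⁻¹ * g * x * (w⁻¹ * g)⁻¹) * q := by group
            _ = x := by rw [hk, ← hqxq]; group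
        have hqd : w⁻¹ * g = q * (q⁻¹ * (w⁻¹ * g)) := by rw [mul_inv_cancel_left]
        rw [hqd]
        rcases h.cent _ hk' with e | e | e | e <;> rw [e] <;> simp [map_mul, hrz, hcx.eq]
    · intro e
      obtain ⟨g, hg⟩ := isConj_iff.1 e
      obtain ⟨g, rfl⟩ := hrsur g
      rw [← map_inv, ← map_mul, ← map_mul] at hg
      have hord : orderOf (g * x * g⁻¹) = 2 := invol_conj h.hx g
      have hne : g * x * g⁻¹ ≠ z := fun e' => h.hxz (by
        calc x = g⁻¹ * (g * x * g⁻¹) * g := by group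
          _ = z := by rw [e', (h.central g⁻¹).eq, inv_mul_cancel_right])
      have := hlift _ hord hne q hg.symm
      rw [h.hq] at this
      exact invol_ne_one h.hz this
    · rw [← hrxq]
      exact r.map_isConj (h.conjX _ hxq hxqz)
    · intro e
      have hd : r (q⁻¹ * o) = 1 := by rw [map_mul, map_inv, e, inv_mul_cancel]
      obtain ⟨k, hk⟩ := h.two
      have hv : ∀ v ∈ X, (∃ j, v ^ 2 ^ j = 1) → v = 1 := fun v hm hj => by
        obtain ⟨j, hj⟩ := hj
        have h1 := orderOf_dvd_of_pow_eq_one hj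
        have h2 := Subgroup.orderOf_dvd_natCard _ hm
        exact orderOf_eq_one_iff.1 (Nat.eq_one_of_dvd_coprimes
          ((Nat.coprime_two_left.2 (CfsgLib.GW.odd_oddCore Y)).pow_left j) h1 h2)
      rcases (hrk _).1 hd with hm | hm
      · have := hv _ hm ⟨k, by rw [← hk, pow_orderOf_eq_one]⟩
        exact h.ne.1 (inv_mul_eq_one.1 this).symm
      · have := hv _ hm ⟨k + 1, by
          rw [(h.central _).mul_pow, pow_succ, pow_mul, ← hk, pow_orderOf_eq_one, one_pow,
            one_mul, mul_comm (orderOf _) 2, pow_mul, pow_two, hzz, one_pow]⟩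
        refine h.ne.2 ?_
        rw [mul_assoc, inv_mul_eq_one] at this
        rw [this, mul_assoc, hzz, mul_one]
    · have hbot : Cfsg.oddCore (Q1 ⧸ Z) = ⊥ :=
        CfsgLib.GW.oddCore_quotient_cyclic_two (k := 1)
          (CfsgLib.Coprime.pPrimeCore_quotient_eq_bot Nat.prime_two) Z (by rw [hZ2, pow_one])
      haveI := hN
      have := CfsgLib.Coprime.le_pPrimeCore_of_not_dvd Nat.prime_two hodd
      rw [show Cfsg.pPrimeCore 2 (Q1 ⧸ Z) = ⊥ from hbot] at this
      exact le_bot_iff.1 this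
  have h24 := hT.card_eq
  have hQ : Nat.card Q1 = 48 := by
    rw [Subgroup.card_eq_card_quotient_mul_card_subgroup Z, h24, hZ2]
  have h3 : ∀ w : Q1, orderOf w = 3 → Nat.card (centralizer ({w} : Set Q1)) = 6 := by
    intro w hw
    set C := centralizer ({w} : Set Q1) with hC
    have hwC : w ∈ C := mem_centralizer_singleton_iff.2 rfl
    have hzC : p z ∈ C := mem_centralizer_singleton_iff.2 (hzc1 w).symm
    have hd : 2 * 3 ∣ Nat.card C := Nat.Coprime.mul_dvd_of_dvd_of_dvd (by norm_num)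
      (hpz ▸ Subgroup.orderOf_dvd_natCard _ hzC) (hw ▸ Subgroup.orderOf_dvd_natCard _ hwC)
    set m := QuotientGroup.mk' Z with hm
    have hw3 : orderOf (m w) = 3 := by
      rcases (Nat.dvd_prime Nat.prime_three).1 (hw ▸ orderOf_map_dvd m w) with e | e
      · exfalso
        have : w ∈ Z := (QuotientGroup.eq_one_iff w).1 (orderOf_eq_one_iff.1 e)
        have := Subgroup.orderOf_dvd_natCard _ this
        rw [hw, hZ2] at this
        norm_num at this
      · exact e
    have hno2 : ¬ 2 ∣ Nat.card (C.map m) := by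
      intro h2
      obtain ⟨d, hd2⟩ := exists_prime_orderOf_dvd_card' 2 h2
      obtain ⟨g, hg, hgd⟩ := d.2
      have hdd : (d : Q1 ⧸ Z) * d = 1 := invol_mul_self (by rw [orderOf_coe, hd2])
      have := hT.no_comm_three hw3 hdd
        (by rw [← hgd]; exact (show Commute g w from mem_centralizer_singleton_iff.1 hg).map m)
      exact invol_ne_one hd2 (Subtype.ext this)
    have hle : Nat.card (C.map m) ∣ 24 := h24 ▸ card_subgroup_dvd_card _
    have h3' : Nat.card (C.map m) ≤ 3 := by
      have hco : Nat.Coprime (Nat.card (C.map m)) 8 :=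
        (Nat.Coprime.pow_left 3 ((Nat.prime_two.coprime_iff_not_dvd).2 hno2)).symm
      exact Nat.le_of_dvd (by norm_num) (hco.dvd_of_dvd_mul_left (show _ ∣ 8 * 3 from hle))
    have hcard : Nat.card C ≤ 2 * Nat.card (C.map m) := by
      have h1 := (m.comp C.subtype).ker.card_mul_index
      rw [index_ker, MonoidHom.range_comp, range_subtype] at h1
      have h2 : Nat.card (m.comp C.subtype).ker ≤ 2 := by
        rw [← hZ2]
        refine Nat.card_le_card_of_injective (fun a => (⟨(a.1 : Q1), ?_⟩ : Z)) fun a b e =>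
          Subtype.ext (Subtype.ext (congrArg (fun t : Z => (t : Q1)) e))
        exact (QuotientGroup.eq_one_iff _).1 (MonoidHom.mem_ker.1 a.2)
      rw [← h1]
      exact Nat.mul_le_mul_right _ h2
    exact le_antisymm (hcard.trans (by omega)) (Nat.le_of_dvd Nat.card_pos hd)
  have hpx : orderOf (p x) = 2 := orderOf_eq_prime (by rw [← map_pow, pow_two, hxx, map_one])
    fun e => hxX ((hpk x).1 e)
  have hpxz : p x ≠ p z := fun e => by
    have := congrArg (QuotientGroup.mk' Z) e
    rw [show QuotientGroup.mk' Z (p z) = 1 from (QuotientGroup.eq_one_iff _).2 (mem_zpowers _)] at this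
    exact invol_ne_one hrx this
  have h4 : Nat.card (centralizer ({p x} : Set Q1)) ≤ 4 := by
    have hsub : (centralizer ({p x} : Set Q1) : Set Q1) ⊆ ({1, p z, p x, p x * p z} : Finset Q1) := by
      intro w hw
      obtain ⟨g, rfl⟩ := QuotientGroup.mk'_surjective X w
      have hc : p g * p x = p x * p g := mem_centralizer_singleton_iff.1 hw
      have h1 : x⁻¹ * (g * x * g⁻¹) ∈ X := (hpk _).1 (by
        rw [map_mul, map_mul, map_mul, map_inv, map_inv, hc, mul_inv_cancel_right, inv_mul_cancel])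
      obtain ⟨v, hv, e⟩ := hconj _ h1
      rw [mul_inv_cancel_left] at e
      have hg : p g = p (v⁻¹ * g) := by rw [map_mul, map_inv, (hpk v).2 hv, inv_one, one_mul]
      have hk : Commute (v⁻¹ * g) x := mul_inv_eq_iff_eq_mul.1 (by
        calc v⁻¹ * g * x * (v⁻¹ * g)⁻¹ = v⁻¹ * (g * x * g⁻¹) * v := by group
          _ = x := by rw [← e]; group)
      simp only [Finset.coe_insert, Finset.coe_singleton, Set.mem_insert_iff, Set.mem_singleton_iff]
      rw [show QuotientGroup.mk' X g = p g from rfl, hg]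
      rcases h.cent _ hk with e' | e' | e' | e' <;> rw [e'] <;> simp
    rw [← SetLike.coe_sort_coe, Nat.card_coe_set_eq]
    exact (Set.ncard_le_ncard hsub (Finset.finite_toSet _)).trans
      (by rw [Set.ncard_coe_finset]; exact Finset.card_le_four)
  exact CfsgLib.Char.LThreeThree.gl_two_three_of_centralizers hQ hpz hzc1 h3 hpx hpxz h4

end CfsgLib.Recog.SubThree
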