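import Cfsg.Agent.Lib.Recog.SubThree.QDCentre
import Cfsg.Agent.Lib.Recog.SubThree.CoreGroups

/-!
# Simple groups with an involution centralizer resembling that of `PSL(3, 3)`
-/

set_option autoImplicit false
set_option linter.unusedSectionVars false

namespace CfsgLib.Recog.SubThree

open Subgroup CfsgLib.Invol CfsgLib.Char.GLThreeCore
open CfsgLib.Char.GLThreeCent hiding code

universe u

theorem central_code : ∀ i : Fin 48, isInv i → (∀ j, mulI i j = mulI j i) → i = tI := by decide +kernel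

theorem quat_code : ∀ i : Fin 48, inQ i → ∃ j k : Fin 48,
    (isInv j ∧ j ≠ tI) ∧ (isInv k ∧ k ≠ tI) ∧ mulI j k = i := by decide +kernel

theorem code_one : code 1 = oneI := by
  have hcancel : ∀ i : Fin 48, mulI i i = i → i = oneI := by decide +kernel
  exact hcancel _ (by rw [← code_mul, one_mul])

theorem code_inv (g : GL (Fin 2) (ZMod 3)) : code g⁻¹ = invI (code g) := by
  have hcancel : ∀ i j : Fin 48, mulI i j = oneI → j = invI i := by decide +kernel
  exact hcancel _ _ (by rw [← code_mul, mul_inv_cancel, code_one])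

/-- The simple groups with such a centralizer. -/
theorem qd_groups {G : Type u} [Group G] [Finite G] [IsSimpleGroup G] (hG : ¬ IsMulCommutative G)
    {z : G} {zC x q o : centralizer ({z} : Set G)} (hzC : (zC : G) = z) (h : QDCentre zC x q o)
    (hconj : ∀ u : G, orderOf u = 2 → IsConj z u) (hidx : ¬ 2 ∣ (centralizer ({z} : Set G)).index) :
    Nonempty (G ≃* Matrix.ProjectiveSpecialLinearGroup (Fin 3) (ZMod 3)) ∨ Cfsg.Spor.IsoM11 G := by
  classical
  haveI : Fintype G := Fintype.ofFinite G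
  haveI : Fact (Nat.Prime 3) := ⟨Nat.prime_three⟩
  haveI : Fact (Nat.Prime 2) := ⟨Nat.prime_two⟩
  obtain ⟨hinv, -, hzX, hxX⟩ := h.core_facts
  obtain ⟨e⟩ := h.quot_gl
  set X := Cfsg.oddCore (centralizer ({z} : Set G)) with hX
  haveI : X.Normal := inferInstance
  set p := QuotientGroup.mk' X with hp
  set ψ := e.toMonoidHom.comp p with hψ
  have hker : ψ.ker = X := by
    ext a
    rw [MonoidHom.mem_ker, hψ, MonoidHom.comp_apply, MulEquiv.coe_toMonoidHom, e.map_eq_one_iff]
    exact QuotientGroup.eq_one_iff a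
  have hodd : Odd (Nat.card ψ.ker) := hker ▸ CfsgLib.GW.odd_oddCore _
  have hsurj : Function.Surjective ψ := e.surjective.comp (QuotientGroup.mk'_surjective X)
  have hzo : orderOf z = 2 := by rw [← hzC, orderOf_coe, h.hz]
  have hzz : z * z = 1 := invol_mul_self hzo
  have hz1 : z ≠ 1 := invol_ne_one hzo
  have hcode : ∀ a b : centralizer ({z} : Set G), code (ψ (a * b)) = mulI (code (ψ a)) (code (ψ b)) :=
    fun a b => by rw [map_mul, code_mul]
  have hne1 : ∀ a : centralizer ({z} : Set G), a ∉ X → code (ψ a) ≠ oneI := by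
    intro a ha e'
    refine ha (hker ▸ MonoidHom.mem_ker.2 ?_)
    rw [← glI_code (ψ a), e', ← code_one, glI_code]
  have hisinv : ∀ a : centralizer ({z} : Set G), a * a = 1 → a ∉ X → isInv (code (ψ a)) :=
    fun a ha hm => ⟨by rw [← hcode, ha, map_one, code_one], hne1 a hm⟩
  have hzt : code (ψ zC) = tI := by
    refine central_code _ (hisinv zC (invol_mul_self h.hz) hzX) fun j => ?_
    obtain ⟨a, ha⟩ := hsurj (glI j)
    rw [← code_glI j, ← ha, ← hcode, ← hcode, (h.central a).eq]
  have hxt : isInv (code (ψ x)) ∧ code (ψ x) ≠ tI := by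
    refine ⟨hisinv x h.x_mul.1 hxX, fun e' => ?_⟩
    have hmem : x⁻¹ * zC ∈ X := hker ▸ MonoidHom.mem_ker.2 (by
      rw [map_mul, map_inv, ← glI_code (ψ x), ← glI_code (ψ zC), e', hzt, inv_mul_cancel])
    have ho := Subgroup.orderOf_dvd_natCard _ hmem
    have h2 : orderOf (x⁻¹ * zC) = 2 := by
      refine orderOf_eq_prime ?_ fun e1 => h.hxz (inv_mul_eq_one.1 e1)
      rw [(h.central x⁻¹).mul_pow, inv_pow, pow_two, pow_two, h.x_mul.1, h.x_mul.2.1, inv_one, one_mul]
    rw [h2] at ho
    exact (CfsgLib.GW.odd_oddCore _).not_two_dvd_nat ho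
  -- lifts of the outer involutions
  have houter : ∀ a, isInv (code (ψ a)) → code (ψ a) ≠ tI → a * a = 1 ∧ ∀ v ∈ X, a * v * a⁻¹ = v⁻¹ := by
    intro a hi hne
    obtain ⟨k, hk⟩ := outer_code _ hxt.1 hxt.2 _ hi hne
    obtain ⟨g, hg⟩ := hsurj (glI k)
    set u := g * x * g⁻¹ with hu
    have hu2 : orderOf u = 2 := invol_conj h.hx g
    have huz : u ≠ zC := fun e' => h.hxz (by
      calc x = g⁻¹ * u * g := by rw [hu]; group
        _ = zC := by rw [e', (h.central g⁻¹).eq, inv_mul_cancel_right])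
    have hψu : ψ u = ψ a := by
      rw [← glI_code (ψ u), ← glI_code (ψ a)]
      refine congrArg glI ?_
      rw [← hk, hu, hcode, hcode, map_inv, code_inv, hg, code_glI]
    have hmem : u⁻¹ * a ∈ X := hker ▸ MonoidHom.mem_ker.2 (by rw [map_mul, map_inv, hψu, inv_mul_cancel])
    have hiu : ∀ v ∈ X, u * v * u⁻¹ = v⁻¹ := fun v hv => h.inverts hu2 huz hv
    have huu : u * u = 1 := invol_mul_self hu2
    refine ⟨?_, fun v hv => ?_⟩
    · have h1 := hiu _ hmem
      rw [mul_inv_cancel_left, inv_eq_of_mul_eq_one_right huu] at h1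
      calc a * a = a * u * (u * a) := by rw [show a * u * (u * a) = a * (u * u) * a by group, huu, mul_one]
        _ = 1 := by rw [h1, inv_mul_cancel]
    · have hcomm : ∀ w ∈ X, ∀ w' ∈ X, w * w' = w' * w := fun w hw w' hw' => by
        have h1 := hinv _ (X.mul_mem hw hw')
        rw [show x * (w * w') * x⁻¹ = x * w * x⁻¹ * (x * w' * x⁻¹) by group, hinv w hw, hinv w' hw',
          _root_.mul_inv_rev] at h1
        have h2 := congrArg (·⁻¹) h1
        simp only [_root_.mul_inv_rev, inv_inv] at h2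
        exact h2.symm
      rw [show a = u * (u⁻¹ * a) by group]
      calc u * (u⁻¹ * a) * v * (u * (u⁻¹ * a))⁻¹ = u * ((u⁻¹ * a) * v * (u⁻¹ * a)⁻¹) * u⁻¹ := by group
        _ = v⁻¹ := by rw [hcomm _ hmem _ hv, mul_inv_cancel_right, hiu v hv]
  have hC48 : Nat.card (centralizer ({z} : Set G)) = Nat.card ψ.ker * 48 := by
    have h1 := ψ.ker.card_mul_index
    rw [index_ker, MonoidHom.range_eq_top.2 hsurj, card_top,
      ← Nat.card_eq_of_bijective glI glI_bijective, Nat.card_fin] at h1
    exact h1.symm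
  let t : Core z :=
    { ψ := ψ
      surj := hsurj
      odd := hodd
      invol := ⟨hzz, hz1⟩
      map_t := by
        rw [show (⟨z, mem_centralizer_singleton_iff.2 rfl⟩ : centralizer ({z} : Set G)) = zC from
          Subtype.ext hzC.symm, ← glI_code (ψ zC), hzt]
      conj := fun u hu hu1 => hconj u (orderOf_eq_prime (by rw [pow_two, hu]) hu1)
      not32 := fun hd => by
        rw [← (centralizer ({z} : Set G)).card_mul_index, hC48] at hd
        obtain ⟨c, hc⟩ : Odd (Nat.card ψ.ker * (centralizer ({z} : Set G)).index) :=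
          hodd.mul (Nat.odd_iff.2 (Nat.two_dvd_ne_zero.1 hidx))
        obtain ⟨m, hm⟩ := hd
        rw [show Nat.card ψ.ker * 48 * (centralizer ({z} : Set G)).index =
          48 * (Nat.card ψ.ker * (centralizer ({z} : Set G)).index) by ring, hc] at hm
        omega }
  have hk1 : Nat.card t.ψ.ker = 1 := by
    refine t.ker_trivial (fun a ha _ v hv => ?_) x fun w hw hc => ?_
    swap
    · have hw' : w ∈ X := hker ▸ hw
      have h1 := hinv w hw'
      rw [hc.eq, mul_inv_cancel_right] at h1
      have h2 : w * w = 1 := mul_eq_one_iff_eq_inv.2 h1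
      by_contra hne
      have h3 : orderOf w = 2 := orderOf_eq_prime (by rw [pow_two, h2]) hne
      have := Subgroup.orderOf_dvd_natCard X hw'
      rw [h3] at this
      exact (CfsgLib.GW.odd_oddCore _).not_two_dvd_nat this
    obtain ⟨j, k, hj, hk, hjk⟩ := quat_code _ ha
    obtain ⟨b, hb⟩ := hsurj (glI j)
    obtain ⟨c, hc⟩ := hsurj (glI k)
    have hjb : code (ψ b) = j := by rw [hb, code_glI]
    have hkc : code (ψ c) = k := by rw [hc, code_glI]
    have hm : (b * c)⁻¹ * a ∈ ψ.ker := MonoidHom.mem_ker.2 (by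
      rw [map_mul, map_inv, ← glI_code (ψ (b * c)), hcode, hjb, hkc, hjk,
        show t.pi a = code (ψ a) from rfl, glI_code, inv_mul_cancel])
    have hv' : v ∈ X := hker ▸ hv
    have hwv : Commute ((b * c)⁻¹ * a) v := by
      have := (hker ▸ hm : (b * c)⁻¹ * a ∈ X)
      have h1 := hinv _ (X.mul_mem this hv')
      rw [show x * (((b * c)⁻¹ * a) * v) * x⁻¹ = x * ((b * c)⁻¹ * a) * x⁻¹ * (x * v * x⁻¹) by group,
        hinv _ this, hinv _ hv', _root_.mul_inv_rev _ v] at h1
      have h2 := congrArg (·⁻¹) h1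
      simp only [_root_.mul_inv_rev, inv_inv] at h2
      show (b * c)⁻¹ * a * v = v * ((b * c)⁻¹ * a)
      rw [_root_.mul_inv_rev]
      exact h2.symm
    have hbc : Commute (b * c) v := by
      have h1 := (houter b (hjb ▸ hj.1) (hjb ▸ hj.2)).2
      have h2 := (houter c (hkc ▸ hk.1) (hkc ▸ hk.2)).2 v hv'
      refine mul_inv_eq_iff_eq_mul.1 ?_
      calc b * c * v * (b * c)⁻¹ = b * (c * v * c⁻¹) * b⁻¹ := by group
        _ = v := by rw [h2, h1 _ (X.inv_mem hv'), inv_inv]
    have := hbc.mul_left hwv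
    rw [mul_inv_cancel_left] at this
    exact this.symm
  exact core_groups hG t hk1

end CfsgLib.Recog.SubThree
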