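import Cfsg.Agent.Lib.Invol.TwoClasses
import Cfsg.Agent.Lib.Char.SuborbitThree.Basic
import Cfsg.Agent.Lib.Fusion.Sylow
import Cfsg.Agent.Lib.Coprime.Core
import Cfsg.Agent.Lib.Invol.Basic
import Mathlib.GroupTheory.Transfer

/-!
# A group with an involution whose centralizer is a four group meeting two classes
-/

set_option autoImplicit false
set_option linter.unusedSectionVars false

namespace CfsgLib.Recog.SubThree

open Subgroup

universe u

/-- The hypotheses satisfied by the quotient of an involution centralizer by its centre and core. -/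
structure TwoClass {Q : Type u} [Group Q] (x c o : Q) : Prop where
  hx : orderOf x = 2
  hc : orderOf c = 2
  hcx : Commute c x
  cent : ∀ g : Q, Commute g x → g = 1 ∨ g = x ∨ g = c ∨ g = x * c
  notConj : ¬ IsConj x c
  conjMul : IsConj x (x * c)
  conjO : IsConj c o
  hoc : o ≠ c
  core : ∀ N : Subgroup Q, N.Normal → ¬ 2 ∣ Nat.card N → N = ⊥

variable {Q : Type u} [Group Q] [Finite Q] {x c o : Q}

theorem TwoClass.eq_c (h : TwoClass x c o) {u : Q} (hu : IsConj c u) (hux : Commute u x) : u = c := by
  rcases h.cent u hux with e | e | e | e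
  · rw [e, isConj_one_left] at hu
    exact absurd hu (CfsgLib.Invol.invol_ne_one h.hc)
  · exact absurd (e ▸ hu).symm h.notConj
  · exact e
  · exact absurd (h.conjMul.trans (e ▸ hu).symm) h.notConj

theorem TwoClass.commute_x (h : TwoClass x c o) {u : Q} (hu : Commute u (x * c)) : Commute u x := by
  classical
  set A := centralizer ({x} : Set Q) with hA
  set B := centralizer ({x * c} : Set Q) with hB
  have hle : A ≤ B := fun g hg => by
    refine mem_centralizer_singleton_iff.2 ?_
    have hgx : Commute g x := mem_centralizer_singleton_iff.1 hg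
    have hgc : Commute g c := by
      rcases h.cent g hgx with e | e | e | e <;> rw [e]
      · exact Commute.one_left c
      · exact h.hcx.symm
      · exact (h.hcx.symm).mul_left (Commute.refl c)
    exact (hgx.mul_right hgc).eq
  obtain ⟨g, hg⟩ := isConj_iff.1 h.conjMul
  have hmap : A.map (MulAut.conj g).toMonoidHom = B := by
    ext y
    rw [hA, hB, mem_centralizer_singleton_iff, mem_map]
    constructor
    · rintro ⟨a, ha, rfl⟩
      have := (show Commute a x from mem_centralizer_singleton_iff.1 ha).map (MulAut.conj g)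
      rwa [MulAut.conj_apply, MulAut.conj_apply, hg] at this
    · intro hy
      refine ⟨g⁻¹ * y * g, mem_centralizer_singleton_iff.2 ?_, by simp [mul_assoc]⟩
      calc g⁻¹ * y * g * x = g⁻¹ * (y * (g * x * g⁻¹)) * g := by group
        _ = _ := by rw [hg, hy, ← hg]; group
  have heq : A = B := eq_of_le_of_card_ge hle (by
    rw [← hmap]
    exact (Nat.card_congr (A.equivMapOfInjective _ (MulAut.conj g).injective).toEquiv).ge)
  have hm : u ∈ B := mem_centralizer_singleton_iff.2 hu.eq
  rw [← heq] at hm
  exact mem_centralizer_singleton_iff.1 hm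

/-- The conjugates of `c` commute with `c`. -/
theorem TwoClass.comm_c (h : TwoClass x c o) {u : Q} (hu : IsConj c u) : Commute u c := by
  have huo : orderOf u = 2 := by
    obtain ⟨g, rfl⟩ := isConj_iff.1 hu
    exact CfsgLib.Invol.invol_conj h.hc g
  obtain ⟨w, hw, hwu, hwx⟩ := CfsgLib.Invol.exists_invol_commute_both huo h.hx
    fun e => h.notConj (hu.trans e).symm
  rcases h.cent w hwx with e | e | e | e
  · exact absurd e (CfsgLib.Invol.invol_ne_one hw)
  · rw [h.eq_c hu (e ▸ hwu.symm)]
  · exact e ▸ hwu.symm
  · rw [h.eq_c hu (h.commute_x (e ▸ hwu.symm))]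

theorem TwoClass.comm_conj (h : TwoClass x c o) {u v : Q} (hu : IsConj c u) (hv : IsConj c v) :
    Commute u v := by
  obtain ⟨g, rfl⟩ := isConj_iff.1 hv
  have hu' : IsConj c (g⁻¹ * u * g) := hu.trans (isConj_iff.2 ⟨g⁻¹, by rw [inv_inv]⟩)
  have := (h.comm_c hu').map (MulAut.conj g)
  simpa [mul_assoc] using this

theorem TwoClass.conj_x (h : TwoClass x c o) {u : Q} (hu : IsConj c u) (hne : u ≠ c) :
    x * u * x = u * c := by
  have hxx : x * x = 1 := CfsgLib.Invol.invol_mul_self h.hx
  have hm : IsConj c (x * u * x) := hu.trans (isConj_iff.2 ⟨x, by rw [inv_eq_of_mul_eq_one_right hxx]⟩)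
  have huu : u * u = 1 := by
    obtain ⟨g, rfl⟩ := isConj_iff.1 hu
    exact CfsgLib.Invol.invol_mul_self (CfsgLib.Invol.invol_conj h.hc g)
  have hcom : Commute (x * u * x) u := h.comm_conj hm hu
  have hfix : Commute (u * (x * u * x)) x := by
    show u * (x * u * x) * x = x * (u * (x * u * x))
    rw [show x * (u * (x * u * x)) = (x * u * x) * u * x by simp only [mul_assoc], hcom.eq]
  have hcu : u * (u * (x * u * x)) = x * u * x := by rw [← mul_assoc, huu, one_mul]
  rcases h.cent _ hfix with e | e | e | e
  · rw [e, mul_one] at hcu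
    exact absurd (h.eq_c hu (by
      show u * x = x * u
      calc u * x = x * u * x * x := by rw [← hcu]
        _ = x * u := by rw [mul_assoc, hxx, mul_one])) hne
  · exfalso
    rw [e] at hcu
    refine hne (h.eq_c hu ?_)
    have := (Commute.refl u).mul_left hcom
    rwa [e, Commute, SemiconjBy, eq_comm] at this
  · rw [e] at hcu; exact hcu.symm
  · exfalso
    rw [e] at hcu
    refine hne (h.eq_c hu ?_)
    have h1 : Commute (x * c) u := e ▸ ((Commute.refl u).mul_left hcom)
    have h2 : Commute c u := (h.comm_c hu).symm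
    have h3 := h1.mul_left h2
    rw [mul_assoc, CfsgLib.Invol.invol_mul_self h.hc, mul_one] at h3
    exact h3.symm

/-- The class of `c`. -/
theorem TwoClass.class_eq (h : TwoClass x c o) {u : Q} :
    IsConj c u ↔ u = c ∨ u = o ∨ u = o * c := by
  have hxx : x * x = 1 := CfsgLib.Invol.invol_mul_self h.hx
  constructor
  · intro hu
    by_cases hne : u = c
    · exact Or.inl hne
    refine Or.inr ?_
    have h1 := h.conj_x hu hne
    have h2 := h.conj_x h.conjO h.hoc
    have hco : Commute o c := h.comm_c h.conjO
    have hcu : Commute u c := h.comm_c hu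
    have huo : Commute u o := h.comm_conj hu h.conjO
    have hfix : Commute (u * o) x := by
      have h3 : x * (u * o) * x = u * o := by
        calc x * (u * o) * x = (x * u * x) * (x * o * x) := by
              rw [show x * u * x * (x * o * x) = x * u * (x * x) * o * x by simp only [mul_assoc], hxx,
                mul_one]
              simp only [mul_assoc]
          _ = u * c * (o * c) := by rw [h1, h2]
          _ = u * (c * o) * c := by simp only [mul_assoc]
          _ = u * o := by rw [← hco.eq]; simp only [mul_assoc, CfsgLib.Invol.invol_mul_self h.hc, mul_one]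
      show u * o * x = x * (u * o)
      conv_lhs => rw [← h3]
      rw [mul_assoc (x * (u * o)), hxx, mul_one]
    have hoo : o * o = 1 := by
      obtain ⟨g, hg⟩ := isConj_iff.1 h.conjO
      rw [← hg]
      exact CfsgLib.Invol.invol_mul_self (CfsgLib.Invol.invol_conj h.hc g)
    have hu_eq : u = u * o * o := by rw [mul_assoc, hoo, mul_one]
    rcases h.cent _ hfix with e | e | e | e <;> rw [e] at hu_eq
    · exact Or.inl (by rwa [one_mul] at hu_eq)
    · exact absurd (h.eq_c h.conjO (e ▸ (huo.symm.mul_right (Commute.refl o)))) h.hoc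
    · exact Or.inr (hu_eq.trans hco.eq.symm)
    · exfalso
      refine h.hoc (h.eq_c h.conjO ?_)
      have h3 : Commute o (x * c) := e ▸ (huo.symm.mul_right (Commute.refl o))
      have h4 := h3.mul_right hco
      rwa [mul_assoc, CfsgLib.Invol.invol_mul_self h.hc, mul_one] at h4
  · rintro (rfl | rfl | rfl)
    · exact IsConj.refl _
    · exact h.conjO
    · rw [← h.conj_x h.conjO h.hoc]
      exact h.conjO.trans (isConj_iff.2 ⟨x, by rw [inv_eq_of_mul_eq_one_right hxx]⟩)

/-- The four group spanned by the class of `c`. -/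
theorem TwoClass.mul_self_c (h : TwoClass x c o) : c * c = 1 ∧ o * o = 1 ∧ Commute o c := by
  refine ⟨CfsgLib.Invol.invol_mul_self h.hc, ?_, h.comm_c h.conjO⟩
  obtain ⟨g, hg⟩ := isConj_iff.1 h.conjO
  rw [← hg]
  exact CfsgLib.Invol.invol_mul_self (CfsgLib.Invol.invol_conj h.hc g)

/-- The centralizer of `c` and `o`. -/
def pairCent (c o : Q) : Subgroup Q := centralizer ({c} : Set Q) ⊓ centralizer ({o} : Set Q)

theorem mem_pairCent {g : Q} : g ∈ pairCent c o ↔ Commute g c ∧ Commute g o := by
  rw [pairCent, mem_inf, mem_centralizer_singleton_iff, mem_centralizer_singleton_iff]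
  rfl

theorem TwoClass.pairCent_normal (h : TwoClass x c o) : (pairCent c o).Normal := by
  refine ⟨fun d hd g => ?_⟩
  obtain ⟨hdc, hdo⟩ := mem_pairCent.1 hd
  have key : ∀ u, IsConj c u → Commute d u := fun u hu => by
    rcases h.class_eq.1 hu with e | e | e <;> rw [e]
    exacts [hdc, hdo, hdo.mul_right hdc]
  have key2 : ∀ u, IsConj c u → Commute (g * d * g⁻¹) u := fun u hu => by
    have := (key (g⁻¹ * u * g) (hu.trans (isConj_iff.2 ⟨g⁻¹, by rw [inv_inv]⟩))).map (MulAut.conj g)
    simpa [mul_assoc] using this
  exact mem_pairCent.2 ⟨key2 c (IsConj.refl c), key2 o h.conjO⟩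

theorem TwoClass.x_commute (h : TwoClass x c o) : ¬ Commute x o := fun e =>
  h.hoc (h.eq_c h.conjO e.symm)

/-- An element of `C(c, o)` whose commutator with `x` lies in the four group lies in it. -/
theorem TwoClass.mem_four_of_comm (h : TwoClass x c o) {d w : Q} (hd : d ∈ pairCent c o)
    (hw : w = 1 ∨ w = c ∨ w = o ∨ w = o * c) (hdw : x * d * x = d * w) :
    d = 1 ∨ d = c ∨ d = o ∨ d = o * c := by
  obtain ⟨hcc, hoo, hoc⟩ := h.mul_self_c
  obtain ⟨hdc, hdo⟩ := mem_pairCent.1 hd
  have hxx : x * x = 1 := CfsgLib.Invol.invol_mul_self h.hx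
  have hxo := h.conj_x h.conjO h.hoc
  have hxc : x * c * x = c := by rw [← h.hcx.eq, mul_assoc, hxx, mul_one]
  have hfix : ∀ g ∈ pairCent c o, x * g * x = g → g = 1 ∨ g = c := by
    intro g hg hgx
    have hcom : Commute g x := by
      show g * x = x * g
      conv_lhs => rw [← hgx]
      rw [mul_assoc, hxx, mul_one]
    rcases h.cent g hcom with e | e | e | e
    · exact Or.inl e
    · exact absurd (e ▸ (mem_pairCent.1 hg).2) h.x_commute
    · exact Or.inr e
    · exfalso
      refine h.x_commute ?_
      have h1 := (e ▸ (mem_pairCent.1 hg).2).mul_left hoc.symm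
      rwa [mul_assoc, hcc, mul_one] at h1
  have htwice : ∀ w', x * w' * x * (x * d * x) = x * (w' * d) * x := fun w' => by
    rw [show x * w' * x * (x * d * x) = x * w' * (x * x) * d * x by simp only [mul_assoc], hxx, mul_one]
    simp only [mul_assoc]
  rcases hw with e0 | e0 | e0 | e0 <;> rw [e0] at hdw
  · rcases hfix d hd (by rw [hdw, mul_one]) with e | e <;> simp [e]
  · have hd' : d * o ∈ pairCent c o := mem_pairCent.2
      ⟨hdc.mul_left hoc, hdo.mul_left (Commute.refl o)⟩
    rcases hfix (d * o) hd' (by
      rw [show x * (d * o) * x = x * d * (x * x) * o * x by rw [hxx]; simp [mul_assoc],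
        show x * d * (x * x) * o * x = x * d * x * (x * o * x) by simp only [mul_assoc], hdw, hxo,
        mul_assoc d, ← mul_assoc c o, ← hoc.eq, mul_assoc o c c, hcc, mul_one]) with e | e
    · exact Or.inr (Or.inr (Or.inl (by rw [eq_inv_of_mul_eq_one_left e, inv_eq_of_mul_eq_one_right hoo])))
    · exact Or.inr (Or.inr (Or.inr (by rw [← hoc.symm.eq, ← e, mul_assoc, hoo, mul_one])))
  · exfalso
    have h2 : d = d * c := by
      calc d = x * (x * d * x) * x := by
            rw [← mul_assoc, ← mul_assoc, hxx, one_mul, mul_assoc, hxx, mul_one]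
        _ = x * d * x * (x * o * x) := by
            rw [hdw, show x * (d * o) * x = x * d * (x * x) * o * x by rw [hxx]; simp [mul_assoc],
              show x * d * (x * x) * o * x = x * d * x * (x * o * x) by simp only [mul_assoc], hdw]
        _ = d * c := by rw [hdw, hxo, mul_assoc, ← mul_assoc o o, hoo, one_mul]
    exact CfsgLib.Invol.invol_ne_one h.hc (by simpa using h2)
  · exfalso
    have hxoc : x * (o * c) * x = o := by
      rw [show x * (o * c) * x = x * o * (x * x) * c * x by rw [hxx]; simp [mul_assoc],
        show x * o * (x * x) * c * x = x * o * x * (x * c * x) by simp only [mul_assoc], hxo, hxc,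
        mul_assoc, hcc, mul_one]
    have h2 : d = d * c := by
      calc d = x * (x * d * x) * x := by
            rw [← mul_assoc, ← mul_assoc, hxx, one_mul, mul_assoc, hxx, mul_one]
        _ = x * d * x * (x * (o * c) * x) := by
            rw [hdw, show x * (d * (o * c)) * x = x * d * (x * x) * (o * c) * x by rw [hxx]; simp [mul_assoc],
              show x * d * (x * x) * (o * c) * x = x * d * x * (x * (o * c) * x) by simp only [mul_assoc],
              hdw]
        _ = d * c := by rw [hdw, hxoc, mul_assoc, mul_assoc o c o, ← hoc.eq, ← mul_assoc o o, hoo, one_mul]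
    exact CfsgLib.Invol.invol_ne_one h.hc (by simpa using h2)

end CfsgLib.Recog.SubThree
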