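import Cfsg.Agent.Lib.Recog.SubThree.QDQuot
import Cfsg.Agent.Lib.Coprime.Solvable

/-!
# The order of a two-class group
-/

set_option autoImplicit false
set_option linter.unusedSectionVars false

namespace CfsgLib.Recog.SubThree

open Subgroup CfsgLib.Invol

universe u

variable {Q : Type u} [Group Q] [Finite Q] {x c o : Q}

/-- The four group of the class of `c`. -/
def TwoClass.four (h : TwoClass x c o) : Subgroup Q where
  carrier := {g | g = 1 ∨ g = c ∨ g = o ∨ g = o * c}
  one_mem' := Or.inl rfl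
  mul_mem' := by
    obtain ⟨hcc, hoo, hoc⟩ := h.mul_self_c
    have e1 : c * o = o * c := hoc.symm.eq
    have e2 : ∀ r : Q, c * (c * r) = r := fun r => by rw [← mul_assoc, hcc, one_mul]
    have e3 : ∀ r : Q, o * (o * r) = r := fun r => by rw [← mul_assoc, hoo, one_mul]
    have e4 : c * (o * c) = o := by rw [← mul_assoc, e1, mul_assoc, hcc, mul_one]
    have e5 : o * c * o = c := by rw [mul_assoc, e1, e3]
    have e6 : o * c * c = o := by rw [mul_assoc, hcc, mul_one]
    have e7 : o * c * (o * c) = 1 := by rw [mul_assoc, e4, hoo]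
    rintro g g' (rfl | rfl | rfl | rfl) (rfl | rfl | rfl | rfl) <;>
      simp [hcc, hoo, e1, e2, e3, e4, e5, e6, e7]
  inv_mem' := by
    obtain ⟨hcc, hoo, hoc⟩ := h.mul_self_c
    rintro g (rfl | rfl | rfl | rfl)
    · exact Or.inl inv_one
    · exact Or.inr (Or.inl (inv_eq_of_mul_eq_one_right hcc))
    · exact Or.inr (Or.inr (Or.inl (inv_eq_of_mul_eq_one_right hoo)))
    · refine Or.inr (Or.inr (Or.inr ?_))
      rw [_root_.mul_inv_rev, inv_eq_of_mul_eq_one_right hcc, inv_eq_of_mul_eq_one_right hoo]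
      exact hoc.symm.eq

theorem TwoClass.mem_four (h : TwoClass x c o) {g : Q} :
    g ∈ h.four ↔ g = 1 ∨ g = c ∨ g = o ∨ g = o * c := Iff.rfl

theorem TwoClass.card_four (h : TwoClass x c o) : Nat.card h.four = 4 := by
  classical
  obtain ⟨hcc, hoo, hoc⟩ := h.mul_self_c
  have h1 : o ≠ 1 := fun e => by
    have := h.conjO
    rw [e, isConj_one_left] at this
    exact invol_ne_one h.hc this
  have hset : (h.four : Set Q) = {1, c, o, o * c} := by
    ext g
    simp [h.mem_four]
  rw [← SetLike.coe_sort_coe, Nat.card_coe_set_eq, hset, Set.ncard_insert_of_notMem (by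
      simp only [Set.mem_insert_iff, Set.mem_singleton_iff, not_or]
      exact ⟨(invol_ne_one h.hc).symm, h1.symm, fun e => h.hoc (by
        rw [eq_inv_of_mul_eq_one_left e.symm, inv_eq_of_mul_eq_one_right hcc])⟩),
    Set.ncard_insert_of_notMem (by
      simp only [Set.mem_insert_iff, Set.mem_singleton_iff, not_or]
      exact ⟨h.hoc.symm, fun e => h1 (mul_eq_right.1 e.symm)⟩), Set.ncard_pair (fun e =>
      invol_ne_one h.hc (mul_eq_left.1 e.symm))]

theorem TwoClass.four_le (h : TwoClass x c o) : h.four ≤ pairCent c o := by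
  obtain ⟨hcc, hoo, hoc⟩ := h.mul_self_c
  intro g hg
  rw [mem_pairCent]
  rcases h.mem_four.1 hg with rfl | rfl | rfl | rfl
  · exact ⟨Commute.one_left c, Commute.one_left o⟩
  · exact ⟨Commute.refl _, hoc.symm⟩
  · exact ⟨hoc, Commute.refl _⟩
  · exact ⟨hoc.mul_left (Commute.refl c), (Commute.refl o).mul_left hoc.symm⟩

theorem TwoClass.four_normal (h : TwoClass x c o) : (h.four).Normal := by
  refine ⟨fun d hd g => ?_⟩
  have key : ∀ u, IsConj c u → g * u * g⁻¹ ∈ h.four := fun u hu =>
    Or.inr (h.class_eq.1 (hu.trans (isConj_iff.2 ⟨g, rfl⟩)))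
  rcases h.mem_four.1 hd with rfl | rfl | rfl | rfl
  · simpa using h.four.one_mem
  · exact key _ (IsConj.refl _)
  · exact key _ h.conjO
  · exact key _ (h.class_eq.2 (Or.inr (Or.inr rfl)))

theorem TwoClass.pairCent_eq (h : TwoClass x c o) : pairCent c o = h.four := by
  haveI : Fact (Nat.Prime 2) := ⟨Nat.prime_two⟩
  haveI := h.pairCent_normal
  haveI := h.four_normal
  have hWp : IsPGroup 2 h.four := IsPGroup.of_card (n := 2) (by rw [h.card_four]; norm_num)
  have hxp : IsPGroup 2 (zpowers x) :=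
    IsPGroup.of_card (n := 1) (by rw [Nat.card_zpowers, h.hx, pow_one])
  obtain ⟨S, hS⟩ := (hxp.to_sup_of_normal_right hWp).exists_le_sylow
  set R := (S : Subgroup Q) ⊓ pairCent c o with hR
  -- the Sylow subgroup of the kernel is the four group
  have hRW : R = h.four := by
    refine le_antisymm ?_ (le_inf (le_sup_right.trans hS) h.four_le)
    by_contra hnle
    set W' := h.four.subgroupOf (S : Subgroup Q) with hW'
    haveI : Group.IsNilpotent ((S : Subgroup Q) ⧸ W') := (S.2.to_quotient W').isNilpotent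
    set N := (R.subgroupOf (S : Subgroup Q)).map (QuotientGroup.mk' W') with hN
    haveI : (R.subgroupOf (S : Subgroup Q)).Normal := by
      rw [hR, inf_subgroupOf_left]; infer_instance
    haveI : N.Normal := Normal.map inferInstance _ (QuotientGroup.mk'_surjective _)
    have hN1 : N ≠ ⊥ := fun e => hnle fun d hd => by
      rw [hN, Subgroup.map_eq_bot_iff, QuotientGroup.ker_mk'] at e
      exact mem_subgroupOf.1 (e (show (⟨d, hd.1⟩ : (S : Subgroup Q)) ∈ R.subgroupOf S from hd))
    obtain ⟨q, hq, hq1⟩ := (bot_or_exists_ne_one _).resolve_left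
      (CfsgLib.Coprime.nilpotent_inf_center_ne_bot N hN1)
    obtain ⟨⟨⟨d, hdS⟩, hdR, hdq⟩, hqc⟩ := hq
    have hxS : x ∈ (S : Subgroup Q) := hS (mem_sup_left (mem_zpowers x))
    have hcomm := mem_center_iff.1 hqc (QuotientGroup.mk' W' ⟨x, hxS⟩)
    rw [← hdq, ← map_mul, ← map_mul, QuotientGroup.mk'_eq_mk'] at hcomm
    obtain ⟨⟨w, hwS⟩, hwW, hw⟩ := hcomm
    have hw' : x * d * w = d * x := congrArg Subtype.val hw
    have hxx : x * x = 1 := invol_mul_self h.hx
    have hwW' : w ∈ h.four := hwW
    have hw2 : x * w * x ∈ h.four := by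
      have := h.four_normal.conj_mem _ hwW' x
      rwa [inv_eq_of_mul_eq_one_right hxx] at this
    have hdw : x * d * x = d * (x * w * x)⁻¹ := by
      rw [eq_mul_inv_iff_mul_eq,
        show x * d * x * (x * w * x) = x * d * (x * x) * w * x by simp only [mul_assoc], hxx, mul_one,
        hw', mul_assoc, hxx, mul_one]
    have hd4 := h.mem_four_of_comm hdR.2 (h.mem_four.1 (inv_mem hw2)) hdw
    refine hq1 ?_
    rw [← hdq]
    exact (QuotientGroup.eq_one_iff _).2 (mem_subgroupOf.2 (h.mem_four.2 hd4))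
  -- the normal complement is trivial
  set D := pairCent c o with hD
  have hnd := CfsgLib.Fusion.not_dvd_relIndex_inf_of_normal S D
  rw [← hR, hRW] at hnd
  let P : Sylow 2 D := (hWp.of_equiv (subgroupOfEquivOfLe h.four_le).symm).toSylow hnd
  have hP : (P : Subgroup D) = h.four.subgroupOf D := rfl
  have hPc : normalizer ((P : Subgroup D) : Set D) ≤ centralizer ((P : Subgroup D) : Set D) := by
    intro g _
    refine mem_centralizer_iff.2 fun p hp => ?_
    rw [hP] at hp
    obtain ⟨hgc, hgo⟩ := mem_pairCent.1 g.2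
    refine Subtype.ext ?_
    show (p : Q) * g = g * p
    rcases h.mem_four.1 (mem_subgroupOf.1 hp) with e | e | e | e <;> rw [e]
    exacts [(Commute.one_left _).eq, hgc.symm.eq, hgo.symm.eq, (hgo.mul_right hgc).symm.eq]
  have hcompl := MonoidHom.ker_transferSylow_isComplement' P hPc
  have hodd := MonoidHom.not_dvd_card_ker_transferSylow P hPc
  set K := (MonoidHom.transferSylow P hPc).ker with hK
  haveI : Cfsg.pPrimeCore 2 D |>.Characteristic := CfsgLib.Coprime.pPrimeCore_characteristic 2
  have hKb : K = ⊥ := by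
    have h1 : K ≤ Cfsg.pPrimeCore 2 D := CfsgLib.Coprime.le_pPrimeCore_of_not_dvd Nat.prime_two hodd
    have h2 : (Cfsg.pPrimeCore 2 D).map D.subtype = ⊥ := by
      refine h.core _ inferInstance ?_
      rw [← Nat.card_congr ((Cfsg.pPrimeCore 2 D).equivMapOfInjective _ D.subtype_injective).toEquiv]
      exact CfsgLib.Coprime.pPrimeCore_not_dvd Nat.prime_two
    rw [(map_eq_bot_iff_of_injective _ D.subtype_injective).1 h2] at h1
    exact le_bot_iff.1 h1
  refine (eq_of_le_of_card_ge h.four_le ?_).symm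
  have hc := hcompl.card_mul_card
  rw [hKb, card_bot, one_mul, hP, Nat.card_congr (subgroupOfEquivOfLe h.four_le).toEquiv] at hc
  rw [hc]

/-- A two-class group has order 24. -/
theorem TwoClass.card_eq (h : TwoClass x c o) : Nat.card Q = 24 := by
  classical
  obtain ⟨hcc, hoo, hoc⟩ := h.mul_self_c
  set C := centralizer ({c} : Set Q) with hC
  have hle : h.four ≤ C := fun g hg => mem_centralizer_singleton_iff.2 (mem_pairCent.1 (h.four_le hg)).1.eq
  have hxC : x ∈ C := mem_centralizer_singleton_iff.2 h.hcx.symm.eq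
  have hx4 : x ∉ h.four := fun hx => h.x_commute (mem_pairCent.1 (h.four_le hx)).2
  have hperm : ∀ e ∈ C, e ∉ h.four → e * o * e⁻¹ = o * c := by
    intro e he hne
    have hec : Commute e c := mem_centralizer_singleton_iff.1 he
    rcases h.class_eq.1 (h.conjO.trans (isConj_iff.2 ⟨e, rfl⟩) : IsConj c (e * o * e⁻¹)) with e' | e' | e'
    · exfalso
      have : o = c := by
        calc o = e⁻¹ * (e * o * e⁻¹) * e := by group
          _ = c := by rw [e', mul_assoc, ← hec.eq, inv_mul_cancel_left]
      exact h.hoc this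
    · exfalso
      exact hne (h.pairCent_eq ▸ mem_pairCent.2 ⟨hec, mul_inv_eq_iff_eq_mul.1 e'⟩)
    · exact e'
  have hC8 : Nat.card C = 8 := by
    refine le_antisymm ?_ ?_
    · have := CfsgLib.Char.SuborbitThree.card_le_two_mul_of_prod hle fun e he e' he' hne hne' => by
        rw [← h.pairCent_eq, mem_pairCent]
        have hec : Commute e c := mem_centralizer_singleton_iff.1 he
        refine ⟨hec.mul_left (mem_centralizer_singleton_iff.1 he'), mul_inv_eq_iff_eq_mul.1 ?_⟩
        calc e * e' * o * (e * e')⁻¹ = e * (e' * o * e'⁻¹) * e⁻¹ := by group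
          _ = (e * o * e⁻¹) * (e * c * e⁻¹) := by rw [hperm e' he' hne']; group
          _ = o := by rw [hperm e he hne, hec.eq, mul_inv_cancel_right, mul_assoc, hcc, mul_one]
      rw [h.card_four] at this
      omega
    · have hlt : h.four < C := lt_of_le_of_ne hle fun e => hx4 (e ▸ hxC)
      have hd := card_dvd_of_le hle
      obtain ⟨m, hm⟩ := hd
      have hne : Nat.card h.four ≠ Nat.card C := fun e => hlt.ne (eq_of_le_of_card_ge hle e.ge)
      have hpos : 0 < Nat.card C := Nat.card_pos
      rw [h.card_four] at hm hne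
      rcases m with _ | _ | m <;> omega
  have hst8 : Nat.card (MulAction.stabilizer (ConjAct Q) c) = 8 := by
    rw [← hC8]
    refine Nat.card_congr (Equiv.subtypeEquiv ConjAct.ofConjAct.toEquiv fun g => ?_)
    rw [MulAction.mem_stabilizer_iff, ConjAct.smul_def, mul_inv_eq_iff_eq_mul, hC]
    exact mem_centralizer_singleton_iff.symm
  have hidx : (MulAction.stabilizer (ConjAct Q) c).index = 3 := by
    have horb : MulAction.orbit (ConjAct Q) c = {c, o, o * c} := by
      ext u
      rw [ConjAct.mem_orbit_conjAct, Set.mem_insert_iff, Set.mem_insert_iff, Set.mem_singleton_iff,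
        ← h.class_eq, isConj_comm]
    have h1 := MulAction.index_stabilizer (ConjAct Q) c
    rw [horb] at h1
    rw [h1, Set.ncard_insert_of_notMem (by
      simp only [Set.mem_insert_iff, Set.mem_singleton_iff, not_or]
      exact ⟨h.hoc.symm, fun e => by
        have := mul_eq_right.1 e.symm
        have ho := h.conjO
        rw [this, isConj_one_left] at ho
        exact invol_ne_one h.hc ho⟩), Set.ncard_pair (fun e => invol_ne_one h.hc (mul_eq_left.1 e.symm))]
  have h2 := (MulAction.stabilizer (ConjAct Q) c).card_mul_index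
  rw [hst8, hidx] at h2
  exact h2.symm

/-- No involution centralizes an element of order three. -/
theorem TwoClass.no_comm_three (h : TwoClass x c o) {w d : Q} (hw : orderOf w = 3)
    (hd : d * d = 1) (hc : Commute d w) : d = 1 := by
  classical
  haveI := h.four_normal
  obtain ⟨hcc, hoo, hoc⟩ := h.mul_self_c
  have hw3 : w * w * w = 1 := by
    have := pow_orderOf_eq_one w
    rwa [hw, pow_succ, pow_two] at this
  have hw4 : w ∉ h.four := fun hm => by
    have := Subgroup.orderOf_dvd_natCard _ hm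
    rw [hw, h.card_four] at this
    norm_num at this
  -- `w` fixes no conjugate of `c`
  have hfree : ∀ u, IsConj c u → w * u * w⁻¹ ≠ u := by
    intro u hu e
    have hwu : Commute w u := mul_inv_eq_iff_eq_mul.1 e
    refine hw4 (h.pairCent_eq ▸ mem_pairCent.2 ?_)
    have key : ∀ v, IsConj c v → Commute w v := by
      intro v hv
      have h1 : IsConj c (w * v * w⁻¹) := hv.trans (isConj_iff.2 ⟨w, rfl⟩)
      have h2 : IsConj c (w * (w * v * w⁻¹) * w⁻¹) := h1.trans (isConj_iff.2 ⟨w, rfl⟩)
      have hinj : ∀ a b : Q, w * a * w⁻¹ = w * b * w⁻¹ → a = b := fun a b e => by simpa using e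
      have hcyc : w * (w * (w * v * w⁻¹) * w⁻¹) * w⁻¹ = v := by
        rw [show w * (w * (w * v * w⁻¹) * w⁻¹) * w⁻¹ = w * w * w * v * (w * w * w)⁻¹ by group, hw3]
        group
      by_contra hne
      have hne' : w * v * w⁻¹ ≠ v := fun e' => hne (mul_inv_eq_iff_eq_mul.1 e')
      have hne2 : w * (w * v * w⁻¹) * w⁻¹ ≠ w * v * w⁻¹ := fun e' => hne' (hinj _ _ e')
      have hne3 : w * (w * v * w⁻¹) * w⁻¹ ≠ v := fun e' => hne' ((congrArg (fun a => w * a * w⁻¹) e').symm.trans hcyc)
      have hvu : v ≠ u := fun e' => hne (e' ▸ hwu)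
      have hwvu : w * v * w⁻¹ ≠ u := fun e' => hvu (hinj _ _ (e'.trans e.symm))
      have hwwvu : w * (w * v * w⁻¹) * w⁻¹ ≠ u := fun e' => hwvu (hinj _ _ (e'.trans e.symm))
      have hsub : ({u, v, w * v * w⁻¹, w * (w * v * w⁻¹) * w⁻¹} : Finset Q) ⊆ {c, o, o * c} := by
        intro t ht
        simp only [Finset.mem_insert, Finset.mem_singleton] at ht ⊢
        rcases ht with rfl | rfl | rfl | rfl
        exacts [h.class_eq.1 hu, h.class_eq.1 hv, h.class_eq.1 h1, h.class_eq.1 h2]
      have := Finset.card_le_card hsub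
      have h3 : ({c, o, o * c} : Finset Q).card ≤ 3 := Finset.card_le_three
      simp [hvu.symm, hwvu.symm, hwwvu.symm, hne'.symm, hne2.symm, hne3.symm] at this
      omega
    exact ⟨key c (IsConj.refl c), key o h.conjO⟩
  have hdd : ∀ a : Q, d * (d * a * d⁻¹) * d⁻¹ = a := fun a => by
    rw [show d * (d * a * d⁻¹) * d⁻¹ = d * d * a * (d * d)⁻¹ by group, hd]
    group
  -- `d` fixes a conjugate of `c`, hence all
  obtain ⟨u, hu, hdu⟩ : ∃ u, IsConj c u ∧ d * u * d⁻¹ = u := by
    by_contra! hall
    have hc1 := h.class_eq.1 ((isConj_iff.2 ⟨d, rfl⟩) : IsConj c (d * c * d⁻¹))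
    have ho1 := h.class_eq.1 (h.conjO.trans (isConj_iff.2 ⟨d, rfl⟩) : IsConj c (d * o * d⁻¹))
    have hoc' : IsConj c (o * c) := h.class_eq.2 (Or.inr (Or.inr rfl))
    rcases hc1 with e | e | e
    · exact hall c (IsConj.refl c) e
    · refine hall _ hoc' ?_
      have e2 : d * o * d⁻¹ = c := by rw [← e, hdd]
      calc d * (o * c) * d⁻¹ = d * o * d⁻¹ * (d * c * d⁻¹) := by group
        _ = o * c := by rw [e2, e]; exact hoc.symm.eq
    · rcases ho1 with e' | e' | e'
      · have : d * c * d⁻¹ = o := by rw [← e', hdd]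
        rw [e] at this
        exact invol_ne_one h.hc (mul_eq_left.1 this)
      · exact hall o h.conjO e'
      · exact h.hoc.symm ((MulAut.conj d).injective (by
          rw [MulAut.conj_apply, MulAut.conj_apply, e, e']))
  have hall : ∀ v, IsConj c v → Commute d v := by
    have hdu' : Commute d u := mul_inv_eq_iff_eq_mul.1 hdu
    have hd1 : Commute d (w * u * w⁻¹) := (hc.mul_right hdu').mul_right hc.inv_right
    have hd2 : Commute d (w * (w * u * w⁻¹) * w⁻¹) := (hc.mul_right hd1).mul_right hc.inv_right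
    intro v hv
    have h1 : IsConj c (w * u * w⁻¹) := hu.trans (isConj_iff.2 ⟨w, rfl⟩)
    have h2 : IsConj c (w * (w * u * w⁻¹) * w⁻¹) := h1.trans (isConj_iff.2 ⟨w, rfl⟩)
    have n1 := hfree u hu
    have n2 := hfree _ h1
    have hcyc : w * (w * (w * u * w⁻¹) * w⁻¹) * w⁻¹ = u := by
      rw [show w * (w * (w * u * w⁻¹) * w⁻¹) * w⁻¹ = w * w * w * u * (w * w * w)⁻¹ by group, hw3]
      group
    have n3 : w * (w * u * w⁻¹) * w⁻¹ ≠ u := fun e => hfree _ h2 (by rw [hcyc, e])
    have hsub : ({u, w * u * w⁻¹, w * (w * u * w⁻¹) * w⁻¹} : Finset Q) ⊆ {c, o, o * c} := by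
      intro t ht
      simp only [Finset.mem_insert, Finset.mem_singleton] at ht ⊢
      rcases ht with rfl | rfl | rfl
      exacts [h.class_eq.1 hu, h.class_eq.1 h1, h.class_eq.1 h2]
    have h3 : ({c, o, o * c} : Finset Q).card ≤ 3 := Finset.card_le_three
    have heq := Finset.eq_of_subset_of_card_le hsub (h3.trans (by
      simp [n1.symm, n2.symm, n3.symm]))
    have hv' : v ∈ ({u, w * u * w⁻¹, w * (w * u * w⁻¹) * w⁻¹} : Finset Q) := by
      rw [heq]; simpa using h.class_eq.1 hv
    simp only [Finset.mem_insert, Finset.mem_singleton] at hv'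
    rcases hv' with rfl | rfl | rfl
    exacts [hdu', hd1, hd2]
  have hd4 : d ∈ h.four := h.pairCent_eq ▸ mem_pairCent.2 ⟨hall c (IsConj.refl c), hall o h.conjO⟩
  rcases h.mem_four.1 hd4 with rfl | rfl | rfl | rfl
  · rfl
  · exact absurd (mul_inv_eq_iff_eq_mul.2 hc.symm.eq) (hfree _ (IsConj.refl _))
  · exact absurd (mul_inv_eq_iff_eq_mul.2 hc.symm.eq) (hfree _ h.conjO)
  · exact absurd (mul_inv_eq_iff_eq_mul.2 hc.symm.eq) (hfree _ (h.class_eq.2 (Or.inr (Or.inr rfl))))

end CfsgLib.Recog.SubThree
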