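import Cfsg.Agent.Lib.Recog.SubThree.Basic
import Cfsg.Agent.Lib.Char.SelfCentThree.Main
import Cfsg.Agent.Lib.Perm.Dickson.KleinCount

/-!
# A soluble maximal subgroup normalizing a self-centralizing subgroup of order 3
-/

set_option autoImplicit false

namespace CfsgLib.Recog.SubThree

open Subgroup CfsgLib.Char.SelfCentThree

universe u

/-- A subgroup `K ≅ S4` contains the normalizer of each self-centralizing subgroup of order 3,
if these normalizers have order at most 6. -/
theorem not_coatom_of_s4 {G : Type u} [Group G] [Finite G] {H X K : Subgroup G} (hX : Nat.card X = 3)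
    (hC : centralizer (X : Set G) = X) (hN : normalizer (X : Set G) = H) (hH : Nat.card H ≤ 6)
    (hco : IsCoatom H) (hKne : K ≠ ⊤) (e : K ≃* Equiv.Perm (Fin 4)) : False := by
  classical
  haveI : Fact (Nat.Prime 3) := ⟨Nat.prime_three⟩
  obtain ⟨h3, x, hx⟩ := cent3_of_centralizer X hX hC
  set c : Equiv.Perm (Fin 4) := Equiv.swap 0 1 * Equiv.swap 1 2 with hc
  set w : Equiv.Perm (Fin 4) := Equiv.swap 0 1 with hw
  have hc3 : orderOf c = 3 := orderOf_eq_prime (by decide +kernel) (by decide +kernel)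
  have hw2 : orderOf w = 2 := orderOf_eq_prime (by decide +kernel) (by decide +kernel)
  set x' : G := (e.symm c : G) with hx'
  set s : G := (e.symm w : G) with hs
  have hx3 : orderOf x' = 3 := by rw [hx', orderOf_coe, MulEquiv.orderOf_eq, hc3]
  have hs2 : orderOf s = 2 := by rw [hs, orderOf_coe, MulEquiv.orderOf_eq, hw2]
  have hrel : s * x' * s⁻¹ = x'⁻¹ := by
    have h0 : w * c * w⁻¹ = c⁻¹ := by decide +kernel
    have := congrArg (fun p => ((e.symm p : K) : G)) h0
    simpa [hx', hs] using this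
  set X' := zpowers x' with hX'
  set N' := normalizer (X' : Set G) with hN'
  have hsN : s ∈ N' := by
    rw [hN', ← zpowers_le]
    refine (zpowers_le.2 ?_)
    rw [mem_normalizer_iff_conj_image_eq]
    have : (zpowers x').map (MulAut.conj s).toMonoidHom = zpowers x' := by
      rw [MonoidHom.map_zpowers]
      show zpowers (s * x' * s⁻¹) = _
      rw [hrel, zpowers_inv]
    exact congrArg SetLike.coe this
  have hK6 : 6 ∣ Nat.card (K ⊓ N' : Subgroup G) := by
    have hxm : x' ∈ K ⊓ N' := ⟨(e.symm c).2, le_normalizer (mem_zpowers x')⟩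
    have hsm : s ∈ K ⊓ N' := ⟨(e.symm w).2, hsN⟩
    have a3 : 3 ∣ Nat.card (K ⊓ N' : Subgroup G) :=
      hx3 ▸ Subgroup.orderOf_dvd_natCard _ hxm
    have a2 : 2 ∣ Nat.card (K ⊓ N' : Subgroup G) :=
      hs2 ▸ Subgroup.orderOf_dvd_natCard _ hsm
    exact Nat.Coprime.mul_dvd_of_dvd_of_dvd (by norm_num : Nat.Coprime 2 3) a2 a3
  -- all subgroups of order 3 are Sylow
  obtain ⟨P, hP⟩ := (IsPGroup.of_card (p := 3) (n := 1)
    (show Nat.card X' = 3 ^ 1 by rw [hX', Nat.card_zpowers, hx3, pow_one])).exists_le_sylow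
  obtain ⟨Q, hQ⟩ := (IsPGroup.of_card (p := 3) (n := 1)
    (show Nat.card X = 3 ^ 1 by rw [hX, pow_one])).exists_le_sylow
  have ePX : X' = (P : Subgroup G) := eq_of_le_of_card_ge hP (by
    rw [h3.not_nine_dvd hx P, hX', Nat.card_zpowers, hx3])
  have eQX : X = (Q : Subgroup G) := eq_of_le_of_card_ge hQ (by
    rw [h3.not_nine_dvd hx Q, hX])
  obtain ⟨g, hg⟩ := MulAction.exists_smul_eq G P Q
  have hcj : X'.map (MulAut.conj g).toMonoidHom = X := by
    rw [ePX, eQX, ← hg]
    rfl
  have hNmap : N'.map (MulAut.conj g).toMonoidHom = H := by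
    rw [hN', Subgroup.map_equiv_normalizer_eq, hcj, hN]
  have hcN : Nat.card N' = Nat.card H := by
    rw [← hNmap]
    exact Nat.card_congr (N'.equivMapOfInjective _ (MulAut.conj g).injective).toEquiv
  have heq : K ⊓ N' = N' := eq_of_le_of_card_ge inf_le_right (by
    have := Nat.le_of_dvd Nat.card_pos hK6
    omega)
  have hle : H ≤ K.map (MulAut.conj g).toMonoidHom := hNmap ▸ map_mono (heq ▸ inf_le_left)
  have hcK : Nat.card (K.map (MulAut.conj g).toMonoidHom) = 24 := by
    rw [← Nat.card_congr (K.equivMapOfInjective _ (MulAut.conj g).injective).toEquiv,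
      Nat.card_congr e.toEquiv, Nat.card_perm, Nat.card_fin]
    rfl
  rcases eq_or_lt_of_le hle with h | h
  · rw [← h] at hcK
    omega
  · refine hKne (eq_top_iff.2 fun y _ => ?_)
    have hy : g * y * g⁻¹ ∈ K.map (MulAut.conj g).toMonoidHom := (hco.2 _ h).symm ▸ mem_top _
    obtain ⟨k, hk, hke⟩ := hy
    rwa [← (MulAut.conj g).injective hke]

/-- The case of a stabilizer of order 3 or 6. -/
theorem Prim.small {G : Type u} [Group G] [Finite G] {H : Subgroup G} (h : Prim H) {X : Subgroup G}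
    (hX : Nat.card X = 3) (hXH : X ≤ H) (hn : H ≤ normalizer (X : Set G))
    (hc : ∀ a ∈ H, a ∈ centralizer (X : Set G) → a ∈ X) (hH : Nat.card H ≤ 6) :
    Nonempty (G ≃* alternatingGroup (Fin 5)) := by
  classical
  have hX1 : X ≠ ⊥ := fun e => by rw [e, card_bot] at hX; omega
  have hN := h.normalizer_eq hXH hX1 hn
  have hC : centralizer (X : Set G) = X := by
    refine le_antisymm (fun a ha => hc a (hN ▸ centralizer_le_normalizer _ ha) ha) ?_
    intro a ha
    refine mem_centralizer_iff.2 fun b hb => ?_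
    haveI : Fact (Nat.Prime 3) := ⟨Nat.prime_three⟩
    haveI : IsCyclic X := isCyclic_of_prime_card hX
    letI := IsCyclic.commGroup (α := X)
    exact congrArg Subtype.val (mul_comm (⟨b, hb⟩ : X) ⟨a, ha⟩)
  rcases classify X hX hC with ⟨N, hNn, hnil, -, hq⟩ | ⟨N, hNn, hcomm, -, ⟨e⟩⟩ | ⟨⟨e⟩⟩
  · exfalso
    refine h.nsol ?_
    haveI : Group.IsSolvable (G ⧸ N) := by
      refine CfsgLib.Invol.AltEightSubgroups.solvable_of_card_lt_sixty _ rfl ?_
      rcases hq with h3 | ⟨⟨e⟩⟩
      · omega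
      · rw [Nat.card_congr e.toEquiv, Nat.card_perm, Nat.card_fin]
        decide
    haveI : Group.IsSolvable N := inferInstance
    refine Group.isSolvable_of_ker_le_range N.subtype (QuotientGroup.mk' N) ?_
    rw [QuotientGroup.ker_mk', range_subtype]
  · have hbot : N = ⊥ := h.eq_bot_of_comm hNn fun a ha b hb =>
      congrArg Subtype.val (hcomm.is_comm.comm (⟨a, ha⟩ : N) ⟨b, hb⟩)
    exact ⟨(QuotientGroup.quotientBot.symm.trans (QuotientGroup.quotientMulEquivOfEq hbot.symm)).trans e⟩
  · exfalso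
    have h237 : (2 : ZMod 7) = 3 * 3 := by decide
    haveI : Fact (Nat.Prime 7) := ⟨by norm_num⟩
    obtain ⟨K, ⟨f⟩⟩ := CfsgLib.Perm.Dickson.exists_s4 (F := ZMod 7) ⟨3, h237⟩
      (by rw [Nat.card_zmod]; decide)
    refine not_coatom_of_s4 hX hC hN hH h.coatom (K := K.map e.symm.toMonoidHom) (fun ht => ?_)
      ((K.equivMapOfInjective _ e.symm.injective).symm.trans f)
    refine h.nsol (CfsgLib.Invol.AltEightSubgroups.solvable_of_card_lt_sixty _ rfl ?_)
    rw [← Subgroup.card_top (G := G), ← ht,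
      ← Nat.card_congr (K.equivMapOfInjective _ e.symm.injective).toEquiv, Nat.card_congr f.toEquiv,
      Nat.card_perm, Nat.card_fin]
    decide

end CfsgLib.Recog.SubThree
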