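import Cfsg.Agent.Lib.Recog.SubThree.Basic
import Cfsg.Agent.Lib.Recog.SubThree.PSLAut
import Cfsg.Agent.Lib.GW.XFacts
import Cfsg.Agent.Lib.GW.AltSevenCent
import Cfsg.Agent.Lib.Invol.QDTransfer
import Cfsg.Agent.Lib.Invol.CyclicSylowConj
import Cfsg.Agent.Lib.Perm.Groups.AltAut
import Cfsg.Agent.Lib.Classical.ProjLine
import Cfsg.Agent.S3224
import Cfsg.Agent.S1213

/-!
# A maximal subgroup that is dihedral of order twelve
-/

set_option autoImplicit false
set_option linter.unusedSectionVars false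

namespace CfsgLib.Recog.SubThree

open Subgroup CfsgLib.GW

universe u

theorem d6_facts :
    (∀ x : DihedralGroup 6, x * DihedralGroup.r 3 = DihedralGroup.r 3 * x) ∧
    (∀ x : DihedralGroup 6, x ^ 4 = 1 → x ^ 2 = 1) ∧
    (DihedralGroup.r 3 : DihedralGroup 6) ≠ 1 ∧
    (DihedralGroup.r 3 : DihedralGroup 6) ^ 2 = 1 := by decide +kernel

/-- Each involution of the symmetric group on seven letters commutes with a 4-cycle type element. -/
theorem perm7_commuting (u : Equiv.Perm (Fin 7)) (hu : orderOf u = 2) :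
    ∃ y : Equiv.Perm (Fin 7), Commute y u ∧ orderOf y = 4 := by
  classical
  haveI : Fact (Nat.Prime 2) := ⟨Nat.prime_two⟩
  obtain ⟨n, hn⟩ := Equiv.Perm.cycleType_prime_order (σ := u) (by rw [hu]; exact Nat.prime_two)
  rw [hu] at hn
  have hle := Equiv.Perm.sum_cycleType u
  rw [hn, Multiset.sum_replicate, smul_eq_mul] at hle
  have h7 := u.support.card_le_univ
  rw [Fintype.card_fin] at h7
  have key : ∃ r : Equiv.Perm (Fin 7), r.cycleType = u.cycleType ∧
      ∃ y : Equiv.Perm (Fin 7), y * r = r * y ∧ y ^ 2 ≠ 1 ∧ y ^ 4 = 1 := by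
    rw [hn]
    have hn2 : n ≤ 2 := by omega
    interval_cases n
    · exact ⟨Equiv.swap 0 1, by decide +kernel,
        Equiv.swap 2 3 * Equiv.swap 3 4 * Equiv.swap 4 5, by decide +kernel, by decide +kernel, by decide +kernel⟩
    · exact ⟨Equiv.swap 0 1 * Equiv.swap 2 3, by decide +kernel,
        Equiv.swap 0 2 * Equiv.swap 2 1 * Equiv.swap 1 3, by decide +kernel, by decide +kernel, by decide +kernel⟩
    · exact ⟨Equiv.swap 0 1 * Equiv.swap 2 3 * Equiv.swap 4 5, by decide +kernel,
        Equiv.swap 0 2 * Equiv.swap 2 1 * Equiv.swap 1 3, by decide +kernel, by decide +kernel, by decide +kernel⟩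
  obtain ⟨r, hr, y, hy, hy2, hy4⟩ := key
  obtain ⟨c, rfl⟩ := isConj_iff.1 (Equiv.Perm.isConj_iff_cycleType_eq.2 hr)
  refine ⟨c * y * c⁻¹, ?_, ?_⟩
  · show c * y * c⁻¹ * (c * r * c⁻¹) = c * r * c⁻¹ * (c * y * c⁻¹)
    calc c * y * c⁻¹ * (c * r * c⁻¹) = c * (y * r) * c⁻¹ := by group
      _ = _ := by rw [hy]; group
  · rw [show c * y * c⁻¹ = MulAut.conj c y from rfl, MulEquiv.orderOf_eq]
    exact orderOf_eq_prime_pow (p := 2) (n := 1) (by simpa using hy2) (by simpa using hy4)

/-- The involution of a quaternion group. -/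
theorem quaternion_invol {n : ℕ} [NeZero n] (q : QuaternionGroup n) (hq : q ^ 2 = 1) (hq1 : q ≠ 1) :
    q = QuaternionGroup.a (n : ZMod (2 * n)) := by
  haveI : NeZero (2 * n) := ⟨by have := NeZero.ne n; omega⟩
  rcases q with i | i
  · rw [pow_two, QuaternionGroup.a_mul_a, ← QuaternionGroup.a_zero, QuaternionGroup.a.injEq] at hq
    have hv : ((i.val + i.val : ℕ) : ZMod (2 * n)) = 0 := by
      rw [Nat.cast_add, ZMod.natCast_zmod_val, hq]
    obtain ⟨c, hc⟩ := (ZMod.natCast_eq_zero_iff _ _).1 hv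
    have hlt := i.val_lt
    have hi0 : i.val ≠ 0 := fun e => hq1 (by rw [(ZMod.val_eq_zero i).1 e]; rfl)
    have hc1 : c = 1 := by
      rcases c with _ | _ | c
      · omega
      · rfl
      · exfalso
        have : 2 * n * 2 ≤ 2 * n * (c + 1 + 1) := Nat.mul_le_mul_left _ (by omega)
        omega
    subst hc1
    rw [show i = ((i.val : ℕ) : ZMod (2 * n)) from (ZMod.natCast_zmod_val i).symm,
      show i.val = n by omega]
  · have h4 := QuaternionGroup.orderOf_xa i
    have h2 := orderOf_dvd_of_pow_eq_one hq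
    rw [h4] at h2
    norm_num at h2

theorem exponent_eq_two {S : Type*} [Group S] [Finite S] (hc : Nat.card S = 4) (h : ∀ x : S, x ^ 2 = 1) :
    Monoid.exponent S = 2 := by
  haveI : Nontrivial S := Finite.one_lt_card_iff_nontrivial.1 (by omega)
  refine (Monoid.exponent_eq_prime_iff Nat.prime_two).2 fun g hg => orderOf_eq_prime (h g) hg

variable {G : Type u} [Group G] [Finite G] {H : Subgroup G}

/-- A central involution of `H ≅ D₁₂` has centralizer `H` of order 12 without elements of order four. -/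
theorem Prim.twelve_center (h : Prim H) (e : H ≃* DihedralGroup 6) :
    ∃ z : G, orderOf z = 2 ∧ z ∈ H ∧ centralizer ({z} : Set G) = H ∧ Nat.card H = 12 ∧
      ∀ y : G, Commute y z → orderOf y ≠ 4 := by
  obtain ⟨hc, h4, hne, hsq⟩ := d6_facts
  set z : G := ((e.symm (DihedralGroup.r 3) : H) : G) with hz
  have hz2 : orderOf z = 2 := by
    rw [hz, orderOf_coe, MulEquiv.orderOf_eq]
    exact orderOf_eq_prime hsq hne
  have hzH : z ∈ H := (e.symm _).2
  have hz1 : z ≠ 1 := fun e' => by rw [e', orderOf_one] at hz2; omega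
  have hC : centralizer ({z} : Set G) = H := by
    refine h.centralizer_eq hzH hz1 fun a ha => ?_
    have := congrArg (fun p => ((e.symm p : H) : G)) (hc (e ⟨a, ha⟩))
    simpa [hz] using this
  refine ⟨z, hz2, hzH, hC, by rw [Nat.card_congr e.toEquiv, DihedralGroup.nat_card], fun y hy ho => ?_⟩
  have hyH : y ∈ H := hC ▸ mem_centralizer_singleton_iff.2 hy.eq
  have ho' : orderOf (e ⟨y, hyH⟩) = 4 := by rw [MulEquiv.orderOf_eq, orderOf_mk, ho]
  have h1 := h4 _ (ho' ▸ pow_orderOf_eq_one _)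
  have := orderOf_dvd_of_pow_eq_one h1
  rw [ho'] at this
  norm_num at this

/-- The socle in the dihedral case of order twelve. -/
theorem Prim.twelve_socle (h : Prim H) {z : G} (hz : orderOf z = 2) (hzH : z ∈ H)
    (hC : centralizer ({z} : Set G) = H) (hH : Nat.card H = 12)
    (h4 : ∀ y : G, Commute y z → orderOf y ≠ 4) :
    ∃ M : Subgroup G, M.Normal ∧ M ≠ ⊥ ∧ IsSimpleGroup M ∧ IsPSLTwoOrA7 M ∧
      centralizer (M : Set G) = ⊥ := by
  classical
  haveI : Fact (Nat.Prime 2) := ⟨Nat.prime_two⟩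
  -- a Sylow subgroup of `G` meeting `H` in a Sylow subgroup of `H`
  obtain ⟨T⟩ : Nonempty (Sylow 2 H) := inferInstance
  have hT4 : Nat.card (T : Subgroup H) = 4 := by
    rw [Sylow.card_eq_multiplicity, hH, show (12 : ℕ) = 2 ^ 2 * 3 by norm_num,
      Nat.factorization_mul (by norm_num) (by norm_num), Finsupp.add_apply,
      Nat.Prime.factorization_pow Nat.prime_two, Finsupp.single_eq_same,
      Nat.factorization_eq_zero_of_not_dvd (by norm_num : ¬ 2 ∣ 3)]
    norm_num
  set T' := (T : Subgroup H).map H.subtype with hT'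
  have hT'c : Nat.card T' = 4 := by
    rw [hT', ← Nat.card_congr ((T : Subgroup H).equivMapOfInjective _ H.subtype_injective).toEquiv, hT4]
  have hT'H : T' ≤ H := map_subtype_le _
  have hT'p : IsPGroup 2 T' := IsPGroup.of_card (n := 2) (by rw [hT'c]; norm_num)
  obtain ⟨S, hS⟩ := hT'p.exists_le_sylow
  have hinf : (S : Subgroup G) ⊓ H = T' := by
    refine (eq_of_le_of_card_ge (le_inf hS hT'H) ?_).symm
    obtain ⟨m, hm⟩ := IsPGroup.iff_card.1 (S.2.to_le (inf_le_left : (S : Subgroup G) ⊓ H ≤ S))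
    have hd : 2 ^ m ∣ 2 ^ 2 * 3 := by
      rw [← hm, show 2 ^ 2 * 3 = Nat.card H by rw [hH]; norm_num]
      exact card_dvd_of_le inf_le_right
    have h2 : 2 ^ m ∣ 2 ^ 2 := (Nat.Coprime.pow_left m (by norm_num : Nat.Coprime 2 3)).dvd_of_dvd_mul_right hd
    rw [hT'c, hm]
    exact Nat.le_of_dvd (by norm_num) h2
  have hzT : z ∈ T' := by
    have hzc : ∀ a ∈ H, Commute a z := fun a ha =>
      mem_centralizer_singleton_iff.1 (hC.symm ▸ ha)
    have hn : zpowers (⟨z, hzH⟩ : H) ≤ normalizer ((T : Subgroup H) : Set H) := by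
      refine zpowers_le.2 (mem_normalizer_iff.2 fun a => ?_)
      rw [show (⟨z, hzH⟩ : H) * a * (⟨z, hzH⟩ : H)⁻¹ = a from Subtype.ext (by
        show z * a * z⁻¹ = a
        rw [← (hzc a a.2).eq, mul_inv_cancel_right])]
    have hp : IsPGroup 2 (zpowers (⟨z, hzH⟩ : H)) :=
      IsPGroup.of_card (n := 1) (by rw [Nat.card_zpowers, orderOf_mk, hz, pow_one])
    have := T.3 (hp.to_sup_of_normal_right' T.2 hn) le_sup_right
    refine ⟨⟨z, hzH⟩, ?_, rfl⟩
    have hle : zpowers (⟨z, hzH⟩ : H) ≤ (T : Subgroup H) := le_of_le_of_eq le_sup_left this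
    exact hle (mem_zpowers _)
  have hzS : z ∈ (S : Subgroup G) := hS hzT
  have hCS : Nat.card (centralizer ({(⟨z, hzS⟩ : (S : Subgroup G))} : Set (S : Subgroup G))) = 4 := by
    rw [show centralizer ({(⟨z, hzS⟩ : (S : Subgroup G))} : Set (S : Subgroup G)) =
      ((S : Subgroup G) ⊓ H).subgroupOf S from ?_]
    · rw [Nat.card_congr (subgroupOfEquivOfLe inf_le_left).toEquiv, hinf, hT'c]
    · ext x
      rw [mem_centralizer_singleton_iff, mem_subgroupOf, ← hC, mem_inf,
        mem_centralizer_singleton_iff, Subtype.ext_iff]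
      simp [x.2]
  have hz' : orderOf (⟨z, hzS⟩ : (S : Subgroup G)) = 2 := by rw [orderOf_mk, hz]
  have hdih : DihTwo G → ∃ M : Subgroup G, M.Normal ∧ M ≠ ⊥ ∧ IsSimpleGroup M ∧ IsPSLTwoOrA7 M ∧
      centralizer (M : Set G) = ⊥ := fun hd => by
    have hne : (⊤ : Subgroup G) ≠ ⊥ := fun e => by
      have : z ∈ (⊥ : Subgroup G) := e ▸ mem_top z
      rw [mem_bot] at this
      rw [this, orderOf_one] at hz
      omega
    have hd' : DihTwo (⊤ : Subgroup G) := by
      obtain ⟨n, hn, ⟨f⟩⟩ := hd S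
      obtain ⟨R⟩ : Nonempty (Sylow 2 (⊤ : Subgroup G)) := inferInstance
      let R' : Sylow 2 G := R.mapSurjective (f := (topEquiv : (⊤ : Subgroup G) ≃* G).toMonoidHom)
        (MulEquiv.surjective _)
      refine dihTwo_of_sylow R hn ?_
      have g1 : (R : Subgroup (⊤ : Subgroup G)) ≃* (R' : Subgroup G) :=
        ((R : Subgroup (⊤ : Subgroup G)).equivMapOfInjective _ (MulEquiv.injective _)).trans
          (MulEquiv.subgroupCongr (Sylow.coe_mapSurjective _ R).symm)
      exact g1.trans ((Sylow.equiv R' S).trans f)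
    obtain ⟨M, hM1, -, hM2, hM3, hM4, hM5⟩ := h.dih_socle (K := ⊤) inferInstance hne hd'
    exact ⟨M, hM1, hM2, hM3, hM4, hM5⟩
  rcases Cfsg.Agent.S3224.result S.2 ⟨z, hzS⟩ hz' hCS with ⟨n, ⟨f⟩⟩ | hqd | h4c
  · refine hdih (dihTwo_of_sylow S ?_ f)
    by_contra hn
    have hc : Nat.card (S : Subgroup G) = 2 * n := by
      rw [Nat.card_congr f.toEquiv, DihedralGroup.nat_card]
    have h4' : 4 ≤ Nat.card (S : Subgroup G) := hT'c ▸ card_le_of_le hS
    omega
  · -- quasidihedral
    obtain ⟨k, a, b, hk, hcard, Q⟩ := CfsgLib.Invol.exists_qdFrame hqd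
    set h' : ℤ := 2 ^ (k - 2)
    have hbot : ∀ K : Subgroup G, K.index = 2 → K ≠ ⊥ := fun K hK e => by
      rw [e, index_bot] at hK
      have := h.nsol
      exact this (CfsgLib.Invol.AltEightSubgroups.solvable_of_card_lt_sixty _ hK (by norm_num))
    by_cases h2 : CfsgLib.Invol.FusedTwo a b h' <;> by_cases h4' : CfsgLib.Invol.FusedFour a b h'
    · exfalso
      obtain ⟨R, hR, -⟩ := Cfsg.Agent.S1213.result S (Or.inl hqd) (Q.index_ne_two h2 h4') z hz
      have hd := Subgroup.card_subgroup_dvd_card (R : Subgroup (centralizer ({z} : Set G)))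
      rw [hR, hC, hH, hcard] at hd
      have : 2 ^ (3 + 1) ∣ 12 := (pow_dvd_pow 2 (by omega)).trans hd
      norm_num at this
    · obtain ⟨K, hKn, hK, hP, -⟩ := Q.dihedral_case h2 h4'
      haveI := hKn
      have hd : DihTwo K := fun P => by
        obtain ⟨m, ⟨g⟩⟩ := hP P
        refine ⟨m, ?_, ⟨g⟩⟩
        by_contra hm
        -- otherwise a unique involution
        refine h.false_of_unique_invol hKn (hbot K hK) P ?_
        intro x hx y hy hxo hyo
        have hc : Nat.card (P : Subgroup K) = 2 * m := by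
          rw [Nat.card_congr g.toEquiv, DihedralGroup.nat_card]
        have hpos : 0 < Nat.card (P : Subgroup K) := Nat.card_pos
        have h2' : Nat.card (P : Subgroup K) = 2 := by omega
        obtain ⟨u, hu, huniq⟩ := (Nat.card_eq_two_iff' (1 : (P : Subgroup K))).1 h2'
        have hx1 : (⟨x, hx⟩ : (P : Subgroup K)) ≠ 1 := fun e => by
          rw [Subtype.ext_iff] at e
          simp only [OneMemClass.coe_one] at e
          rw [e, orderOf_one] at hxo
          omega
        have hy1 : (⟨y, hy⟩ : (P : Subgroup K)) ≠ 1 := fun e => by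
          rw [Subtype.ext_iff] at e
          simp only [OneMemClass.coe_one] at e
          rw [e, orderOf_one] at hyo
          omega
        exact congrArg Subtype.val ((huniq _ hx1).trans (huniq _ hy1).symm)
      obtain ⟨M, hM1, -, hM2, hM3, hM4, hM5⟩ := h.dih_socle hKn (hbot K hK) hd
      exact ⟨M, hM1, hM2, hM3, hM4, hM5⟩
    · exfalso
      obtain ⟨K, hKn, hK, hP, -⟩ := Q.quaternion_case h2 h4'
      haveI := hKn
      obtain ⟨P⟩ : Nonempty (Sylow 2 K) := inferInstance
      obtain ⟨m, hm, ⟨g⟩⟩ := hP P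
      refine h.false_of_unique_invol hKn (hbot K hK) P fun x hx y hy hxo hyo => ?_
      have key : ∀ q : QuaternionGroup (2 ^ m), q ^ 2 = 1 → q ≠ 1 →
          q = QuaternionGroup.a ((2 ^ m : ℕ) : ZMod (2 * 2 ^ m)) := fun q hq hq1 =>
        CfsgLib.Recog.SubThree.quaternion_invol q hq hq1
      have hgx : ∀ v : K, ∀ hv : v ∈ (P : Subgroup K), orderOf v = 2 →
          g ⟨v, hv⟩ = QuaternionGroup.a ((2 ^ m : ℕ) : ZMod (2 * 2 ^ m)) := fun v hv hvo => by
        have ho : orderOf (g ⟨v, hv⟩) = 2 := by rw [MulEquiv.orderOf_eq, orderOf_mk, hvo]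
        refine key _ (orderOf_dvd_iff_pow_eq_one.1 (dvd_of_eq ho)) fun e => ?_
        rw [e, orderOf_one] at ho
        omega
      exact congrArg Subtype.val (g.injective ((hgx x hx hxo).trans (hgx y hy hyo).symm))
    · exfalso
      obtain ⟨P, N, hN, hcompl⟩ := Q.nilpotent_case h2 h4'
      haveI := hN
      haveI : Group.IsSolvable N := CfsgLib.FT.isSolvable_of_odd _ (Nat.odd_iff.2 (Nat.two_dvd_ne_zero.1 (by
        rw [← hcompl.index_eq_card]; exact P.not_dvd_index)))
      haveI : Group.IsSolvable (G ⧸ N) := by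
        haveI := P.2.isNilpotent
        exact Group.isSolvable_of_surjective
          (f := (QuotientGroup.mk' N).comp (P : Subgroup G).subtype) fun q => by
          obtain ⟨g, rfl⟩ := QuotientGroup.mk'_surjective N q
          obtain ⟨⟨n, p⟩, hnp, -⟩ := hcompl.existsUnique g
          refine ⟨p, ?_⟩
          rw [← hnp]
          show QuotientGroup.mk' N (p : G) = QuotientGroup.mk' N ((n : G) * p)
          rw [map_mul, show QuotientGroup.mk' N (n : G) = 1 from (QuotientGroup.eq_one_iff _).2 n.2, one_mul]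
      refine h.nsol (Group.isSolvable_of_ker_le_range N.subtype (QuotientGroup.mk' N) ?_)
      rw [QuotientGroup.ker_mk', range_subtype]
  · refine hdih (dihTwo_of_sylow S le_rfl ?_)
    have hST : (S : Subgroup G) = T' := (eq_of_le_of_card_ge hS (by omega)).symm
    haveI : IsKleinFour (S : Subgroup G) :=
      { card_four := h4c
        exponent_two := by
          refine exponent_eq_two h4c fun x => ?_
          by_contra hx
          have hx4 : x ^ (2 ^ (1 + 1)) = 1 := by
            norm_num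
            rw [← h4c]
            exact pow_card_eq_one'
          have ho := orderOf_eq_prime_pow (p := 2) (n := 1) (x := x) (by simpa using hx) hx4
          refine h4 x ?_ (by rw [orderOf_coe, ho]; norm_num)
          have hxH : (x : G) ∈ H := hT'H (hST ▸ x.2)
          exact mem_centralizer_singleton_iff.1 (hC.symm ▸ hxH) }
    exact IsKleinFour.nonempty_mulEquiv.some

end CfsgLib.Recog.SubThree
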