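import Cfsg.Agent.Lib.Recog.SubThree.Twelve
import Cfsg.Agent.Lib.CIT.PslModel

/-!
# The groups with a maximal subgroup that is dihedral of order twelve
-/

set_option autoImplicit false
set_option linter.unusedSectionVars false

namespace CfsgLib.Recog.SubThree

open Subgroup Matrix CfsgLib.GW CfsgLib.AutPSL

universe u

/-- An injective map to a group at most twice as large as a subgroup of index at least two. -/
theorem bijective_of_large {G K : Type*} [Group G] [Group K] [Finite G] [Finite K] (f : G →* K)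
    (hf : Function.Injective f) (M : Subgroup G) (hM : M ≠ ⊤) (hK : Nat.card K ≤ 2 * Nat.card M) :
    Function.Bijective f := by
  refine (Nat.bijective_iff_injective_and_card f).2 ⟨hf, le_antisymm (Nat.card_le_card_of_injective f hf) ?_⟩
  have h2 : 2 ≤ M.index := M.one_lt_index_of_ne_top hM
  rw [← M.card_mul_index]
  calc Nat.card K ≤ 2 * Nat.card M := hK
    _ = Nat.card M * 2 := mul_comm _ _
    _ ≤ Nat.card M * M.index := Nat.mul_le_mul_left _ h2

/-- A proper normal alternating subgroup with trivial centralizer. -/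
theorem equiv_perm_of_alt {G : Type u} [Group G] [Finite G] {n : ℕ} (hn : 4 ≤ n) (h6 : n ≠ 6)
    (M : Subgroup G) [M.Normal] (hMt : M ≠ ⊤) (hC : centralizer (M : Set G) = ⊥)
    (e : M ≃* alternatingGroup (Fin n)) : Nonempty (G ≃* Equiv.Perm (Fin n)) := by
  classical
  haveI : Nontrivial (Fin n) := Fin.nontrivial_iff_two_le.2 (by omega)
  obtain ⟨hi, hs⟩ := CfsgLib.Perm.Groups.AltAut.conjNormal_bijective (Ω := Fin n)
    (by rw [Fintype.card_fin]; exact hn) (by rw [Fintype.card_fin]; exact h6)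
  let c := MulEquiv.ofBijective _ ⟨hi, hs⟩
  let f : G →* Equiv.Perm (Fin n) := c.symm.toMonoidHom.comp (conjVia M e)
  have hf : Function.Injective f := c.symm.injective.comp (conjVia_injective M e hC)
  refine ⟨MulEquiv.ofBijective f (bijective_of_large f hf M hMt ?_)⟩
  rw [Nat.card_congr e.toEquiv, Nat.card_perm, Nat.card_fin, nat_card_alternatingGroup, Nat.card_fin,
    Nat.mul_div_cancel' (Nat.dvd_factorial two_pos (by omega))]

theorem nonsq_mul_seven : ∀ a b : ZMod 7, ¬ IsSquare a → ¬ IsSquare b → IsSquare (a * b) := by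
  unfold IsSquare
  decide

/-- Over the field of seven elements every automorphism is inner-diagonal. -/
theorem equiv_pgl_seven {G : Type u} [Group G] [Finite G] [Fact (Nat.Prime 7)] (M : Subgroup G) [M.Normal]
    (hC : centralizer (M : Set G) = ⊥) (hMt : M ≠ ⊤)
    (e : M ≃* ProjectiveSpecialLinearGroup (Fin 2) (ZMod 7)) :
    Nonempty (G ≃* GL (Fin 2) (ZMod 7) ⧸ center (GL (Fin 2) (ZMod 7))) := by
  classical
  have h2 : (2 : ZMod 7) ≠ 0 := by clear * -; decide +revert
  have hsub : ∀ σ : RingAut (ZMod 7), σ = 1 := fun σ => RingEquiv.ext fun x => by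
    rw [RingAut.one_apply]
    exact congrFun (congrArg DFunLike.coe (Subsingleton.elim σ.toRingHom (RingHom.id (ZMod 7)))) x
  have hall : ∀ β : MulAut (ProjectiveSpecialLinearGroup (Fin 2) (ZMod 7)), ∃ g, indHom g = β := fun β => by
    obtain ⟨σ, g, rfl⟩ := exists_ind β
    exact ⟨g, by rw [hsub σ]; rfl⟩
  obtain ⟨w, -, hwM⟩ := SetLike.exists_of_lt hMt.lt_top
  obtain ⟨g₀, hg₀⟩ := hall (conjVia M e w)
  have hns : ¬ IsSquare g₀.1.det := fun hs => hwM ((mem_iff_isSquare M e hC h2 hg₀.symm).2 hs)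
  have hsurj : Function.Surjective (conjVia M e) := by
    have hinn : ∀ β ∈ Cfsg.Inn (ProjectiveSpecialLinearGroup (Fin 2) (ZMod 7)), ∃ x, conjVia M e x = β := by
      rintro _ ⟨t, rfl⟩
      exact ⟨((e.symm t : M) : G), by rw [conjVia_mem, MulEquiv.apply_symm_apply]⟩
    intro β
    obtain ⟨g, rfl⟩ := hall β
    by_cases hs : IsSquare g.1.det
    · exact hinn _ ((indHom_mem_inn_iff h2 g).2 hs)
    have hprod : IsSquare (g * g₀).1.det := by
      rw [Units.val_mul, det_mul]
      exact nonsq_mul_seven _ _ hs hns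
    obtain ⟨x, hx⟩ := hinn _ ((indHom_mem_inn_iff h2 _).2 hprod)
    exact ⟨x * w⁻¹, by rw [map_mul, map_inv, hx, ← hg₀, map_mul, mul_inv_cancel_right]⟩
  have hker : center (GL (Fin 2) (ZMod 7)) = (indHom (n := 2) (F := ZMod 7)).ker := by
    ext g
    rw [MonoidHom.mem_ker, GeneralLinearGroup.mem_center_iff_val_eq_scalar]
    constructor
    · rintro ⟨c, hc⟩
      exact indHom_scalar le_rfl (by rw [← hc, scalar_apply, smul_one_eq_diagonal])
    · intro hg
      obtain ⟨c, hc⟩ := scalar_of_indHom le_rfl hg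
      exact ⟨c, by rw [hc, scalar_apply, smul_one_eq_diagonal]⟩
  exact ⟨(MulEquiv.ofBijective _ ⟨conjVia_injective M e hC, hsurj⟩).trans
    ((QuotientGroup.quotientMulEquivOfEq hker).trans
      (QuotientGroup.quotientKerEquivOfSurjective _ hall)).symm⟩

/-- Arithmetic of the inner case. -/
theorem inner_cases {q i : ℕ} (hodd : Odd q) (h5 : 5 ≤ q) (h : invCard q * i = 12) :
    (q = 5 ∧ i = 3) ∨ ((q = 11 ∨ q = 13) ∧ i = 1) := by
  obtain ⟨j, hj⟩ := hodd
  have hle : invCard q ≤ 12 := Nat.le_of_dvd (by norm_num) ⟨i, h.symm⟩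
  have hi : invCard q ∣ 12 := ⟨i, h.symm⟩
  have hcases : q = 5 ∨ q = 7 ∨ q = 9 ∨ q = 11 ∨ q = 13 := by
    unfold invCard at hle
    split_ifs at hle <;> omega
  rcases hcases with rfl | rfl | rfl | rfl | rfl <;> norm_num [invCard] at h hi <;> omega

variable {G : Type u} [Group G] [Finite G] {H : Subgroup G}

/-- The case `H ≅ D₁₂`. -/
theorem Prim.twelve (h : Prim H) (e : H ≃* DihedralGroup 6) :
    Nonempty (G ≃* Equiv.Perm (Fin 5)) ∨
      Nonempty (G ≃* GL (Fin 2) (ZMod 7) ⧸ center (GL (Fin 2) (ZMod 7))) ∨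
      Nonempty (G ≃* ProjectiveSpecialLinearGroup (Fin 2) (ZMod 11)) ∨
      Nonempty (G ≃* ProjectiveSpecialLinearGroup (Fin 2) (ZMod 13)) := by
  classical
  haveI : Fact (Nat.Prime 2) := ⟨Nat.prime_two⟩
  obtain ⟨z, hz, hzH, hC, hH, h4⟩ := h.twelve_center e
  obtain ⟨M, hMn, hM1, hMs, hMt, hMc⟩ := h.twelve_socle hz hzH hC hH h4
  haveI := hMn
  haveI := hMs
  have hzc : ∀ a ∈ H, Commute a z := fun a ha => mem_centralizer_singleton_iff.1 (hC.symm ▸ ha)
  rcases hMt with ⟨F, iF, jF, hodd, h3, ⟨ε⟩⟩ | ⟨⟨ε⟩⟩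
  · have h5 : 5 ≤ Fintype.card F := by
      obtain ⟨j, hj⟩ := hodd
      omega
    have h2 : (2 : F) ≠ 0 := CfsgLib.Perm.Dickson.two_ne_zero_of_odd (by rwa [Nat.card_eq_fintype_card])
    have hMcard : Fintype.card F = 5 → Nat.card M = 60 := fun hq => by
      have hp := CfsgLib.Classical.card_psl2 (F := F)
      rw [hq, ← Nat.card_congr ε.toEquiv] at hp
      norm_num at hp
      omega
    by_cases hzM : z ∈ M
    · have hc := card_cent_invol M ε hodd hz hzM
      rw [hC, hH] at hc
      rcases inner_cases hodd h5 hc.symm with ⟨hq, hi⟩ | ⟨hq, hi⟩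
      · exfalso
        -- the index would be three
        have hns : ¬ Group.IsSolvable M := h.nsol_normal hMn hM1
        obtain ⟨f⟩ := CfsgLib.Invol.AltEightSubgroups.alt_five_of_card_sixty hns (hMcard hq)
        have hMt' : M ≠ ⊤ := fun e' => by rw [e', index_top] at hi; omega
        obtain ⟨g⟩ := equiv_perm_of_alt (n := 5) (by norm_num) (by norm_num) M hMt' hMc f
        have := M.card_mul_index
        rw [hMcard hq, hi, Nat.card_congr g.toEquiv, Nat.card_perm, Nat.card_fin] at this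
        simp [Nat.factorial] at this
      · have htop : M = ⊤ := index_eq_one.1 hi
        let g := (topEquiv.symm.trans (MulEquiv.subgroupCongr htop.symm)).trans ε
        rcases hq with hq | hq
        · haveI : Fact (Nat.Prime 11) := ⟨by norm_num⟩
          obtain ⟨p⟩ := CfsgLib.CIT.psl_congr
            (FiniteField.ringEquivOfCardEq (K := F) (K' := ZMod 11) (by rw [hq, ZMod.card]))
          exact Or.inr (Or.inr (Or.inl ⟨g.trans p⟩))
        · haveI : Fact (Nat.Prime 13) := ⟨by norm_num⟩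
          obtain ⟨p⟩ := CfsgLib.CIT.psl_congr
            (FiniteField.ringEquivOfCardEq (K := F) (K' := ZMod 13) (by rw [hq, ZMod.card]))
          exact Or.inr (Or.inr (Or.inr ⟨g.trans p⟩))
    -- outer involution
    have hMt' : M ≠ ⊤ := fun e' => hzM (e' ▸ mem_top z)
    have hzz : z * z = 1 := by rw [← pow_two, ← hz, pow_orderOf_eq_one]
    set K := ((M ⊓ H).subgroupOf M).map ε.toMonoidHom with hK
    have hKc : Nat.card K = Nat.card (M ⊓ H : Subgroup G) := by
      rw [hK, ← Nat.card_congr (((M ⊓ H).subgroupOf M).equivMapOfInjective _ ε.injective).toEquiv,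
        Nat.card_congr (subgroupOfEquivOfLe inf_le_left).toEquiv]
    have hKd : Nat.card K ∣ 12 := by rw [hKc, ← hH]; exact card_dvd_of_le inf_le_right
    have hK4 : ¬ 4 ∣ Nat.card K := by
      intro h4d
      rw [hKc] at h4d
      obtain ⟨Q, hQ⟩ := Sylow.exists_subgroup_card_pow_prime (G := (M ⊓ H : Subgroup G)) 2 (n := 2) h4d
      set Q' := (Q.map (M ⊓ H : Subgroup G).subtype).subgroupOf H with hQ'
      have hle : Q.map (M ⊓ H : Subgroup G).subtype ≤ H := (map_subtype_le _).trans inf_le_right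
      have hQc : Nat.card Q' = 2 ^ 2 := by
        rw [hQ', Nat.card_congr (subgroupOfEquivOfLe hle).toEquiv,
          ← Nat.card_congr (Q.equivMapOfInjective _ (subtype_injective _)).toEquiv, hQ]
      have hn : zpowers (⟨z, hzH⟩ : H) ≤ normalizer (Q' : Set H) := by
        refine zpowers_le.2 (mem_normalizer_iff.2 fun a => ?_)
        rw [show (⟨z, hzH⟩ : H) * a * (⟨z, hzH⟩ : H)⁻¹ = a from Subtype.ext (by
          show z * a * z⁻¹ = a
          rw [← (hzc a a.2).eq, mul_inv_cancel_right])]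
      have hp : IsPGroup 2 (zpowers (⟨z, hzH⟩ : H)) :=
        IsPGroup.of_card (n := 1) (by rw [Nat.card_zpowers, orderOf_mk, hz, pow_one])
      have hsup := hp.to_sup_of_normal_right' (IsPGroup.of_card hQc) hn
      obtain ⟨m, hm⟩ := IsPGroup.iff_card.1 hsup
      have hd : 2 ^ m ∣ 2 ^ 2 * 3 := by
        rw [← hm, show 2 ^ 2 * 3 = Nat.card H by rw [hH]; norm_num]
        exact card_subgroup_dvd_card _
      have h2m : 2 ^ m ∣ 2 ^ 2 :=
        (Nat.Coprime.pow_left m (by norm_num : Nat.Coprime 2 3)).dvd_of_dvd_mul_right hd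
      have heq := eq_of_le_of_card_ge (le_sup_right : Q' ≤ zpowers (⟨z, hzH⟩ : H) ⊔ Q') (by
        rw [hm, hQc]; exact Nat.le_of_dvd (by norm_num) h2m)
      have hzQ : (⟨z, hzH⟩ : H) ∈ Q' := heq.symm ▸ mem_sup_left (mem_zpowers _)
      exact hzM ((map_subtype_le Q) hzQ).1
    set β := conjVia M ε z with hβ
    have hβ2 : β * β = 1 := by rw [hβ, ← map_mul, hzz, map_one]
    have hβo : β ∉ Cfsg.Inn _ := fun hin => hzM (mem_of_inn M ε hMc hin)
    have hfix : ∀ x, β x = x → x ∈ K := by
      intro x hx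
      rw [hβ, conjVia_apply] at hx
      have h1 : MulAut.conjNormal z (ε.symm x) = ε.symm x := ε.injective (by rw [hx, ε.apply_symm_apply])
      have h2' := congrArg Subtype.val h1
      rw [MulAut.conjNormal_apply] at h2'
      refine ⟨ε.symm x, mem_subgroupOf.2 ⟨(ε.symm x).2, ?_⟩, ε.apply_symm_apply x⟩
      rw [← hC]
      exact mem_centralizer_singleton_iff.2 (mul_inv_eq_iff_eq_mul.1 h2').symm
    rcases outer_cases hodd h5 β hβ2 hβo K hfix with ⟨g, -, -, c, hc, hco, hge⟩ | ⟨σ, -, h4', -⟩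
    · have hc3 : orderOf c ∣ 3 := by
        have hd : orderOf c ∣ 2 ^ 2 * 3 := by
          exact (Subgroup.orderOf_dvd_natCard _ hc).trans hKd
        exact (Nat.Coprime.pow_right 2 (Nat.coprime_two_right.2 hco)).dvd_of_dvd_mul_left hd
      have hc3' : orderOf c ≤ 3 := Nat.le_of_dvd (by norm_num) hc3
      have hq : Fintype.card F = 5 ∨ Fintype.card F = 7 := by
        obtain ⟨j, hj⟩ := hodd
        omega
      rcases hq with hq | hq
      · obtain ⟨f⟩ := CfsgLib.Invol.AltEightSubgroups.alt_five_of_card_sixty (h.nsol_normal hMn hM1) (hMcard hq)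
        exact Or.inl (equiv_perm_of_alt (n := 5) (by norm_num) (by norm_num) M hMt' hMc f)
      · haveI : Fact (Nat.Prime 7) := ⟨by norm_num⟩
        obtain ⟨p⟩ := CfsgLib.CIT.psl_congr
          (FiniteField.ringEquivOfCardEq (K := F) (K' := ZMod 7) (by rw [hq, ZMod.card]))
        exact Or.inr (Or.inl (equiv_pgl_seven M hMc hMt' (ε.trans p)))
    · exact absurd h4' hK4
  · exfalso
    by_cases hzM : z ∈ M
    · obtain ⟨φ, hφ⟩ := exists_aut_altInvol (t := ε ⟨z, hzM⟩) (by rw [MulEquiv.orderOf_eq, orderOf_mk, hz])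
      set y₀ : alternatingGroup (Fin 7) :=
        ⟨Equiv.swap 0 2 * Equiv.swap 2 1 * Equiv.swap 1 3 * Equiv.swap 4 5,
          Equiv.Perm.mem_alternatingGroup.2 (by decide +kernel)⟩ with hy₀
      have hy4 : orderOf y₀ = 4 := by
        have hne : y₀ ^ 2 ≠ 1 := by decide +kernel
        have hp : y₀ ^ 4 = 1 := by decide +kernel
        exact orderOf_eq_prime_pow (p := 2) (n := 1) (by simpa using hne) (by simpa using hp)
      have hyc : y₀ * altInvol = altInvol * y₀ := by decide +kernel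
      let y := ε.symm (φ.symm y₀)
      have hcy : φ.symm y₀ * ε ⟨z, hzM⟩ = ε ⟨z, hzM⟩ * φ.symm y₀ := by
        apply φ.injective
        rw [map_mul, map_mul, φ.apply_symm_apply, hφ, hyc]
      refine h4 (y : G) ?_ (by rw [orderOf_coe, MulEquiv.orderOf_eq, MulEquiv.orderOf_eq, hy4])
      have := congrArg (fun a => ((ε.symm a : M) : G)) hcy
      show (y : G) * z = z * (y : G)
      simpa [y] using this
    · obtain ⟨g⟩ := equiv_perm_of_alt (n := 7) (by norm_num) (by norm_num) M
        (fun e' => hzM (e' ▸ mem_top z)) hMc ε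
      obtain ⟨y, hy, hyo⟩ := perm7_commuting (g z) (by rw [MulEquiv.orderOf_eq, hz])
      refine h4 (g.symm y) ?_ (by rw [MulEquiv.orderOf_eq, hyo])
      have := hy.map g.symm
      rwa [g.symm_apply_apply] at this

end CfsgLib.Recog.SubThree
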